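/-
Recursor based list combinators, which the kernel evaluates several times faster than the
structurally recursive library versions, with their meaning.
-/
import Mathlib

set_option autoImplicit false

namespace Cfsg.Agent.ChevCore

/-- `List.map` -/
noncomputable def kmap {α β : Type} (f : α → β) (L : List α) : List β :=
  List.rec [] (fun a _ acc => f a :: acc) L

/-- `++` -/
noncomputable def kapp {α : Type} (L L' : List α) : List α :=
  List.rec L' (fun a _ acc => a :: acc) L

/-- `List.flatMap` -/
noncomputable def kbind {α β : Type} (f : α → List β) (L : List α) : List β :=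
  List.rec [] (fun a _ acc => kapp (f a) acc) L

/-- `List.all` -/
noncomputable def kall {α : Type} (L : List α) (f : α → Bool) : Bool :=
  List.rec true (fun a _ acc => f a && acc) L

/-- `List.any` -/
noncomputable def kany {α : Type} (L : List α) (f : α → Bool) : Bool :=
  List.rec false (fun a _ acc => f a || acc) L

/-- `f i` holds for all `i < n` -/
noncomputable def kallUpTo (n : ℕ) (f : ℕ → Bool) : Bool :=
  Nat.rec true (fun i acc => f i && acc) n

/-- `f i` holds for some `i < n` -/
noncomputable def kanyUpTo (n : ℕ) (f : ℕ → Bool) : Bool :=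
  Nat.rec false (fun i acc => f i || acc) n

/-- `(List.range n).map f` -/
noncomputable def ktab {α : Type} (n : ℕ) (f : ℕ → α) : List α :=
  Nat.rec (fun _ => []) (fun _ acc i => f i :: acc (Nat.add i 1)) n 0

/-- `List.getD` -/
noncomputable def kget {α : Type} (L : List α) (i : ℕ) (d : α) : α :=
  List.rec (fun _ => d) (fun a _ acc i => bif Nat.beq i 0 then a else acc (Nat.sub i 1)) L i

/-- pointwise test on two lists of equal length -/
noncomputable def kall2 {α β : Type} (L : List α) (L' : List β) (f : α → β → Bool) : Bool :=
  List.rec (fun L' => L'.isEmpty)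
    (fun a _ acc L' => List.rec (false) (fun b t _ => f a b && acc t) L') L L'

theorem kmap_eq {α β : Type} (f : α → β) (L : List α) : kmap f L = L.map f := by
  induction L with
  | nil => rfl
  | cons a L ih => rw [List.map_cons, ← ih]; rfl

theorem kapp_eq {α : Type} (L L' : List α) : kapp L L' = L ++ L' := by
  induction L with
  | nil => rfl
  | cons a L ih => rw [List.cons_append, ← ih]; rfl

theorem kbind_eq {α β : Type} (f : α → List β) (L : List α) : kbind f L = L.flatMap f := by
  induction L with
  | nil => rfl
  | cons a L ih => rw [List.flatMap_cons, ← ih, ← kapp_eq]; rfl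

theorem kall_iff {α : Type} (L : List α) (f : α → Bool) :
    kall L f = true ↔ ∀ a ∈ L, f a = true := by
  induction L with
  | nil => simp [kall]
  | cons a L ih =>
    show (f a && kall L f) = true ↔ _
    simp [ih]

theorem kany_iff {α : Type} (L : List α) (f : α → Bool) :
    kany L f = true ↔ ∃ a ∈ L, f a = true := by
  induction L with
  | nil => simp [kany]
  | cons a L ih =>
    show (f a || kany L f) = true ↔ _
    simp [ih]

theorem kallUpTo_iff (n : ℕ) (f : ℕ → Bool) :
    kallUpTo n f = true ↔ ∀ i < n, f i = true := by
  induction n with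
  | zero => simp [kallUpTo]
  | succ n ih =>
    show (f n && kallUpTo n f) = true ↔ _
    rw [Bool.and_eq_true, ih]
    refine ⟨fun h i hi => ?_, fun h => ⟨h n (by omega), fun i hi => h i (by omega)⟩⟩
    rcases Nat.lt_succ_iff_lt_or_eq.1 hi with hi | rfl
    · exact h.2 i hi
    · exact h.1

theorem kanyUpTo_iff (n : ℕ) (f : ℕ → Bool) :
    kanyUpTo n f = true ↔ ∃ i < n, f i = true := by
  induction n with
  | zero => simp [kanyUpTo]
  | succ n ih =>
    show (f n || kanyUpTo n f) = true ↔ _
    rw [Bool.or_eq_true, ih]
    constructor
    · rintro (h | ⟨i, hi, h⟩)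
      · exact ⟨n, by omega, h⟩
      · exact ⟨i, by omega, h⟩
    · rintro ⟨i, hi, h⟩
      rcases Nat.lt_succ_iff_lt_or_eq.1 hi with hi | rfl
      · exact Or.inr ⟨i, hi, h⟩
      · exact Or.inl h

theorem ktab_eq {α : Type} (n : ℕ) (f : ℕ → α) : ktab n f = (List.range n).map f := by
  suffices h : ∀ (n j : ℕ), (Nat.rec (motive := fun _ => ℕ → List α) (fun _ => [])
      (fun _ acc i => f i :: acc (Nat.add i 1)) n j) = (List.range' j n).map f by
    rw [List.range_eq_range']; exact h n 0
  intro n
  induction n with
  | zero => intro j; rfl
  | succ n ih => intro j; simp only [List.range'_succ, List.map_cons, ← ih (j + 1)]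

theorem kget_eq {α : Type} (L : List α) (i : ℕ) (d : α) : kget L i d = L.getD i d := by
  induction L generalizing i with
  | nil => rfl
  | cons a L ih =>
    cases i with
    | zero => rfl
    | succ i =>
      show kget L (i + 1 - 1) d = _
      simp [ih]

theorem kall2_iff {α β : Type} (L : List α) (L' : List β) (f : α → β → Bool) :
    kall2 L L' f = true ↔ L.length = L'.length ∧
      ∀ (i : ℕ) (a : α) (b : β), L[i]? = some a → L'[i]? = some b → f a b = true := by
  induction L generalizing L' with
  | nil => cases L' <;> simp [kall2]
  | cons a L ih =>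
    cases L' with
    | nil => simp [kall2]
    | cons b L' =>
      show (f a b && kall2 L L' f) = true ↔ _
      rw [Bool.and_eq_true, ih]
      constructor
      · rintro ⟨h0, hl, hi⟩
        refine ⟨by simp [hl], fun i => ?_⟩
        cases i with
        | zero => simpa using h0
        | succ i => simpa using hi i
      · rintro ⟨hl, hi⟩
        exact ⟨by simpa using hi 0, by simpa using hl, fun i => by simpa using hi (i + 1)⟩

end Cfsg.Agent.ChevCore
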