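/-
Literal tables for the Chevalley data (generated from the comments and chain tables of Cfsg.Prelude).
-/
import Mathlib
set_option autoImplicit false

namespace Cfsg.Agent.ChevCore

/-- binary search tree over an initial segment of `ℕ` -/
inductive Tree (α : Type) : Type where
  | leaf (a : α) : Tree α
  | node (k : ℕ) (l r : Tree α) : Tree α

/-- value at an index -/
noncomputable def Tree.get {α : Type} (t : Tree α) : ℕ → α :=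
  Cfsg.Agent.ChevCore.Tree.rec (fun a _ => a)
    (fun k _ _ gl gr i => bif Nat.blt i k then gl i else gr i) t

/-- root coefficient vectors of type G2 -/
def rvG2 : Tree (List ℤ) := .node 6 (.node 3 (.node 1 (.leaf [-3, -2]) (.node 2 (.leaf [-3, -1]) (.leaf [-2, -1]))) (.node 4 (.leaf [-1, -1]) (.node 5 (.leaf [-1, 0]) (.leaf [0, -1])))) (.node 9 (.node 7 (.leaf [0, 1]) (.node 8 (.leaf [1, 0]) (.leaf [1, 1]))) (.node 10 (.leaf [2, 1]) (.node 11 (.leaf [3, 1]) (.leaf [3, 2]))))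

/-- root coefficient vectors of type B2 -/
def rvB2 : Tree (List ℤ) := .node 4 (.node 2 (.node 1 (.leaf [-2, -1]) (.leaf [-1, -1])) (.node 3 (.leaf [-1, 0]) (.leaf [0, -1]))) (.node 6 (.node 5 (.leaf [0, 1]) (.leaf [1, 0])) (.node 7 (.leaf [1, 1]) (.leaf [2, 1])))

/-- root coefficient vectors of type D4 -/
def rvD4 : Tree (List ℤ) := .node 12 (.node 6 (.node 3 (.node 1 (.leaf [-1, -2, -1, -1]) (.node 2 (.leaf [-1, -1, -1, -1]) (.leaf [-1, -1, -1, 0]))) (.node 4 (.leaf [-1, -1, 0, -1]) (.node 5 (.leaf [-1, -1, 0, 0]) (.leaf [-1, 0, 0, 0])))) (.node 9 (.node 7 (.leaf [0, -1, -1, -1]) (.node 8 (.leaf [0, -1, -1, 0]) (.leaf [0, -1, 0, -1]))) (.node 10 (.leaf [0, -1, 0, 0]) (.node 11 (.leaf [0, 0, -1, 0]) (.leaf [0, 0, 0, -1]))))) (.node 18 (.node 15 (.node 13 (.leaf [0, 0, 0, 1]) (.node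 14 (.leaf [0, 0, 1, 0]) (.leaf [0, 1, 0, 0]))) (.node 16 (.leaf [0, 1, 0, 1]) (.node 17 (.leaf [0, 1, 1, 0]) (.leaf [0, 1, 1, 1])))) (.node 21 (.node 19 (.leaf [1, 0, 0, 0]) (.node 20 (.leaf [1, 1, 0, 0]) (.leaf [1, 1, 0, 1]))) (.node 22 (.leaf [1, 1, 1, 0]) (.node 23 (.leaf [1, 1, 1, 1]) (.leaf [1, 2, 1, 1])))))

/-- root coefficient vectors of type F4 -/
def rvF4 : Tree (List ℤ) := .node 24 (.node 12 (.node 6 (.node 3 (.node 1 (.leaf [-2, -4, -3, -2]) (.node 2 (.leaf [-2, -4, -3, -1]) (.leaf [-2, -4, -2, -1]))) (.node 4 (.leaf [-2, -3, -2, -1]) (.node 5 (.leaf [-2, -2, -2, -1]) (.leaf [-2, -2, -1, -1])))) (.node 9 (.node 7 (.leaf [-2, -2, -1, 0]) (.node 8 (.leaf [-1, -3, -2, -1]) (.leaf [-1, -2, -2, -1]))) (.node 10 (.leaf [-1, -2, -1, -1]) (.node 11 (.leaf [-1, -2, -1, 0]) (.leaf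 [-1, -1, -1, -1]))))) (.node 18 (.node 15 (.node 13 (.leaf [-1, -1, -1, 0]) (.node 14 (.leaf [-1, -1, 0, 0]) (.leaf [-1, 0, 0, 0]))) (.node 16 (.leaf [0, -2, -2, -1]) (.node 17 (.leaf [0, -2, -1, -1]) (.leaf [0, -2, -1, 0])))) (.node 21 (.node 19 (.leaf [0, -1, -1, -1]) (.node 20 (.leaf [0, -1, -1, 0]) (.leaf [0, -1, 0, 0]))) (.node 22 (.leaf [0, 0, -1, -1]) (.node 23 (.leaf [0, 0, -1, 0]) (.leaf [0, 0, 0, -1])))))) (.node 36 (.node 30 (.node 27 (.node 25 (.leaf [0, 0, 0, 1]) (.node 26 (.leaf [0, 0, 1, 0]) (.leaf [0, 0, 1, 1]))) (.node 28 (.leaf [0, 1, 0, 0]) (.node 29 (.leaf [0, 1, 1, 0]) (.leaf [0, 1, 1, 1])))) (.node 33 (.node 31 (.leaf [0, 2, 1, 0]) (.node 32 (.leaf [0, 2, 1, 1]) (.leaf [0, 2, 2, 1]))) (.node 34 (.leaf [1, 0, 0, 0]) (.node 35 (.leaf [1, 1, 0, 0]) (.leaf [1, 1,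 1, 0]))))) (.node 42 (.node 39 (.node 37 (.leaf [1, 1, 1, 1]) (.node 38 (.leaf [1, 2, 1, 0]) (.leaf [1, 2, 1, 1]))) (.node 40 (.leaf [1, 2, 2, 1]) (.node 41 (.leaf [1, 3, 2, 1]) (.leaf [2, 2, 1, 0])))) (.node 45 (.node 43 (.leaf [2, 2, 1, 1]) (.node 44 (.leaf [2, 2, 2, 1]) (.leaf [2, 3, 2, 1]))) (.node 46 (.leaf [2, 4, 2, 1]) (.node 47 (.leaf [2, 4, 3, 1]) (.leaf [2, 4, 3, 2]))))))

/-- root coefficient vectors of type E6 -/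
def rvE6 : Tree (List ℤ) := .node 36 (.node 18 (.node 9 (.node 4 (.node 2 (.node 1 (.leaf [-1, -2, -2, -3, -2, -1]) (.leaf [-1, -1, -2, -3, -2, -1])) (.node 3 (.leaf [-1, -1, -2, -2, -2, -1]) (.leaf [-1, -1, -2, -2, -1, -1]))) (.node 6 (.node 5 (.leaf [-1, -1, -2, -2, -1, 0]) (.leaf [-1, -1, -1, -2, -2, -1])) (.node 7 (.leaf [-1, -1, -1, -2, -1, -1]) (.node 8 (.leaf [-1, -1, -1, -2, -1, 0]) (.leaf [-1, -1, -1, -1, -1, -1]))))) (.node 13 (.node 11 (.node 10 (.leaf [-1, -1, -1, -1, -1, 0]) (.leaf [-1, -1, -1, -1, 0, 0])) (.node 12 (.leaf [-1, 0, -1, -1, -1, -1]) (.leaf [-1, 0, -1, -1, -1, 0]))) (.node 15 (.node 14 (.leaf [-1, 0, -1, -1, 0, 0]) (.leaf [-1, 0, -1, 0, 0, 0])) (.node 16 (.leaf [-1, 0, 0, 0, 0, 0]) (.node 17 (.leaf [0, -1, -1, -2, -2, -1]) (.leaf [0, -1, -1, -2, -1, -1]))))))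 (.node 27 (.node 22 (.node 20 (.node 19 (.leaf [0, -1, -1, -2, -1, 0]) (.leaf [0, -1, -1, -1, -1, -1])) (.node 21 (.leaf [0, -1, -1, -1, -1, 0]) (.leaf [0, -1, -1, -1, 0, 0]))) (.node 24 (.node 23 (.leaf [0, -1, 0, -1, -1, -1]) (.leaf [0, -1, 0, -1, -1, 0])) (.node 25 (.leaf [0, -1, 0, -1, 0, 0]) (.node 26 (.leaf [0, -1, 0, 0, 0, 0]) (.leaf [0, 0, -1, -1, -1, -1]))))) (.node 31 (.node 29 (.node 28 (.leaf [0, 0, -1, -1, -1, 0]) (.leaf [0, 0, -1, -1, 0, 0])) (.node 30 (.leaf [0, 0, -1, 0, 0, 0]) (.leaf [0, 0, 0, -1, -1, -1]))) (.node 33 (.node 32 (.leaf [0, 0, 0, -1, -1, 0]) (.leaf [0, 0, 0, -1, 0, 0])) (.node 34 (.leaf [0, 0, 0, 0, -1, -1]) (.node 35 (.leaf [0, 0, 0, 0, -1, 0]) (.leaf [0, 0, 0, 0, 0, -1]))))))) (.node 54 (.node 45 (.node 40 (.node 38 (.node 37 (.leaf [0, 0, 0, 0,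 0, 1]) (.leaf [0, 0, 0, 0, 1, 0])) (.node 39 (.leaf [0, 0, 0, 0, 1, 1]) (.leaf [0, 0, 0, 1, 0, 0]))) (.node 42 (.node 41 (.leaf [0, 0, 0, 1, 1, 0]) (.leaf [0, 0, 0, 1, 1, 1])) (.node 43 (.leaf [0, 0, 1, 0, 0, 0]) (.node 44 (.leaf [0, 0, 1, 1, 0, 0]) (.leaf [0, 0, 1, 1, 1, 0]))))) (.node 49 (.node 47 (.node 46 (.leaf [0, 0, 1, 1, 1, 1]) (.leaf [0, 1, 0, 0, 0, 0])) (.node 48 (.leaf [0, 1, 0, 1, 0, 0]) (.leaf [0, 1, 0, 1, 1, 0]))) (.node 51 (.node 50 (.leaf [0, 1, 0, 1, 1, 1]) (.leaf [0, 1, 1, 1, 0, 0])) (.node 52 (.leaf [0, 1, 1, 1, 1, 0]) (.node 53 (.leaf [0, 1, 1, 1, 1, 1]) (.leaf [0, 1, 1, 2, 1, 0])))))) (.node 63 (.node 58 (.node 56 (.node 55 (.leaf [0, 1, 1, 2, 1, 1]) (.leaf [0, 1, 1, 2, 2, 1])) (.node 57 (.leaf [1, 0, 0, 0, 0, 0]) (.leaf [1, 0, 1, 0, 0, 0]))) (.node 60 (.node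 59 (.leaf [1, 0, 1, 1, 0, 0]) (.leaf [1, 0, 1, 1, 1, 0])) (.node 61 (.leaf [1, 0, 1, 1, 1, 1]) (.node 62 (.leaf [1, 1, 1, 1, 0, 0]) (.leaf [1, 1, 1, 1, 1, 0]))))) (.node 67 (.node 65 (.node 64 (.leaf [1, 1, 1, 1, 1, 1]) (.leaf [1, 1, 1, 2, 1, 0])) (.node 66 (.leaf [1, 1, 1, 2, 1, 1]) (.leaf [1, 1, 1, 2, 2, 1]))) (.node 69 (.node 68 (.leaf [1, 1, 2, 2, 1, 0]) (.leaf [1, 1, 2, 2, 1, 1])) (.node 70 (.leaf [1, 1, 2, 2, 2, 1]) (.node 71 (.leaf [1, 1, 2, 3, 2, 1]) (.leaf [1, 2, 2, 3, 2, 1])))))))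

/-- root coefficient vectors of type E7 -/
def rvE7 : Tree (List ℤ) := .node 63 (.node 31 (.node 15 (.node 7 (.node 3 (.node 1 (.leaf [-2, -2, -3, -4, -3, -2, -1]) (.node 2 (.leaf [-1, -2, -3, -4, -3, -2, -1]) (.leaf [-1, -2, -2, -4, -3, -2, -1]))) (.node 5 (.node 4 (.leaf [-1, -2, -2, -3, -3, -2, -1]) (.leaf [-1, -2, -2, -3, -2, -2, -1])) (.node 6 (.leaf [-1, -2, -2, -3, -2, -1, -1]) (.leaf [-1, -2, -2, -3, -2, -1, 0])))) (.node 11 (.node 9 (.node 8 (.leaf [-1, -1, -2, -3, -3, -2, -1]) (.leaf [-1, -1, -2, -3, -2, -2, -1])) (.node 10 (.leaf [-1, -1, -2, -3, -2, -1, -1]) (.leaf [-1, -1, -2, -3, -2, -1, 0]))) (.node 13 (.node 12 (.leaf [-1, -1, -2, -2, -2, -2, -1]) (.leaf [-1, -1, -2, -2, -2, -1, -1])) (.node 14 (.leaf [-1, -1, -2, -2, -2, -1, 0]) (.leaf [-1, -1, -2, -2, -1, -1, -1])))))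 (.node 23 (.node 19 (.node 17 (.node 16 (.leaf [-1, -1, -2, -2, -1, -1, 0]) (.leaf [-1, -1, -2, -2, -1, 0, 0])) (.node 18 (.leaf [-1, -1, -1, -2, -2, -2, -1]) (.leaf [-1, -1, -1, -2, -2, -1, -1]))) (.node 21 (.node 20 (.leaf [-1, -1, -1, -2, -2, -1, 0]) (.leaf [-1, -1, -1, -2, -1, -1, -1])) (.node 22 (.leaf [-1, -1, -1, -2, -1, -1, 0]) (.leaf [-1, -1, -1, -2, -1, 0, 0])))) (.node 27 (.node 25 (.node 24 (.leaf [-1, -1, -1, -1, -1, -1, -1]) (.leaf [-1, -1, -1, -1, -1, -1, 0])) (.node 26 (.leaf [-1, -1, -1, -1, -1, 0, 0]) (.leaf [-1, -1, -1, -1, 0, 0, 0]))) (.node 29 (.node 28 (.leaf [-1, 0, -1, -1, -1, -1, -1]) (.leaf [-1, 0, -1, -1, -1, -1, 0])) (.node 30 (.leaf [-1, 0, -1, -1, -1, 0, 0]) (.leaf [-1, 0, -1, -1, 0, 0, 0])))))) (.node 47 (.node 39 (.node 35 (.node 33 (.node 32 (.leaf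 [-1, 0, -1, 0, 0, 0, 0]) (.leaf [-1, 0, 0, 0, 0, 0, 0])) (.node 34 (.leaf [0, -1, -1, -2, -2, -2, -1]) (.leaf [0, -1, -1, -2, -2, -1, -1]))) (.node 37 (.node 36 (.leaf [0, -1, -1, -2, -2, -1, 0]) (.leaf [0, -1, -1, -2, -1, -1, -1])) (.node 38 (.leaf [0, -1, -1, -2, -1, -1, 0]) (.leaf [0, -1, -1, -2, -1, 0, 0])))) (.node 43 (.node 41 (.node 40 (.leaf [0, -1, -1, -1, -1, -1, -1]) (.leaf [0, -1, -1, -1, -1, -1, 0])) (.node 42 (.leaf [0, -1, -1, -1, -1, 0, 0]) (.leaf [0, -1, -1, -1, 0, 0, 0]))) (.node 45 (.node 44 (.leaf [0, -1, 0, -1, -1, -1, -1]) (.leaf [0, -1, 0, -1, -1, -1, 0])) (.node 46 (.leaf [0, -1, 0, -1, -1, 0, 0]) (.leaf [0, -1, 0, -1, 0, 0, 0]))))) (.node 55 (.node 51 (.node 49 (.node 48 (.leaf [0, -1, 0, 0, 0, 0, 0]) (.leaf [0, 0, -1, -1, -1, -1, -1])) (.node 50 (.leaf [0,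 0, -1, -1, -1, -1, 0]) (.leaf [0, 0, -1, -1, -1, 0, 0]))) (.node 53 (.node 52 (.leaf [0, 0, -1, -1, 0, 0, 0]) (.leaf [0, 0, -1, 0, 0, 0, 0])) (.node 54 (.leaf [0, 0, 0, -1, -1, -1, -1]) (.leaf [0, 0, 0, -1, -1, -1, 0])))) (.node 59 (.node 57 (.node 56 (.leaf [0, 0, 0, -1, -1, 0, 0]) (.leaf [0, 0, 0, -1, 0, 0, 0])) (.node 58 (.leaf [0, 0, 0, 0, -1, -1, -1]) (.leaf [0, 0, 0, 0, -1, -1, 0]))) (.node 61 (.node 60 (.leaf [0, 0, 0, 0, -1, 0, 0]) (.leaf [0, 0, 0, 0, 0, -1, -1])) (.node 62 (.leaf [0, 0, 0, 0, 0, -1, 0]) (.leaf [0, 0, 0, 0, 0, 0, -1]))))))) (.node 94 (.node 78 (.node 70 (.node 66 (.node 64 (.leaf [0, 0, 0, 0, 0, 0, 1]) (.node 65 (.leaf [0, 0, 0, 0, 0, 1, 0]) (.leaf [0, 0, 0, 0, 0, 1, 1]))) (.node 68 (.node 67 (.leaf [0, 0, 0, 0, 1, 0, 0]) (.leaf [0, 0, 0, 0, 1, 1, 0])) (.node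 69 (.leaf [0, 0, 0, 0, 1, 1, 1]) (.leaf [0, 0, 0, 1, 0, 0, 0])))) (.node 74 (.node 72 (.node 71 (.leaf [0, 0, 0, 1, 1, 0, 0]) (.leaf [0, 0, 0, 1, 1, 1, 0])) (.node 73 (.leaf [0, 0, 0, 1, 1, 1, 1]) (.leaf [0, 0, 1, 0, 0, 0, 0]))) (.node 76 (.node 75 (.leaf [0, 0, 1, 1, 0, 0, 0]) (.leaf [0, 0, 1, 1, 1, 0, 0])) (.node 77 (.leaf [0, 0, 1, 1, 1, 1, 0]) (.leaf [0, 0, 1, 1, 1, 1, 1]))))) (.node 86 (.node 82 (.node 80 (.node 79 (.leaf [0, 1, 0, 0, 0, 0, 0]) (.leaf [0, 1, 0, 1, 0, 0, 0])) (.node 81 (.leaf [0, 1, 0, 1, 1, 0, 0]) (.leaf [0, 1, 0, 1, 1, 1, 0]))) (.node 84 (.node 83 (.leaf [0, 1, 0, 1, 1, 1, 1]) (.leaf [0, 1, 1, 1, 0, 0, 0])) (.node 85 (.leaf [0, 1, 1, 1, 1, 0, 0]) (.leaf [0, 1, 1, 1, 1, 1, 0])))) (.node 90 (.node 88 (.node 87 (.leaf [0, 1, 1, 1, 1, 1, 1]) (.leaf [0, 1, 1, 2,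 1, 0, 0])) (.node 89 (.leaf [0, 1, 1, 2, 1, 1, 0]) (.leaf [0, 1, 1, 2, 1, 1, 1]))) (.node 92 (.node 91 (.leaf [0, 1, 1, 2, 2, 1, 0]) (.leaf [0, 1, 1, 2, 2, 1, 1])) (.node 93 (.leaf [0, 1, 1, 2, 2, 2, 1]) (.leaf [1, 0, 0, 0, 0, 0, 0])))))) (.node 110 (.node 102 (.node 98 (.node 96 (.node 95 (.leaf [1, 0, 1, 0, 0, 0, 0]) (.leaf [1, 0, 1, 1, 0, 0, 0])) (.node 97 (.leaf [1, 0, 1, 1, 1, 0, 0]) (.leaf [1, 0, 1, 1, 1, 1, 0]))) (.node 100 (.node 99 (.leaf [1, 0, 1, 1, 1, 1, 1]) (.leaf [1, 1, 1, 1, 0, 0, 0])) (.node 101 (.leaf [1, 1, 1, 1, 1, 0, 0]) (.leaf [1, 1, 1, 1, 1, 1, 0])))) (.node 106 (.node 104 (.node 103 (.leaf [1, 1, 1, 1, 1, 1, 1]) (.leaf [1, 1, 1, 2, 1, 0, 0])) (.node 105 (.leaf [1, 1, 1, 2, 1, 1, 0]) (.leaf [1, 1, 1, 2, 1, 1, 1]))) (.node 108 (.node 107 (.leaf [1, 1, 1, 2, 2,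 1, 0]) (.leaf [1, 1, 1, 2, 2, 1, 1])) (.node 109 (.leaf [1, 1, 1, 2, 2, 2, 1]) (.leaf [1, 1, 2, 2, 1, 0, 0]))))) (.node 118 (.node 114 (.node 112 (.node 111 (.leaf [1, 1, 2, 2, 1, 1, 0]) (.leaf [1, 1, 2, 2, 1, 1, 1])) (.node 113 (.leaf [1, 1, 2, 2, 2, 1, 0]) (.leaf [1, 1, 2, 2, 2, 1, 1]))) (.node 116 (.node 115 (.leaf [1, 1, 2, 2, 2, 2, 1]) (.leaf [1, 1, 2, 3, 2, 1, 0])) (.node 117 (.leaf [1, 1, 2, 3, 2, 1, 1]) (.leaf [1, 1, 2, 3, 2, 2, 1])))) (.node 122 (.node 120 (.node 119 (.leaf [1, 1, 2, 3, 3, 2, 1]) (.leaf [1, 2, 2, 3, 2, 1, 0])) (.node 121 (.leaf [1, 2, 2, 3, 2, 1, 1]) (.leaf [1, 2, 2, 3, 2, 2, 1]))) (.node 124 (.node 123 (.leaf [1, 2, 2, 3, 3, 2, 1]) (.leaf [1, 2, 2, 4, 3, 2, 1])) (.node 125 (.leaf [1, 2, 3, 4, 3, 2, 1]) (.leaf [2, 2, 3, 4, 3, 2, 1])))))))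

/-- root coefficient vectors of type E8 -/
def rvE8 : Tree (List ℤ) := .node 120 (.node 60 (.node 30 (.node 15 (.node 7 (.node 3 (.node 1 (.leaf [-2, -3, -4, -6, -5, -4, -3, -2]) (.node 2 (.leaf [-2, -3, -4, -6, -5, -4, -3, -1]) (.leaf [-2, -3, -4, -6, -5, -4, -2, -1]))) (.node 5 (.node 4 (.leaf [-2, -3, -4, -6, -5, -3, -2, -1]) (.leaf [-2, -3, -4, -6, -4, -3, -2, -1])) (.node 6 (.leaf [-2, -3, -4, -5, -4, -3, -2, -1]) (.leaf [-2, -3, -3, -5, -4, -3, -2, -1])))) (.node 11 (.node 9 (.node 8 (.leaf [-2, -2, -4, -5, -4, -3, -2, -1]) (.leaf [-2, -2, -3, -5, -4, -3, -2, -1])) (.node 10 (.leaf [-2, -2, -3, -4, -4, -3, -2, -1]) (.leaf [-2, -2, -3, -4, -3, -3, -2, -1]))) (.node 13 (.node 12 (.leaf [-2, -2, -3, -4, -3, -2, -2, -1]) (.leaf [-2, -2, -3, -4, -3, -2, -1, -1])) (.node 14 (.leaf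 [-2, -2, -3, -4, -3, -2, -1, 0]) (.leaf [-1, -3, -3, -5, -4, -3, -2, -1]))))) (.node 22 (.node 18 (.node 16 (.leaf [-1, -2, -3, -5, -4, -3, -2, -1]) (.node 17 (.leaf [-1, -2, -3, -4, -4, -3, -2, -1]) (.leaf [-1, -2, -3, -4, -3, -3, -2, -1]))) (.node 20 (.node 19 (.leaf [-1, -2, -3, -4, -3, -2, -2, -1]) (.leaf [-1, -2, -3, -4, -3, -2, -1, -1])) (.node 21 (.leaf [-1, -2, -3, -4, -3, -2, -1, 0]) (.leaf [-1, -2, -2, -4, -4, -3, -2, -1])))) (.node 26 (.node 24 (.node 23 (.leaf [-1, -2, -2, -4, -3, -3, -2, -1]) (.leaf [-1, -2, -2, -4, -3, -2, -2, -1])) (.node 25 (.leaf [-1, -2, -2, -4, -3, -2, -1, -1]) (.leaf [-1, -2, -2, -4, -3, -2, -1, 0]))) (.node 28 (.node 27 (.leaf [-1, -2, -2, -3, -3, -3, -2, -1]) (.leaf [-1, -2, -2, -3, -3, -2, -2, -1])) (.node 29 (.leaf [-1, -2, -2, -3, -3, -2,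 -1, -1]) (.leaf [-1, -2, -2, -3, -3, -2, -1, 0])))))) (.node 45 (.node 37 (.node 33 (.node 31 (.leaf [-1, -2, -2, -3, -2, -2, -2, -1]) (.node 32 (.leaf [-1, -2, -2, -3, -2, -2, -1, -1]) (.leaf [-1, -2, -2, -3, -2, -2, -1, 0]))) (.node 35 (.node 34 (.leaf [-1, -2, -2, -3, -2, -1, -1, -1]) (.leaf [-1, -2, -2, -3, -2, -1, -1, 0])) (.node 36 (.leaf [-1, -2, -2, -3, -2, -1, 0, 0]) (.leaf [-1, -1, -2, -3, -3, -3, -2, -1])))) (.node 41 (.node 39 (.node 38 (.leaf [-1, -1, -2, -3, -3, -2, -2, -1]) (.leaf [-1, -1, -2, -3, -3, -2, -1, -1])) (.node 40 (.leaf [-1, -1, -2, -3, -3, -2, -1, 0]) (.leaf [-1, -1, -2, -3, -2, -2, -2, -1]))) (.node 43 (.node 42 (.leaf [-1, -1, -2, -3, -2, -2, -1, -1]) (.leaf [-1, -1, -2, -3, -2, -2, -1, 0])) (.node 44 (.leaf [-1, -1, -2, -3, -2, -1, -1, -1]) (.leaf [-1,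 -1, -2, -3, -2, -1, -1, 0]))))) (.node 52 (.node 48 (.node 46 (.leaf [-1, -1, -2, -3, -2, -1, 0, 0]) (.node 47 (.leaf [-1, -1, -2, -2, -2, -2, -2, -1]) (.leaf [-1, -1, -2, -2, -2, -2, -1, -1]))) (.node 50 (.node 49 (.leaf [-1, -1, -2, -2, -2, -2, -1, 0]) (.leaf [-1, -1, -2, -2, -2, -1, -1, -1])) (.node 51 (.leaf [-1, -1, -2, -2, -2, -1, -1, 0]) (.leaf [-1, -1, -2, -2, -2, -1, 0, 0])))) (.node 56 (.node 54 (.node 53 (.leaf [-1, -1, -2, -2, -1, -1, -1, -1]) (.leaf [-1, -1, -2, -2, -1, -1, -1, 0])) (.node 55 (.leaf [-1, -1, -2, -2, -1, -1, 0, 0]) (.leaf [-1, -1, -2, -2, -1, 0, 0, 0]))) (.node 58 (.node 57 (.leaf [-1, -1, -1, -2, -2, -2, -2, -1]) (.leaf [-1, -1, -1, -2, -2, -2, -1, -1])) (.node 59 (.leaf [-1, -1, -1, -2, -2, -2, -1, 0]) (.leaf [-1, -1, -1, -2, -2, -1, -1, -1])))))))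 (.node 90 (.node 75 (.node 67 (.node 63 (.node 61 (.leaf [-1, -1, -1, -2, -2, -1, -1, 0]) (.node 62 (.leaf [-1, -1, -1, -2, -2, -1, 0, 0]) (.leaf [-1, -1, -1, -2, -1, -1, -1, -1]))) (.node 65 (.node 64 (.leaf [-1, -1, -1, -2, -1, -1, -1, 0]) (.leaf [-1, -1, -1, -2, -1, -1, 0, 0])) (.node 66 (.leaf [-1, -1, -1, -2, -1, 0, 0, 0]) (.leaf [-1, -1, -1, -1, -1, -1, -1, -1])))) (.node 71 (.node 69 (.node 68 (.leaf [-1, -1, -1, -1, -1, -1, -1, 0]) (.leaf [-1, -1, -1, -1, -1, -1, 0, 0])) (.node 70 (.leaf [-1, -1, -1, -1, -1, 0, 0, 0]) (.leaf [-1, -1, -1, -1, 0, 0, 0, 0]))) (.node 73 (.node 72 (.leaf [-1, 0, -1, -1, -1, -1, -1, -1]) (.leaf [-1, 0, -1, -1, -1, -1, -1, 0])) (.node 74 (.leaf [-1, 0, -1, -1, -1, -1, 0, 0]) (.leaf [-1, 0, -1, -1, -1, 0, 0, 0]))))) (.node 82 (.node 78 (.node 76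 (.leaf [-1, 0, -1, -1, 0, 0, 0, 0]) (.node 77 (.leaf [-1, 0, -1, 0, 0, 0, 0, 0]) (.leaf [-1, 0, 0, 0, 0, 0, 0, 0]))) (.node 80 (.node 79 (.leaf [0, -1, -1, -2, -2, -2, -2, -1]) (.leaf [0, -1, -1, -2, -2, -2, -1, -1])) (.node 81 (.leaf [0, -1, -1, -2, -2, -2, -1, 0]) (.leaf [0, -1, -1, -2, -2, -1, -1, -1])))) (.node 86 (.node 84 (.node 83 (.leaf [0, -1, -1, -2, -2, -1, -1, 0]) (.leaf [0, -1, -1, -2, -2, -1, 0, 0])) (.node 85 (.leaf [0, -1, -1, -2, -1, -1, -1, -1]) (.leaf [0, -1, -1, -2, -1, -1, -1, 0]))) (.node 88 (.node 87 (.leaf [0, -1, -1, -2, -1, -1, 0, 0]) (.leaf [0, -1, -1, -2, -1, 0, 0, 0])) (.node 89 (.leaf [0, -1, -1, -1, -1, -1, -1, -1]) (.leaf [0, -1, -1, -1, -1, -1, -1, 0])))))) (.node 105 (.node 97 (.node 93 (.node 91 (.leaf [0, -1, -1, -1, -1, -1, 0, 0]) (.node 92 (.leaf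 [0, -1, -1, -1, -1, 0, 0, 0]) (.leaf [0, -1, -1, -1, 0, 0, 0, 0]))) (.node 95 (.node 94 (.leaf [0, -1, 0, -1, -1, -1, -1, -1]) (.leaf [0, -1, 0, -1, -1, -1, -1, 0])) (.node 96 (.leaf [0, -1, 0, -1, -1, -1, 0, 0]) (.leaf [0, -1, 0, -1, -1, 0, 0, 0])))) (.node 101 (.node 99 (.node 98 (.leaf [0, -1, 0, -1, 0, 0, 0, 0]) (.leaf [0, -1, 0, 0, 0, 0, 0, 0])) (.node 100 (.leaf [0, 0, -1, -1, -1, -1, -1, -1]) (.leaf [0, 0, -1, -1, -1, -1, -1, 0]))) (.node 103 (.node 102 (.leaf [0, 0, -1, -1, -1, -1, 0, 0]) (.leaf [0, 0, -1, -1, -1, 0, 0, 0])) (.node 104 (.leaf [0, 0, -1, -1, 0, 0, 0, 0]) (.leaf [0, 0, -1, 0, 0, 0, 0, 0]))))) (.node 112 (.node 108 (.node 106 (.leaf [0, 0, 0, -1, -1, -1, -1, -1]) (.node 107 (.leaf [0, 0, 0, -1, -1, -1, -1, 0]) (.leaf [0, 0, 0, -1, -1, -1, 0, 0]))) (.node 110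 (.node 109 (.leaf [0, 0, 0, -1, -1, 0, 0, 0]) (.leaf [0, 0, 0, -1, 0, 0, 0, 0])) (.node 111 (.leaf [0, 0, 0, 0, -1, -1, -1, -1]) (.leaf [0, 0, 0, 0, -1, -1, -1, 0])))) (.node 116 (.node 114 (.node 113 (.leaf [0, 0, 0, 0, -1, -1, 0, 0]) (.leaf [0, 0, 0, 0, -1, 0, 0, 0])) (.node 115 (.leaf [0, 0, 0, 0, 0, -1, -1, -1]) (.leaf [0, 0, 0, 0, 0, -1, -1, 0]))) (.node 118 (.node 117 (.leaf [0, 0, 0, 0, 0, -1, 0, 0]) (.leaf [0, 0, 0, 0, 0, 0, -1, -1])) (.node 119 (.leaf [0, 0, 0, 0, 0, 0, -1, 0]) (.leaf [0, 0, 0, 0, 0, 0, 0, -1])))))))) (.node 180 (.node 150 (.node 135 (.node 127 (.node 123 (.node 121 (.leaf [0, 0, 0, 0, 0, 0, 0, 1]) (.node 122 (.leaf [0, 0, 0, 0, 0, 0, 1, 0]) (.leaf [0, 0, 0, 0, 0, 0, 1, 1]))) (.node 125 (.node 124 (.leaf [0, 0, 0, 0, 0, 1, 0, 0]) (.leaf [0, 0, 0, 0, 0, 1,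 1, 0])) (.node 126 (.leaf [0, 0, 0, 0, 0, 1, 1, 1]) (.leaf [0, 0, 0, 0, 1, 0, 0, 0])))) (.node 131 (.node 129 (.node 128 (.leaf [0, 0, 0, 0, 1, 1, 0, 0]) (.leaf [0, 0, 0, 0, 1, 1, 1, 0])) (.node 130 (.leaf [0, 0, 0, 0, 1, 1, 1, 1]) (.leaf [0, 0, 0, 1, 0, 0, 0, 0]))) (.node 133 (.node 132 (.leaf [0, 0, 0, 1, 1, 0, 0, 0]) (.leaf [0, 0, 0, 1, 1, 1, 0, 0])) (.node 134 (.leaf [0, 0, 0, 1, 1, 1, 1, 0]) (.leaf [0, 0, 0, 1, 1, 1, 1, 1]))))) (.node 142 (.node 138 (.node 136 (.leaf [0, 0, 1, 0, 0, 0, 0, 0]) (.node 137 (.leaf [0, 0, 1, 1, 0, 0, 0, 0]) (.leaf [0, 0, 1, 1, 1, 0, 0, 0]))) (.node 140 (.node 139 (.leaf [0, 0, 1, 1, 1, 1, 0, 0]) (.leaf [0, 0, 1, 1, 1, 1, 1, 0])) (.node 141 (.leaf [0, 0, 1, 1, 1, 1, 1, 1]) (.leaf [0, 1, 0, 0, 0, 0, 0, 0])))) (.node 146 (.node 144 (.node 143 (.leaf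 [0, 1, 0, 1, 0, 0, 0, 0]) (.leaf [0, 1, 0, 1, 1, 0, 0, 0])) (.node 145 (.leaf [0, 1, 0, 1, 1, 1, 0, 0]) (.leaf [0, 1, 0, 1, 1, 1, 1, 0]))) (.node 148 (.node 147 (.leaf [0, 1, 0, 1, 1, 1, 1, 1]) (.leaf [0, 1, 1, 1, 0, 0, 0, 0])) (.node 149 (.leaf [0, 1, 1, 1, 1, 0, 0, 0]) (.leaf [0, 1, 1, 1, 1, 1, 0, 0])))))) (.node 165 (.node 157 (.node 153 (.node 151 (.leaf [0, 1, 1, 1, 1, 1, 1, 0]) (.node 152 (.leaf [0, 1, 1, 1, 1, 1, 1, 1]) (.leaf [0, 1, 1, 2, 1, 0, 0, 0]))) (.node 155 (.node 154 (.leaf [0, 1, 1, 2, 1, 1, 0, 0]) (.leaf [0, 1, 1, 2, 1, 1, 1, 0])) (.node 156 (.leaf [0, 1, 1, 2, 1, 1, 1, 1]) (.leaf [0, 1, 1, 2, 2, 1, 0, 0])))) (.node 161 (.node 159 (.node 158 (.leaf [0, 1, 1, 2, 2, 1, 1, 0]) (.leaf [0, 1, 1, 2, 2, 1, 1, 1])) (.node 160 (.leaf [0, 1, 1, 2, 2, 2, 1, 0]) (.leaf [0,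 1, 1, 2, 2, 2, 1, 1]))) (.node 163 (.node 162 (.leaf [0, 1, 1, 2, 2, 2, 2, 1]) (.leaf [1, 0, 0, 0, 0, 0, 0, 0])) (.node 164 (.leaf [1, 0, 1, 0, 0, 0, 0, 0]) (.leaf [1, 0, 1, 1, 0, 0, 0, 0]))))) (.node 172 (.node 168 (.node 166 (.leaf [1, 0, 1, 1, 1, 0, 0, 0]) (.node 167 (.leaf [1, 0, 1, 1, 1, 1, 0, 0]) (.leaf [1, 0, 1, 1, 1, 1, 1, 0]))) (.node 170 (.node 169 (.leaf [1, 0, 1, 1, 1, 1, 1, 1]) (.leaf [1, 1, 1, 1, 0, 0, 0, 0])) (.node 171 (.leaf [1, 1, 1, 1, 1, 0, 0, 0]) (.leaf [1, 1, 1, 1, 1, 1, 0, 0])))) (.node 176 (.node 174 (.node 173 (.leaf [1, 1, 1, 1, 1, 1, 1, 0]) (.leaf [1, 1, 1, 1, 1, 1, 1, 1])) (.node 175 (.leaf [1, 1, 1, 2, 1, 0, 0, 0]) (.leaf [1, 1, 1, 2, 1, 1, 0, 0]))) (.node 178 (.node 177 (.leaf [1, 1, 1, 2, 1, 1, 1, 0]) (.leaf [1, 1, 1, 2, 1, 1, 1, 1])) (.node 179 (.leaf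 [1, 1, 1, 2, 2, 1, 0, 0]) (.leaf [1, 1, 1, 2, 2, 1, 1, 0]))))))) (.node 210 (.node 195 (.node 187 (.node 183 (.node 181 (.leaf [1, 1, 1, 2, 2, 1, 1, 1]) (.node 182 (.leaf [1, 1, 1, 2, 2, 2, 1, 0]) (.leaf [1, 1, 1, 2, 2, 2, 1, 1]))) (.node 185 (.node 184 (.leaf [1, 1, 1, 2, 2, 2, 2, 1]) (.leaf [1, 1, 2, 2, 1, 0, 0, 0])) (.node 186 (.leaf [1, 1, 2, 2, 1, 1, 0, 0]) (.leaf [1, 1, 2, 2, 1, 1, 1, 0])))) (.node 191 (.node 189 (.node 188 (.leaf [1, 1, 2, 2, 1, 1, 1, 1]) (.leaf [1, 1, 2, 2, 2, 1, 0, 0])) (.node 190 (.leaf [1, 1, 2, 2, 2, 1, 1, 0]) (.leaf [1, 1, 2, 2, 2, 1, 1, 1]))) (.node 193 (.node 192 (.leaf [1, 1, 2, 2, 2, 2, 1, 0]) (.leaf [1, 1, 2, 2, 2, 2, 1, 1])) (.node 194 (.leaf [1, 1, 2, 2, 2, 2, 2, 1]) (.leaf [1, 1, 2, 3, 2, 1, 0, 0]))))) (.node 202 (.node 198 (.node 196 (.leaf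 [1, 1, 2, 3, 2, 1, 1, 0]) (.node 197 (.leaf [1, 1, 2, 3, 2, 1, 1, 1]) (.leaf [1, 1, 2, 3, 2, 2, 1, 0]))) (.node 200 (.node 199 (.leaf [1, 1, 2, 3, 2, 2, 1, 1]) (.leaf [1, 1, 2, 3, 2, 2, 2, 1])) (.node 201 (.leaf [1, 1, 2, 3, 3, 2, 1, 0]) (.leaf [1, 1, 2, 3, 3, 2, 1, 1])))) (.node 206 (.node 204 (.node 203 (.leaf [1, 1, 2, 3, 3, 2, 2, 1]) (.leaf [1, 1, 2, 3, 3, 3, 2, 1])) (.node 205 (.leaf [1, 2, 2, 3, 2, 1, 0, 0]) (.leaf [1, 2, 2, 3, 2, 1, 1, 0]))) (.node 208 (.node 207 (.leaf [1, 2, 2, 3, 2, 1, 1, 1]) (.leaf [1, 2, 2, 3, 2, 2, 1, 0])) (.node 209 (.leaf [1, 2, 2, 3, 2, 2, 1, 1]) (.leaf [1, 2, 2, 3, 2, 2, 2, 1])))))) (.node 225 (.node 217 (.node 213 (.node 211 (.leaf [1, 2, 2, 3, 3, 2, 1, 0]) (.node 212 (.leaf [1, 2, 2, 3, 3, 2, 1, 1]) (.leaf [1, 2, 2, 3, 3, 2, 2, 1]))) (.node 215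 (.node 214 (.leaf [1, 2, 2, 3, 3, 3, 2, 1]) (.leaf [1, 2, 2, 4, 3, 2, 1, 0])) (.node 216 (.leaf [1, 2, 2, 4, 3, 2, 1, 1]) (.leaf [1, 2, 2, 4, 3, 2, 2, 1])))) (.node 221 (.node 219 (.node 218 (.leaf [1, 2, 2, 4, 3, 3, 2, 1]) (.leaf [1, 2, 2, 4, 4, 3, 2, 1])) (.node 220 (.leaf [1, 2, 3, 4, 3, 2, 1, 0]) (.leaf [1, 2, 3, 4, 3, 2, 1, 1]))) (.node 223 (.node 222 (.leaf [1, 2, 3, 4, 3, 2, 2, 1]) (.leaf [1, 2, 3, 4, 3, 3, 2, 1])) (.node 224 (.leaf [1, 2, 3, 4, 4, 3, 2, 1]) (.leaf [1, 2, 3, 5, 4, 3, 2, 1]))))) (.node 232 (.node 228 (.node 226 (.leaf [1, 3, 3, 5, 4, 3, 2, 1]) (.node 227 (.leaf [2, 2, 3, 4, 3, 2, 1, 0]) (.leaf [2, 2, 3, 4, 3, 2, 1, 1]))) (.node 230 (.node 229 (.leaf [2, 2, 3, 4, 3, 2, 2, 1]) (.leaf [2, 2, 3, 4, 3, 3, 2, 1])) (.node 231 (.leaf [2, 2, 3, 4, 4, 3, 2, 1]) (.leaf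 [2, 2, 3, 5, 4, 3, 2, 1])))) (.node 236 (.node 234 (.node 233 (.leaf [2, 2, 4, 5, 4, 3, 2, 1]) (.leaf [2, 3, 3, 5, 4, 3, 2, 1])) (.node 235 (.leaf [2, 3, 4, 5, 4, 3, 2, 1]) (.leaf [2, 3, 4, 6, 4, 3, 2, 1]))) (.node 238 (.node 237 (.leaf [2, 3, 4, 6, 5, 3, 2, 1]) (.leaf [2, 3, 4, 6, 5, 4, 2, 1])) (.node 239 (.leaf [2, 3, 4, 6, 5, 4, 3, 1]) (.leaf [2, 3, 4, 6, 5, 4, 3, 2]))))))))

/-- coroot coefficient vectors of type G2 -/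
def coG2 : Tree (List ℤ) := .node 6 (.node 3 (.node 1 (.leaf [-1, -2]) (.node 2 (.leaf [-1, -1]) (.leaf [-2, -3]))) (.node 4 (.leaf [-1, -3]) (.node 5 (.leaf [-1, 0]) (.leaf [0, -1])))) (.node 9 (.node 7 (.leaf [0, 1]) (.node 8 (.leaf [1, 0]) (.leaf [1, 3]))) (.node 10 (.leaf [2, 3]) (.node 11 (.leaf [1, 1]) (.leaf [1, 2]))))

/-- coroot coefficient vectors of type B2 -/
def coB2 : Tree (List ℤ) := .node 4 (.node 2 (.node 1 (.leaf [-1, -1]) (.leaf [-1, -2])) (.node 3 (.leaf [-1, 0]) (.leaf [0, -1]))) (.node 6 (.node 5 (.leaf [0, 1]) (.leaf [1, 0])) (.node 7 (.leaf [1, 2]) (.leaf [1, 1])))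

/-- coroot coefficient vectors of type D4 -/
def coD4 : Tree (List ℤ) := .node 12 (.node 6 (.node 3 (.node 1 (.leaf [-1, -2, -1, -1]) (.node 2 (.leaf [-1, -1, -1, -1]) (.leaf [-1, -1, -1, 0]))) (.node 4 (.leaf [-1, -1, 0, -1]) (.node 5 (.leaf [-1, -1, 0, 0]) (.leaf [-1, 0, 0, 0])))) (.node 9 (.node 7 (.leaf [0, -1, -1, -1]) (.node 8 (.leaf [0, -1, -1, 0]) (.leaf [0, -1, 0, -1]))) (.node 10 (.leaf [0, -1, 0, 0]) (.node 11 (.leaf [0, 0, -1, 0]) (.leaf [0, 0, 0, -1]))))) (.node 18 (.node 15 (.node 13 (.leaf [0, 0, 0, 1]) (.node 14 (.leaf [0, 0, 1, 0]) (.leaf [0, 1, 0, 0]))) (.node 16 (.leaf [0, 1, 0, 1]) (.node 17 (.leaf [0, 1, 1, 0]) (.leaf [0, 1, 1, 1])))) (.node 21 (.node 19 (.leaf [1, 0, 0, 0]) (.node 20 (.leaf [1, 1, 0, 0]) (.leaf [1, 1, 0, 1]))) (.node 22 (.leaf [1, 1, 1, 0])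 (.node 23 (.leaf [1, 1, 1, 1]) (.leaf [1, 2, 1, 1])))))

/-- coroot coefficient vectors of type F4 -/
def coF4 : Tree (List ℤ) := .node 24 (.node 12 (.node 6 (.node 3 (.node 1 (.leaf [-1, -2, -3, -2]) (.node 2 (.leaf [-1, -2, -3, -1]) (.leaf [-1, -2, -2, -1]))) (.node 4 (.leaf [-2, -3, -4, -2]) (.node 5 (.leaf [-1, -1, -2, -1]) (.leaf [-1, -1, -1, -1])))) (.node 9 (.node 7 (.leaf [-1, -1, -1, 0]) (.node 8 (.leaf [-1, -3, -4, -2]) (.leaf [-1, -2, -4, -2]))) (.node 10 (.leaf [-1, -2, -2, -2]) (.node 11 (.leaf [-1, -2, -2, 0]) (.leaf [-1, -1, -2, -2]))))) (.node 18 (.node 15 (.node 13 (.leaf [-1, -1, -2, 0]) (.node 14 (.leaf [-1, -1, 0, 0]) (.leaf [-1, 0, 0, 0]))) (.node 16 (.leaf [0, -1, -2, -1]) (.node 17 (.leaf [0, -1, -1, -1]) (.leaf [0, -1, -1, 0])))) (.node 21 (.node 19 (.leaf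 [0, -1, -2, -2]) (.node 20 (.leaf [0, -1, -2, 0]) (.leaf [0, -1, 0, 0]))) (.node 22 (.leaf [0, 0, -1, -1]) (.node 23 (.leaf [0, 0, -1, 0]) (.leaf [0, 0, 0, -1])))))) (.node 36 (.node 30 (.node 27 (.node 25 (.leaf [0, 0, 0, 1]) (.node 26 (.leaf [0, 0, 1, 0]) (.leaf [0, 0, 1, 1]))) (.node 28 (.leaf [0, 1, 0, 0]) (.node 29 (.leaf [0, 1, 2, 0]) (.leaf [0, 1, 2, 2])))) (.node 33 (.node 31 (.leaf [0, 1, 1, 0]) (.node 32 (.leaf [0, 1, 1, 1]) (.leaf [0, 1, 2, 1]))) (.node 34 (.leaf [1, 0, 0, 0]) (.node 35 (.leaf [1, 1, 0, 0]) (.leaf [1, 1, 2, 0]))))) (.node 42 (.node 39 (.node 37 (.leaf [1, 1, 2, 2]) (.node 38 (.leaf [1, 2, 2, 0]) (.leaf [1, 2, 2, 2]))) (.node 40 (.leaf [1, 2, 4, 2]) (.node 41 (.leaf [1, 3, 4, 2]) (.leaf [1, 1, 1, 0])))) (.node 45 (.node 43 (.leaf [1, 1, 1, 1]) (.node 44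 (.leaf [1, 1, 2, 1]) (.leaf [2, 3, 4, 2]))) (.node 46 (.leaf [1, 2, 2, 1]) (.node 47 (.leaf [1, 2, 3, 1]) (.leaf [1, 2, 3, 2]))))))

/-- coroot coefficient vectors of type E6 -/
def coE6 : Tree (List ℤ) := .node 36 (.node 18 (.node 9 (.node 4 (.node 2 (.node 1 (.leaf [-1, -2, -2, -3, -2, -1]) (.leaf [-1, -1, -2, -3, -2, -1])) (.node 3 (.leaf [-1, -1, -2, -2, -2, -1]) (.leaf [-1, -1, -2, -2, -1, -1]))) (.node 6 (.node 5 (.leaf [-1, -1, -2, -2, -1, 0]) (.leaf [-1, -1, -1, -2, -2, -1])) (.node 7 (.leaf [-1, -1, -1, -2, -1, -1]) (.node 8 (.leaf [-1, -1, -1, -2, -1, 0]) (.leaf [-1, -1, -1, -1, -1, -1]))))) (.node 13 (.node 11 (.node 10 (.leaf [-1, -1, -1, -1, -1, 0]) (.leaf [-1, -1, -1, -1, 0, 0])) (.node 12 (.leaf [-1, 0, -1, -1, -1, -1]) (.leaf [-1, 0, -1, -1, -1, 0]))) (.node 15 (.node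 14 (.leaf [-1, 0, -1, -1, 0, 0]) (.leaf [-1, 0, -1, 0, 0, 0])) (.node 16 (.leaf [-1, 0, 0, 0, 0, 0]) (.node 17 (.leaf [0, -1, -1, -2, -2, -1]) (.leaf [0, -1, -1, -2, -1, -1])))))) (.node 27 (.node 22 (.node 20 (.node 19 (.leaf [0, -1, -1, -2, -1, 0]) (.leaf [0, -1, -1, -1, -1, -1])) (.node 21 (.leaf [0, -1, -1, -1, -1, 0]) (.leaf [0, -1, -1, -1, 0, 0]))) (.node 24 (.node 23 (.leaf [0, -1, 0, -1, -1, -1]) (.leaf [0, -1, 0, -1, -1, 0])) (.node 25 (.leaf [0, -1, 0, -1, 0, 0]) (.node 26 (.leaf [0, -1, 0, 0, 0, 0]) (.leaf [0, 0, -1, -1, -1, -1]))))) (.node 31 (.node 29 (.node 28 (.leaf [0, 0, -1, -1, -1, 0]) (.leaf [0, 0, -1, -1, 0, 0])) (.node 30 (.leaf [0, 0, -1, 0, 0, 0]) (.leaf [0, 0, 0, -1, -1, -1]))) (.node 33 (.node 32 (.leaf [0, 0, 0, -1, -1, 0]) (.leaf [0, 0, 0, -1, 0, 0])) (.node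 34 (.leaf [0, 0, 0, 0, -1, -1]) (.node 35 (.leaf [0, 0, 0, 0, -1, 0]) (.leaf [0, 0, 0, 0, 0, -1]))))))) (.node 54 (.node 45 (.node 40 (.node 38 (.node 37 (.leaf [0, 0, 0, 0, 0, 1]) (.leaf [0, 0, 0, 0, 1, 0])) (.node 39 (.leaf [0, 0, 0, 0, 1, 1]) (.leaf [0, 0, 0, 1, 0, 0]))) (.node 42 (.node 41 (.leaf [0, 0, 0, 1, 1, 0]) (.leaf [0, 0, 0, 1, 1, 1])) (.node 43 (.leaf [0, 0, 1, 0, 0, 0]) (.node 44 (.leaf [0, 0, 1, 1, 0, 0]) (.leaf [0, 0, 1, 1, 1, 0]))))) (.node 49 (.node 47 (.node 46 (.leaf [0, 0, 1, 1, 1, 1]) (.leaf [0, 1, 0, 0, 0, 0])) (.node 48 (.leaf [0, 1, 0, 1, 0, 0]) (.leaf [0, 1, 0, 1, 1, 0]))) (.node 51 (.node 50 (.leaf [0, 1, 0, 1, 1, 1]) (.leaf [0, 1, 1, 1, 0, 0])) (.node 52 (.leaf [0, 1, 1, 1, 1, 0]) (.node 53 (.leaf [0, 1, 1, 1, 1, 1]) (.leaf [0, 1, 1, 2, 1, 0])))))) (.node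 63 (.node 58 (.node 56 (.node 55 (.leaf [0, 1, 1, 2, 1, 1]) (.leaf [0, 1, 1, 2, 2, 1])) (.node 57 (.leaf [1, 0, 0, 0, 0, 0]) (.leaf [1, 0, 1, 0, 0, 0]))) (.node 60 (.node 59 (.leaf [1, 0, 1, 1, 0, 0]) (.leaf [1, 0, 1, 1, 1, 0])) (.node 61 (.leaf [1, 0, 1, 1, 1, 1]) (.node 62 (.leaf [1, 1, 1, 1, 0, 0]) (.leaf [1, 1, 1, 1, 1, 0]))))) (.node 67 (.node 65 (.node 64 (.leaf [1, 1, 1, 1, 1, 1]) (.leaf [1, 1, 1, 2, 1, 0])) (.node 66 (.leaf [1, 1, 1, 2, 1, 1]) (.leaf [1, 1, 1, 2, 2, 1]))) (.node 69 (.node 68 (.leaf [1, 1, 2, 2, 1, 0]) (.leaf [1, 1, 2, 2, 1, 1])) (.node 70 (.leaf [1, 1, 2, 2, 2, 1]) (.node 71 (.leaf [1, 1, 2, 3, 2, 1]) (.leaf [1, 2, 2, 3, 2, 1])))))))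

/-- coroot coefficient vectors of type E7 -/
def coE7 : Tree (List ℤ) := .node 63 (.node 31 (.node 15 (.node 7 (.node 3 (.node 1 (.leaf [-2, -2, -3, -4, -3, -2, -1]) (.node 2 (.leaf [-1, -2, -3, -4, -3, -2, -1]) (.leaf [-1, -2, -2, -4, -3, -2, -1]))) (.node 5 (.node 4 (.leaf [-1, -2, -2, -3, -3, -2, -1]) (.leaf [-1, -2, -2, -3, -2, -2, -1])) (.node 6 (.leaf [-1, -2, -2, -3, -2, -1, -1]) (.leaf [-1, -2, -2, -3, -2, -1, 0])))) (.node 11 (.node 9 (.node 8 (.leaf [-1, -1, -2, -3, -3, -2, -1]) (.leaf [-1, -1, -2, -3, -2, -2, -1])) (.node 10 (.leaf [-1, -1, -2, -3, -2, -1, -1]) (.leaf [-1, -1, -2, -3, -2, -1, 0]))) (.node 13 (.node 12 (.leaf [-1, -1, -2, -2, -2, -2, -1]) (.leaf [-1, -1, -2, -2, -2, -1, -1])) (.node 14 (.leaf [-1, -1, -2, -2, -2, -1, 0]) (.leaf [-1, -1, -2, -2, -1, -1,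 -1]))))) (.node 23 (.node 19 (.node 17 (.node 16 (.leaf [-1, -1, -2, -2, -1, -1, 0]) (.leaf [-1, -1, -2, -2, -1, 0, 0])) (.node 18 (.leaf [-1, -1, -1, -2, -2, -2, -1]) (.leaf [-1, -1, -1, -2, -2, -1, -1]))) (.node 21 (.node 20 (.leaf [-1, -1, -1, -2, -2, -1, 0]) (.leaf [-1, -1, -1, -2, -1, -1, -1])) (.node 22 (.leaf [-1, -1, -1, -2, -1, -1, 0]) (.leaf [-1, -1, -1, -2, -1, 0, 0])))) (.node 27 (.node 25 (.node 24 (.leaf [-1, -1, -1, -1, -1, -1, -1]) (.leaf [-1, -1, -1, -1, -1, -1, 0])) (.node 26 (.leaf [-1, -1, -1, -1, -1, 0, 0]) (.leaf [-1, -1, -1, -1, 0, 0, 0]))) (.node 29 (.node 28 (.leaf [-1, 0, -1, -1, -1, -1, -1]) (.leaf [-1, 0, -1, -1, -1, -1, 0])) (.node 30 (.leaf [-1, 0, -1, -1, -1, 0, 0]) (.leaf [-1, 0, -1, -1, 0, 0, 0])))))) (.node 47 (.node 39 (.node 35 (.node 33 (.node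 32 (.leaf [-1, 0, -1, 0, 0, 0, 0]) (.leaf [-1, 0, 0, 0, 0, 0, 0])) (.node 34 (.leaf [0, -1, -1, -2, -2, -2, -1]) (.leaf [0, -1, -1, -2, -2, -1, -1]))) (.node 37 (.node 36 (.leaf [0, -1, -1, -2, -2, -1, 0]) (.leaf [0, -1, -1, -2, -1, -1, -1])) (.node 38 (.leaf [0, -1, -1, -2, -1, -1, 0]) (.leaf [0, -1, -1, -2, -1, 0, 0])))) (.node 43 (.node 41 (.node 40 (.leaf [0, -1, -1, -1, -1, -1, -1]) (.leaf [0, -1, -1, -1, -1, -1, 0])) (.node 42 (.leaf [0, -1, -1, -1, -1, 0, 0]) (.leaf [0, -1, -1, -1, 0, 0, 0]))) (.node 45 (.node 44 (.leaf [0, -1, 0, -1, -1, -1, -1]) (.leaf [0, -1, 0, -1, -1, -1, 0])) (.node 46 (.leaf [0, -1, 0, -1, -1, 0, 0]) (.leaf [0, -1, 0, -1, 0, 0, 0]))))) (.node 55 (.node 51 (.node 49 (.node 48 (.leaf [0, -1, 0, 0, 0, 0, 0]) (.leaf [0, 0, -1, -1, -1, -1, -1])) (.node 50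 (.leaf [0, 0, -1, -1, -1, -1, 0]) (.leaf [0, 0, -1, -1, -1, 0, 0]))) (.node 53 (.node 52 (.leaf [0, 0, -1, -1, 0, 0, 0]) (.leaf [0, 0, -1, 0, 0, 0, 0])) (.node 54 (.leaf [0, 0, 0, -1, -1, -1, -1]) (.leaf [0, 0, 0, -1, -1, -1, 0])))) (.node 59 (.node 57 (.node 56 (.leaf [0, 0, 0, -1, -1, 0, 0]) (.leaf [0, 0, 0, -1, 0, 0, 0])) (.node 58 (.leaf [0, 0, 0, 0, -1, -1, -1]) (.leaf [0, 0, 0, 0, -1, -1, 0]))) (.node 61 (.node 60 (.leaf [0, 0, 0, 0, -1, 0, 0]) (.leaf [0, 0, 0, 0, 0, -1, -1])) (.node 62 (.leaf [0, 0, 0, 0, 0, -1, 0]) (.leaf [0, 0, 0, 0, 0, 0, -1]))))))) (.node 94 (.node 78 (.node 70 (.node 66 (.node 64 (.leaf [0, 0, 0, 0, 0, 0, 1]) (.node 65 (.leaf [0, 0, 0, 0, 0, 1, 0]) (.leaf [0, 0, 0, 0, 0, 1, 1]))) (.node 68 (.node 67 (.leaf [0, 0, 0, 0, 1, 0, 0]) (.leaf [0, 0, 0, 0, 1,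 1, 0])) (.node 69 (.leaf [0, 0, 0, 0, 1, 1, 1]) (.leaf [0, 0, 0, 1, 0, 0, 0])))) (.node 74 (.node 72 (.node 71 (.leaf [0, 0, 0, 1, 1, 0, 0]) (.leaf [0, 0, 0, 1, 1, 1, 0])) (.node 73 (.leaf [0, 0, 0, 1, 1, 1, 1]) (.leaf [0, 0, 1, 0, 0, 0, 0]))) (.node 76 (.node 75 (.leaf [0, 0, 1, 1, 0, 0, 0]) (.leaf [0, 0, 1, 1, 1, 0, 0])) (.node 77 (.leaf [0, 0, 1, 1, 1, 1, 0]) (.leaf [0, 0, 1, 1, 1, 1, 1]))))) (.node 86 (.node 82 (.node 80 (.node 79 (.leaf [0, 1, 0, 0, 0, 0, 0]) (.leaf [0, 1, 0, 1, 0, 0, 0])) (.node 81 (.leaf [0, 1, 0, 1, 1, 0, 0]) (.leaf [0, 1, 0, 1, 1, 1, 0]))) (.node 84 (.node 83 (.leaf [0, 1, 0, 1, 1, 1, 1]) (.leaf [0, 1, 1, 1, 0, 0, 0])) (.node 85 (.leaf [0, 1, 1, 1, 1, 0, 0]) (.leaf [0, 1, 1, 1, 1, 1, 0])))) (.node 90 (.node 88 (.node 87 (.leaf [0, 1, 1, 1, 1, 1, 1]) (.leaf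 [0, 1, 1, 2, 1, 0, 0])) (.node 89 (.leaf [0, 1, 1, 2, 1, 1, 0]) (.leaf [0, 1, 1, 2, 1, 1, 1]))) (.node 92 (.node 91 (.leaf [0, 1, 1, 2, 2, 1, 0]) (.leaf [0, 1, 1, 2, 2, 1, 1])) (.node 93 (.leaf [0, 1, 1, 2, 2, 2, 1]) (.leaf [1, 0, 0, 0, 0, 0, 0])))))) (.node 110 (.node 102 (.node 98 (.node 96 (.node 95 (.leaf [1, 0, 1, 0, 0, 0, 0]) (.leaf [1, 0, 1, 1, 0, 0, 0])) (.node 97 (.leaf [1, 0, 1, 1, 1, 0, 0]) (.leaf [1, 0, 1, 1, 1, 1, 0]))) (.node 100 (.node 99 (.leaf [1, 0, 1, 1, 1, 1, 1]) (.leaf [1, 1, 1, 1, 0, 0, 0])) (.node 101 (.leaf [1, 1, 1, 1, 1, 0, 0]) (.leaf [1, 1, 1, 1, 1, 1, 0])))) (.node 106 (.node 104 (.node 103 (.leaf [1, 1, 1, 1, 1, 1, 1]) (.leaf [1, 1, 1, 2, 1, 0, 0])) (.node 105 (.leaf [1, 1, 1, 2, 1, 1, 0]) (.leaf [1, 1, 1, 2, 1, 1, 1]))) (.node 108 (.node 107 (.leaf [1,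 1, 1, 2, 2, 1, 0]) (.leaf [1, 1, 1, 2, 2, 1, 1])) (.node 109 (.leaf [1, 1, 1, 2, 2, 2, 1]) (.leaf [1, 1, 2, 2, 1, 0, 0]))))) (.node 118 (.node 114 (.node 112 (.node 111 (.leaf [1, 1, 2, 2, 1, 1, 0]) (.leaf [1, 1, 2, 2, 1, 1, 1])) (.node 113 (.leaf [1, 1, 2, 2, 2, 1, 0]) (.leaf [1, 1, 2, 2, 2, 1, 1]))) (.node 116 (.node 115 (.leaf [1, 1, 2, 2, 2, 2, 1]) (.leaf [1, 1, 2, 3, 2, 1, 0])) (.node 117 (.leaf [1, 1, 2, 3, 2, 1, 1]) (.leaf [1, 1, 2, 3, 2, 2, 1])))) (.node 122 (.node 120 (.node 119 (.leaf [1, 1, 2, 3, 3, 2, 1]) (.leaf [1, 2, 2, 3, 2, 1, 0])) (.node 121 (.leaf [1, 2, 2, 3, 2, 1, 1]) (.leaf [1, 2, 2, 3, 2, 2, 1]))) (.node 124 (.node 123 (.leaf [1, 2, 2, 3, 3, 2, 1]) (.leaf [1, 2, 2, 4, 3, 2, 1])) (.node 125 (.leaf [1, 2, 3, 4, 3, 2, 1]) (.leaf [2, 2, 3, 4, 3, 2, 1])))))))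

/-- coroot coefficient vectors of type E8 -/
def coE8 : Tree (List ℤ) := .node 120 (.node 60 (.node 30 (.node 15 (.node 7 (.node 3 (.node 1 (.leaf [-2, -3, -4, -6, -5, -4, -3, -2]) (.node 2 (.leaf [-2, -3, -4, -6, -5, -4, -3, -1]) (.leaf [-2, -3, -4, -6, -5, -4, -2, -1]))) (.node 5 (.node 4 (.leaf [-2, -3, -4, -6, -5, -3, -2, -1]) (.leaf [-2, -3, -4, -6, -4, -3, -2, -1])) (.node 6 (.leaf [-2, -3, -4, -5, -4, -3, -2, -1]) (.leaf [-2, -3, -3, -5, -4, -3, -2, -1])))) (.node 11 (.node 9 (.node 8 (.leaf [-2, -2, -4, -5, -4, -3, -2, -1]) (.leaf [-2, -2, -3, -5, -4, -3, -2, -1])) (.node 10 (.leaf [-2, -2, -3, -4, -4, -3, -2, -1]) (.leaf [-2, -2, -3, -4, -3, -3, -2, -1]))) (.node 13 (.node 12 (.leaf [-2, -2, -3, -4, -3, -2, -2, -1]) (.leaf [-2, -2, -3, -4, -3, -2, -1, -1])) (.node 14 (.leaf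 [-2, -2, -3, -4, -3, -2, -1, 0]) (.leaf [-1, -3, -3, -5, -4, -3, -2, -1]))))) (.node 22 (.node 18 (.node 16 (.leaf [-1, -2, -3, -5, -4, -3, -2, -1]) (.node 17 (.leaf [-1, -2, -3, -4, -4, -3, -2, -1]) (.leaf [-1, -2, -3, -4, -3, -3, -2, -1]))) (.node 20 (.node 19 (.leaf [-1, -2, -3, -4, -3, -2, -2, -1]) (.leaf [-1, -2, -3, -4, -3, -2, -1, -1])) (.node 21 (.leaf [-1, -2, -3, -4, -3, -2, -1, 0]) (.leaf [-1, -2, -2, -4, -4, -3, -2, -1])))) (.node 26 (.node 24 (.node 23 (.leaf [-1, -2, -2, -4, -3, -3, -2, -1]) (.leaf [-1, -2, -2, -4, -3, -2, -2, -1])) (.node 25 (.leaf [-1, -2, -2, -4, -3, -2, -1, -1]) (.leaf [-1, -2, -2, -4, -3, -2, -1, 0]))) (.node 28 (.node 27 (.leaf [-1, -2, -2, -3, -3, -3, -2, -1]) (.leaf [-1, -2, -2, -3, -3, -2, -2, -1])) (.node 29 (.leaf [-1, -2, -2, -3, -3, -2,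 -1, -1]) (.leaf [-1, -2, -2, -3, -3, -2, -1, 0])))))) (.node 45 (.node 37 (.node 33 (.node 31 (.leaf [-1, -2, -2, -3, -2, -2, -2, -1]) (.node 32 (.leaf [-1, -2, -2, -3, -2, -2, -1, -1]) (.leaf [-1, -2, -2, -3, -2, -2, -1, 0]))) (.node 35 (.node 34 (.leaf [-1, -2, -2, -3, -2, -1, -1, -1]) (.leaf [-1, -2, -2, -3, -2, -1, -1, 0])) (.node 36 (.leaf [-1, -2, -2, -3, -2, -1, 0, 0]) (.leaf [-1, -1, -2, -3, -3, -3, -2, -1])))) (.node 41 (.node 39 (.node 38 (.leaf [-1, -1, -2, -3, -3, -2, -2, -1]) (.leaf [-1, -1, -2, -3, -3, -2, -1, -1])) (.node 40 (.leaf [-1, -1, -2, -3, -3, -2, -1, 0]) (.leaf [-1, -1, -2, -3, -2, -2, -2, -1]))) (.node 43 (.node 42 (.leaf [-1, -1, -2, -3, -2, -2, -1, -1]) (.leaf [-1, -1, -2, -3, -2, -2, -1, 0])) (.node 44 (.leaf [-1, -1, -2, -3, -2, -1, -1, -1]) (.leaf [-1,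 -1, -2, -3, -2, -1, -1, 0]))))) (.node 52 (.node 48 (.node 46 (.leaf [-1, -1, -2, -3, -2, -1, 0, 0]) (.node 47 (.leaf [-1, -1, -2, -2, -2, -2, -2, -1]) (.leaf [-1, -1, -2, -2, -2, -2, -1, -1]))) (.node 50 (.node 49 (.leaf [-1, -1, -2, -2, -2, -2, -1, 0]) (.leaf [-1, -1, -2, -2, -2, -1, -1, -1])) (.node 51 (.leaf [-1, -1, -2, -2, -2, -1, -1, 0]) (.leaf [-1, -1, -2, -2, -2, -1, 0, 0])))) (.node 56 (.node 54 (.node 53 (.leaf [-1, -1, -2, -2, -1, -1, -1, -1]) (.leaf [-1, -1, -2, -2, -1, -1, -1, 0])) (.node 55 (.leaf [-1, -1, -2, -2, -1, -1, 0, 0]) (.leaf [-1, -1, -2, -2, -1, 0, 0, 0]))) (.node 58 (.node 57 (.leaf [-1, -1, -1, -2, -2, -2, -2, -1]) (.leaf [-1, -1, -1, -2, -2, -2, -1, -1])) (.node 59 (.leaf [-1, -1, -1, -2, -2, -2, -1, 0]) (.leaf [-1, -1, -1, -2, -2, -1, -1, -1])))))))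 (.node 90 (.node 75 (.node 67 (.node 63 (.node 61 (.leaf [-1, -1, -1, -2, -2, -1, -1, 0]) (.node 62 (.leaf [-1, -1, -1, -2, -2, -1, 0, 0]) (.leaf [-1, -1, -1, -2, -1, -1, -1, -1]))) (.node 65 (.node 64 (.leaf [-1, -1, -1, -2, -1, -1, -1, 0]) (.leaf [-1, -1, -1, -2, -1, -1, 0, 0])) (.node 66 (.leaf [-1, -1, -1, -2, -1, 0, 0, 0]) (.leaf [-1, -1, -1, -1, -1, -1, -1, -1])))) (.node 71 (.node 69 (.node 68 (.leaf [-1, -1, -1, -1, -1, -1, -1, 0]) (.leaf [-1, -1, -1, -1, -1, -1, 0, 0])) (.node 70 (.leaf [-1, -1, -1, -1, -1, 0, 0, 0]) (.leaf [-1, -1, -1, -1, 0, 0, 0, 0]))) (.node 73 (.node 72 (.leaf [-1, 0, -1, -1, -1, -1, -1, -1]) (.leaf [-1, 0, -1, -1, -1, -1, -1, 0])) (.node 74 (.leaf [-1, 0, -1, -1, -1, -1, 0, 0]) (.leaf [-1, 0, -1, -1, -1, 0, 0, 0]))))) (.node 82 (.node 78 (.node 76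 (.leaf [-1, 0, -1, -1, 0, 0, 0, 0]) (.node 77 (.leaf [-1, 0, -1, 0, 0, 0, 0, 0]) (.leaf [-1, 0, 0, 0, 0, 0, 0, 0]))) (.node 80 (.node 79 (.leaf [0, -1, -1, -2, -2, -2, -2, -1]) (.leaf [0, -1, -1, -2, -2, -2, -1, -1])) (.node 81 (.leaf [0, -1, -1, -2, -2, -2, -1, 0]) (.leaf [0, -1, -1, -2, -2, -1, -1, -1])))) (.node 86 (.node 84 (.node 83 (.leaf [0, -1, -1, -2, -2, -1, -1, 0]) (.leaf [0, -1, -1, -2, -2, -1, 0, 0])) (.node 85 (.leaf [0, -1, -1, -2, -1, -1, -1, -1]) (.leaf [0, -1, -1, -2, -1, -1, -1, 0]))) (.node 88 (.node 87 (.leaf [0, -1, -1, -2, -1, -1, 0, 0]) (.leaf [0, -1, -1, -2, -1, 0, 0, 0])) (.node 89 (.leaf [0, -1, -1, -1, -1, -1, -1, -1]) (.leaf [0, -1, -1, -1, -1, -1, -1, 0])))))) (.node 105 (.node 97 (.node 93 (.node 91 (.leaf [0, -1, -1, -1, -1, -1, 0, 0]) (.node 92 (.leaf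 [0, -1, -1, -1, -1, 0, 0, 0]) (.leaf [0, -1, -1, -1, 0, 0, 0, 0]))) (.node 95 (.node 94 (.leaf [0, -1, 0, -1, -1, -1, -1, -1]) (.leaf [0, -1, 0, -1, -1, -1, -1, 0])) (.node 96 (.leaf [0, -1, 0, -1, -1, -1, 0, 0]) (.leaf [0, -1, 0, -1, -1, 0, 0, 0])))) (.node 101 (.node 99 (.node 98 (.leaf [0, -1, 0, -1, 0, 0, 0, 0]) (.leaf [0, -1, 0, 0, 0, 0, 0, 0])) (.node 100 (.leaf [0, 0, -1, -1, -1, -1, -1, -1]) (.leaf [0, 0, -1, -1, -1, -1, -1, 0]))) (.node 103 (.node 102 (.leaf [0, 0, -1, -1, -1, -1, 0, 0]) (.leaf [0, 0, -1, -1, -1, 0, 0, 0])) (.node 104 (.leaf [0, 0, -1, -1, 0, 0, 0, 0]) (.leaf [0, 0, -1, 0, 0, 0, 0, 0]))))) (.node 112 (.node 108 (.node 106 (.leaf [0, 0, 0, -1, -1, -1, -1, -1]) (.node 107 (.leaf [0, 0, 0, -1, -1, -1, -1, 0]) (.leaf [0, 0, 0, -1, -1, -1, 0, 0]))) (.node 110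 (.node 109 (.leaf [0, 0, 0, -1, -1, 0, 0, 0]) (.leaf [0, 0, 0, -1, 0, 0, 0, 0])) (.node 111 (.leaf [0, 0, 0, 0, -1, -1, -1, -1]) (.leaf [0, 0, 0, 0, -1, -1, -1, 0])))) (.node 116 (.node 114 (.node 113 (.leaf [0, 0, 0, 0, -1, -1, 0, 0]) (.leaf [0, 0, 0, 0, -1, 0, 0, 0])) (.node 115 (.leaf [0, 0, 0, 0, 0, -1, -1, -1]) (.leaf [0, 0, 0, 0, 0, -1, -1, 0]))) (.node 118 (.node 117 (.leaf [0, 0, 0, 0, 0, -1, 0, 0]) (.leaf [0, 0, 0, 0, 0, 0, -1, -1])) (.node 119 (.leaf [0, 0, 0, 0, 0, 0, -1, 0]) (.leaf [0, 0, 0, 0, 0, 0, 0, -1])))))))) (.node 180 (.node 150 (.node 135 (.node 127 (.node 123 (.node 121 (.leaf [0, 0, 0, 0, 0, 0, 0, 1]) (.node 122 (.leaf [0, 0, 0, 0, 0, 0, 1, 0]) (.leaf [0, 0, 0, 0, 0, 0, 1, 1]))) (.node 125 (.node 124 (.leaf [0, 0, 0, 0, 0, 1, 0, 0]) (.leaf [0, 0, 0, 0, 0, 1,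 1, 0])) (.node 126 (.leaf [0, 0, 0, 0, 0, 1, 1, 1]) (.leaf [0, 0, 0, 0, 1, 0, 0, 0])))) (.node 131 (.node 129 (.node 128 (.leaf [0, 0, 0, 0, 1, 1, 0, 0]) (.leaf [0, 0, 0, 0, 1, 1, 1, 0])) (.node 130 (.leaf [0, 0, 0, 0, 1, 1, 1, 1]) (.leaf [0, 0, 0, 1, 0, 0, 0, 0]))) (.node 133 (.node 132 (.leaf [0, 0, 0, 1, 1, 0, 0, 0]) (.leaf [0, 0, 0, 1, 1, 1, 0, 0])) (.node 134 (.leaf [0, 0, 0, 1, 1, 1, 1, 0]) (.leaf [0, 0, 0, 1, 1, 1, 1, 1]))))) (.node 142 (.node 138 (.node 136 (.leaf [0, 0, 1, 0, 0, 0, 0, 0]) (.node 137 (.leaf [0, 0, 1, 1, 0, 0, 0, 0]) (.leaf [0, 0, 1, 1, 1, 0, 0, 0]))) (.node 140 (.node 139 (.leaf [0, 0, 1, 1, 1, 1, 0, 0]) (.leaf [0, 0, 1, 1, 1, 1, 1, 0])) (.node 141 (.leaf [0, 0, 1, 1, 1, 1, 1, 1]) (.leaf [0, 1, 0, 0, 0, 0, 0, 0])))) (.node 146 (.node 144 (.node 143 (.leaf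 [0, 1, 0, 1, 0, 0, 0, 0]) (.leaf [0, 1, 0, 1, 1, 0, 0, 0])) (.node 145 (.leaf [0, 1, 0, 1, 1, 1, 0, 0]) (.leaf [0, 1, 0, 1, 1, 1, 1, 0]))) (.node 148 (.node 147 (.leaf [0, 1, 0, 1, 1, 1, 1, 1]) (.leaf [0, 1, 1, 1, 0, 0, 0, 0])) (.node 149 (.leaf [0, 1, 1, 1, 1, 0, 0, 0]) (.leaf [0, 1, 1, 1, 1, 1, 0, 0])))))) (.node 165 (.node 157 (.node 153 (.node 151 (.leaf [0, 1, 1, 1, 1, 1, 1, 0]) (.node 152 (.leaf [0, 1, 1, 1, 1, 1, 1, 1]) (.leaf [0, 1, 1, 2, 1, 0, 0, 0]))) (.node 155 (.node 154 (.leaf [0, 1, 1, 2, 1, 1, 0, 0]) (.leaf [0, 1, 1, 2, 1, 1, 1, 0])) (.node 156 (.leaf [0, 1, 1, 2, 1, 1, 1, 1]) (.leaf [0, 1, 1, 2, 2, 1, 0, 0])))) (.node 161 (.node 159 (.node 158 (.leaf [0, 1, 1, 2, 2, 1, 1, 0]) (.leaf [0, 1, 1, 2, 2, 1, 1, 1])) (.node 160 (.leaf [0, 1, 1, 2, 2, 2, 1, 0]) (.leaf [0,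 1, 1, 2, 2, 2, 1, 1]))) (.node 163 (.node 162 (.leaf [0, 1, 1, 2, 2, 2, 2, 1]) (.leaf [1, 0, 0, 0, 0, 0, 0, 0])) (.node 164 (.leaf [1, 0, 1, 0, 0, 0, 0, 0]) (.leaf [1, 0, 1, 1, 0, 0, 0, 0]))))) (.node 172 (.node 168 (.node 166 (.leaf [1, 0, 1, 1, 1, 0, 0, 0]) (.node 167 (.leaf [1, 0, 1, 1, 1, 1, 0, 0]) (.leaf [1, 0, 1, 1, 1, 1, 1, 0]))) (.node 170 (.node 169 (.leaf [1, 0, 1, 1, 1, 1, 1, 1]) (.leaf [1, 1, 1, 1, 0, 0, 0, 0])) (.node 171 (.leaf [1, 1, 1, 1, 1, 0, 0, 0]) (.leaf [1, 1, 1, 1, 1, 1, 0, 0])))) (.node 176 (.node 174 (.node 173 (.leaf [1, 1, 1, 1, 1, 1, 1, 0]) (.leaf [1, 1, 1, 1, 1, 1, 1, 1])) (.node 175 (.leaf [1, 1, 1, 2, 1, 0, 0, 0]) (.leaf [1, 1, 1, 2, 1, 1, 0, 0]))) (.node 178 (.node 177 (.leaf [1, 1, 1, 2, 1, 1, 1, 0]) (.leaf [1, 1, 1, 2, 1, 1, 1, 1])) (.node 179 (.leaf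 [1, 1, 1, 2, 2, 1, 0, 0]) (.leaf [1, 1, 1, 2, 2, 1, 1, 0]))))))) (.node 210 (.node 195 (.node 187 (.node 183 (.node 181 (.leaf [1, 1, 1, 2, 2, 1, 1, 1]) (.node 182 (.leaf [1, 1, 1, 2, 2, 2, 1, 0]) (.leaf [1, 1, 1, 2, 2, 2, 1, 1]))) (.node 185 (.node 184 (.leaf [1, 1, 1, 2, 2, 2, 2, 1]) (.leaf [1, 1, 2, 2, 1, 0, 0, 0])) (.node 186 (.leaf [1, 1, 2, 2, 1, 1, 0, 0]) (.leaf [1, 1, 2, 2, 1, 1, 1, 0])))) (.node 191 (.node 189 (.node 188 (.leaf [1, 1, 2, 2, 1, 1, 1, 1]) (.leaf [1, 1, 2, 2, 2, 1, 0, 0])) (.node 190 (.leaf [1, 1, 2, 2, 2, 1, 1, 0]) (.leaf [1, 1, 2, 2, 2, 1, 1, 1]))) (.node 193 (.node 192 (.leaf [1, 1, 2, 2, 2, 2, 1, 0]) (.leaf [1, 1, 2, 2, 2, 2, 1, 1])) (.node 194 (.leaf [1, 1, 2, 2, 2, 2, 2, 1]) (.leaf [1, 1, 2, 3, 2, 1, 0, 0]))))) (.node 202 (.node 198 (.node 196 (.leaf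 [1, 1, 2, 3, 2, 1, 1, 0]) (.node 197 (.leaf [1, 1, 2, 3, 2, 1, 1, 1]) (.leaf [1, 1, 2, 3, 2, 2, 1, 0]))) (.node 200 (.node 199 (.leaf [1, 1, 2, 3, 2, 2, 1, 1]) (.leaf [1, 1, 2, 3, 2, 2, 2, 1])) (.node 201 (.leaf [1, 1, 2, 3, 3, 2, 1, 0]) (.leaf [1, 1, 2, 3, 3, 2, 1, 1])))) (.node 206 (.node 204 (.node 203 (.leaf [1, 1, 2, 3, 3, 2, 2, 1]) (.leaf [1, 1, 2, 3, 3, 3, 2, 1])) (.node 205 (.leaf [1, 2, 2, 3, 2, 1, 0, 0]) (.leaf [1, 2, 2, 3, 2, 1, 1, 0]))) (.node 208 (.node 207 (.leaf [1, 2, 2, 3, 2, 1, 1, 1]) (.leaf [1, 2, 2, 3, 2, 2, 1, 0])) (.node 209 (.leaf [1, 2, 2, 3, 2, 2, 1, 1]) (.leaf [1, 2, 2, 3, 2, 2, 2, 1])))))) (.node 225 (.node 217 (.node 213 (.node 211 (.leaf [1, 2, 2, 3, 3, 2, 1, 0]) (.node 212 (.leaf [1, 2, 2, 3, 3, 2, 1, 1]) (.leaf [1, 2, 2, 3, 3, 2, 2, 1]))) (.node 215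 (.node 214 (.leaf [1, 2, 2, 3, 3, 3, 2, 1]) (.leaf [1, 2, 2, 4, 3, 2, 1, 0])) (.node 216 (.leaf [1, 2, 2, 4, 3, 2, 1, 1]) (.leaf [1, 2, 2, 4, 3, 2, 2, 1])))) (.node 221 (.node 219 (.node 218 (.leaf [1, 2, 2, 4, 3, 3, 2, 1]) (.leaf [1, 2, 2, 4, 4, 3, 2, 1])) (.node 220 (.leaf [1, 2, 3, 4, 3, 2, 1, 0]) (.leaf [1, 2, 3, 4, 3, 2, 1, 1]))) (.node 223 (.node 222 (.leaf [1, 2, 3, 4, 3, 2, 2, 1]) (.leaf [1, 2, 3, 4, 3, 3, 2, 1])) (.node 224 (.leaf [1, 2, 3, 4, 4, 3, 2, 1]) (.leaf [1, 2, 3, 5, 4, 3, 2, 1]))))) (.node 232 (.node 228 (.node 226 (.leaf [1, 3, 3, 5, 4, 3, 2, 1]) (.node 227 (.leaf [2, 2, 3, 4, 3, 2, 1, 0]) (.leaf [2, 2, 3, 4, 3, 2, 1, 1]))) (.node 230 (.node 229 (.leaf [2, 2, 3, 4, 3, 2, 2, 1]) (.leaf [2, 2, 3, 4, 3, 3, 2, 1])) (.node 231 (.leaf [2, 2, 3, 4, 4, 3, 2, 1]) (.leaf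 [2, 2, 3, 5, 4, 3, 2, 1])))) (.node 236 (.node 234 (.node 233 (.leaf [2, 2, 4, 5, 4, 3, 2, 1]) (.leaf [2, 3, 3, 5, 4, 3, 2, 1])) (.node 235 (.leaf [2, 3, 4, 5, 4, 3, 2, 1]) (.leaf [2, 3, 4, 6, 4, 3, 2, 1]))) (.node 238 (.node 237 (.leaf [2, 3, 4, 6, 5, 3, 2, 1]) (.leaf [2, 3, 4, 6, 5, 4, 2, 1])) (.node 239 (.leaf [2, 3, 4, 6, 5, 4, 3, 1]) (.leaf [2, 3, 4, 6, 5, 4, 3, 2]))))))))

/-- root coefficient vectors, dispatched on the number of roots -/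
def rvTree : ℕ → Tree (List ℤ)
  | 12 => rvG2
  | 8 => rvB2
  | 24 => rvD4
  | 48 => rvF4
  | 72 => rvE6
  | 126 => rvE7
  | 240 => rvE8
  | _ => .leaf []

end Cfsg.Agent.ChevCore
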