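/-
Table driven integer data of the Chevalley groups of `Def_Chevalley`: sparse columns of the
divided powers of `ad e_r`, and the Boolean certificates from which the relations follow.

The certificates are phrased over an accessor record, so that the kernel evaluates them on packed
tables, while their consequences are drawn for the tables of the datum itself.
-/
import Cfsg.Prelude.Def_ChevStructure
import Cfsg.Agent.Lib.ChevCore.RootTable
import Cfsg.Agent.Lib.ChevCore.Eval

set_option autoImplicit false

namespace Cfsg.Agent.ChevCore

open Cfsg.Lie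

variable (D : ChevalleyDatum)

/-- the coordinate vector of a root on the fundamental roots -/
noncomputable def rvec (r : ℕ) : List ℤ := (rvTree D.nroots).get r

/-- coefficient of the root `r` at the fundamental root `j` -/
noncomputable def coef (r j : ℕ) : ℤ := kget (rvec D r) j 0

/-- sum of a list of integers -/
noncomputable def ksum (L : List ℤ) : ℤ := List.rec 0 (fun a _ acc => a + acc) L

/-- height of the root `r` -/
noncomputable def ht (r : ℕ) : ℤ := ksum (rvec D r)

/-- maximal height -/
noncomputable def maxHt : ℤ := ht D (D.nroots - 1)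

/-- sparse vectors are lists of pairs (index, coefficient); indices below `nroots` are roots,
`nroots + i` is the `i`-th fundamental coroot -/
abbrev SVec := List (ℕ × ℤ)

/-- access to the tables of a datum -/
structure Acc where
  /-- chain entries -/
  look : ℕ → ℕ → SVec
  /-- negation -/
  negf : ℕ → ℕ
  /-- Cartan integers -/
  cart : ℕ → ℕ → ℤ
  /-- coroot coefficient lists -/
  co : ℕ → List ℤ

/-- the accessors of the datum itself -/
noncomputable def std : Acc where
  look := D.chainEntry
  negf := D.neg
  cart := D.cartan
  co := fun r => (D.coroot.getD r #[]).toList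

/-- continuation passing identity that makes the kernel evaluate a natural number -/
noncomputable def forceN {α : Type} (n : ℕ) (k : ℕ → α) : α :=
  Nat.rec (k 0) (fun m _ => k (Nat.succ m)) n

/-- continuation passing identity that makes the kernel evaluate an integer -/
noncomputable def forceZ {α : Type} (z : ℤ) (k : ℤ → α) : α :=
  Int.rec (fun m => forceN m fun m' => k (Int.ofNat m'))
    (fun m => forceN m fun m' => k (Int.negSucc m')) z

/-- continuation passing identity that makes the kernel evaluate a sparse vector -/
noncomputable def forceS {α : Type} (L : SVec) (k : SVec → α) : α :=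
  List.rec (fun k => k [])
    (fun e _ acc k => forceN e.1 fun a => forceZ e.2 fun z => acc fun L' => k ((a, z) :: L')) L k

/-- zero test -/
noncomputable def zIsZero (z : ℤ) : Bool := Int.rec (fun m => Nat.beq m 0) (fun _ => false) z

/-- equality test -/
noncomputable def zEq (a b : ℤ) : Bool := zIsZero (a - b)

/-- sign test: strictly positive -/
noncomputable def zPos (z : ℤ) : Bool := Int.rec (fun m => Nat.blt 0 m) (fun _ => false) z

/-- sign test: non-negative -/
noncomputable def zNonneg (z : ℤ) : Bool := Int.rec (fun _ => true) (fun _ => false) z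

/-- scale a sparse vector -/
noncomputable def scaleS (z : ℤ) (L : SVec) : SVec := kmap (fun e => (e.1, z * e.2)) L

/-- apply a matrix given by its columns -/
noncomputable def applyC (c : ℕ → SVec) (L : SVec) : SVec :=
  kbind (fun e => scaleS e.2 (c e.1)) L

/-- coefficient at a key -/
noncomputable def keySum (a : ℕ) (L : SVec) : ℤ :=
  List.rec 0 (fun e _ acc => bif Nat.beq e.1 a then e.2 + acc else acc) L

/-- all coefficients vanish -/
noncomputable def isZeroS (L : SVec) : Bool :=
  forceS L fun L => kall L fun e => zIsZero (keySum e.1 L)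

/-- equality of sparse vectors -/
noncomputable def eqS (L L' : SVec) : Bool := isZeroS (kapp L (scaleS (-1) L'))

section checks

variable (A : Acc)

/-- column `v` of the coefficient of `t^k` (`k ≥ 1`) in `x_r(t)` -/
noncomputable def colW (k r v : ℕ) : SVec :=
  bif Nat.blt v D.nroots then
    bif Nat.beq v r then []
    else bif Nat.beq v (A.negf r) then
      (bif Nat.beq k 1 then ktab D.rank fun i => (D.nroots + i, kget (A.co r) i 0)
      else bif Nat.beq k 2 then [(r, -1)] else [])
    else bif Nat.beq k 0 then []
      else kget (kmap (fun e => [e]) (A.look r v)) (k - 1) []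
  else bif Nat.beq k 1 && Nat.blt v (D.nroots + D.rank) then
    [(r, -A.cart (v - D.nroots) r)] else []

/-- apply `x_r(z)` for an integer `z` -/
noncomputable def applyX (r : ℕ) (z : ℤ) (L : SVec) : SVec :=
  forceS L fun L => forceN r fun r =>
    kapp L (kapp (scaleS z (applyC (colW D A 1 r) L))
      (kapp (scaleS (z * z) (applyC (colW D A 2 r) L))
        (scaleS (z * z * z) (applyC (colW D A 3 r) L))))

/-- `[H_i, ·]` as columns -/
noncomputable def colH (i v : ℕ) : SVec :=
  bif Nat.blt v D.nroots then [(v, A.cart i v)] else []

/-- the root `w_{p_{i+1}}(s)`, as in `ChevalleyDatum.reflectRoot` -/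
noncomputable def reflW (i s : ℕ) : ℕ :=
  forceN (D.simple i) fun p =>
    bif Nat.beq s p then A.negf p
    else bif Nat.beq s (A.negf p) then p
    else forceZ (A.cart i s) fun a =>
      bif zPos a then kget (kmap Prod.fst (A.look (A.negf p) s)) (a.toNat - 1) s
      else bif zPos (-a) then kget (kmap Prod.fst (A.look p s)) ((-a).toNat - 1) s
      else s

/-- `X M_k = (k+1) M_{k+1}` on column `v` of root `r` -/
noncomputable def chkDivPowAt (r v : ℕ) : Bool :=
  eqS (applyC (colW D A 1 r) (colW D A 1 r v)) (scaleS 2 (colW D A 2 r v)) &&
  eqS (applyC (colW D A 1 r) (colW D A 2 r v)) (scaleS 3 (colW D A 3 r v)) &&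
  eqS (applyC (colW D A 1 r) (colW D A 3 r v)) []

/-- `X M_k = (k+1) M_{k+1}` for the roots `lo ≤ r < hi` -/
noncomputable def chkDivPow (lo hi : ℕ) : Bool :=
  kallUpTo (hi - lo) fun r' => forceN (lo + r') fun r =>
    kallUpTo (D.nroots + D.rank) fun v => chkDivPowAt D A r v

/-- column `v` of the commutator `X_a X_b - X_b X_a` -/
noncomputable def commCol (a b v : ℕ) : SVec :=
  kapp (applyC (colW D A 1 a) (colW D A 1 b v))
    (scaleS (-1) (applyC (colW D A 1 b) (colW D A 1 a v)))

/-- relations between the generators -/
noncomputable def chkGen : Bool :=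
  kallUpTo D.rank fun i => kallUpTo D.rank fun j =>
    forceN (D.simple i) fun p => forceN (A.negf (D.simple j)) fun q =>
      forceZ (bif Nat.beq i j then 1 else 0) fun d =>
        eqS (colW D A 1 p q) [(D.nroots + i, d)] && eqS (colW D A 1 q p) [(D.nroots + i, -d)] &&
          kallUpTo (D.nroots + D.rank) fun v =>
            eqS (commCol D A p q v) (scaleS d (colH D A i v))

/-- is `r` a fundamental root or the negative of one -/
noncomputable def isGen (r : ℕ) : Bool :=
  kanyUpTo D.rank fun i => forceN (D.simple i) fun p => Nat.beq r p || Nat.beq r (A.negf p)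

/-- `r = g + a` with `X_g e_a = N e_r`, `N ≠ 0`; the continuation receives `(a, N)` -/
noncomputable def stepK (g r : ℕ) (k : ℕ → ℤ → Bool) : Bool :=
  List.rec false (fun e _ _ => forceN e.1 fun a => Nat.blt a D.nroots &&
    List.rec false (fun f rest _ => List.rec
      (Nat.beq f.1 r && !zIsZero f.2 && zEq (ht D r) (ht D g + ht D a) && k a f.2)
      (fun _ _ _ => false) rest) (colW D A 1 g a)) (A.look (A.negf g) r)

/-- `X_r` is a non-zero multiple of `[X_g, X_c]` with `g` a generator -/
noncomputable def decOK (r g : ℕ) : Bool :=
  stepK D A g r fun a N => Nat.beq (ht D r).natAbs ((ht D a).natAbs + 1) &&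
    kallUpTo (D.nroots + D.rank) fun v => eqS (commCol D A g a v) (scaleS N (colW D A 1 r v))

/-- every root in the range is a generator or has such a decomposition -/
noncomputable def chkDec (lo hi : ℕ) : Bool :=
  kallUpTo (hi - lo) fun r' => forceN (lo + r') fun r =>
    isGen D A r || kanyUpTo D.rank fun i => forceN (D.simple i) fun p =>
      bif zPos (ht D r) then decOK D A r p else forceN (A.negf p) fun q => decOK D A r q

/-- every root that is not highest comes from a lowering generator, and symmetrically -/
noncomputable def chkTop : Bool :=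
  kallUpTo D.nroots fun b => forceZ (ht D b) fun h => forceZ (maxHt D) fun H =>
    zNonneg (H - h) && zNonneg (h + H) &&
    (zEq h H || (!zPos h && isGen D A b) ||
      kanyUpTo D.rank fun j => forceN (A.negf (D.simple j)) fun g =>
        stepK D A g b fun _ _ => true) &&
    (zEq h (-H) || (zPos h && isGen D A b) ||
      kanyUpTo D.rank fun j => forceN (D.simple j) fun g => stepK D A g b fun _ _ => true)

/-- the sign of `n_p` on `e_s`, read off from the columns -/
noncomputable def etaW (i s : ℕ) : ℤ :=
  forceN (D.simple i) fun p =>
    bif zNonneg (keySum (reflW D A i s)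
      (applyX D A p 1 (applyX D A (A.negf p) (-1) (applyX D A p 1 [(s, 1)])))) then 1 else -1

/-- `(-1)^n` -/
noncomputable def parity (n : ℕ) : ℤ := bif Nat.beq (n % 2) 0 then 1 else -1

/-- `n_p` is monomial, for the fundamental root with number `i` -/
noncomputable def chkMono (i : ℕ) : Bool :=
  forceN (D.simple i) fun p => forceN (A.negf p) fun q =>
    (kallUpTo D.nroots fun s => forceN (reflW D A i s) fun s' => forceZ (etaW D A i s) fun e =>
      eqS (applyX D A p 1 (applyX D A q (-1) (applyX D A p 1 [(s, 1)]))) [(s', e)] &&
      zEq (e * etaW D A i s') (parity (A.cart i s).natAbs) &&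
      zEq (e * etaW D A i (A.negf s)) 1) &&
    zEq (etaW D A i p) (-1) &&
    kallUpTo D.rank fun j =>
      eqS (applyX D A p 1 (applyX D A q (-1) (applyX D A p 1 [(D.nroots + j, 1)])))
        [(D.nroots + j, 1), (D.nroots + i, -A.cart j p)]

/-- elementary facts about negation, fundamental roots, coordinates -/
noncomputable def chkBasic : Bool :=
  Nat.blt 0 D.rank &&
  (kallUpTo D.nroots fun r => forceN (A.negf r) fun m => forceZ (ht D r) fun h =>
    Nat.blt m D.nroots && Nat.beq (A.negf m) r && !Nat.beq m r && !zIsZero h &&
    Nat.beq (rvec D r).length D.rank && Nat.beq (A.co r).length D.rank &&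
    (bif zPos h then kall (A.co r) zNonneg && !kall (A.co r) (fun c => zNonneg (-c))
      else kall (A.co r) (fun c => zNonneg (-c)) && !kall (A.co r) zNonneg) &&
    kall2 (rvec D m) (rvec D r) (fun a b => zEq a (-b)) &&
    (kallUpTo D.rank fun j => zEq (A.cart j r)
      (ksum (ktab D.rank fun k => coef D r k * A.cart j (D.simple k)))) &&
    zEq (ksum (ktab D.rank fun i => kget (A.co r) i 0 * A.cart i r)) 2) &&
  (kallUpTo D.rank fun i => forceN (D.simple i) fun p =>
    Nat.blt p D.nroots && zEq (A.cart i p) 2 &&
    kallUpTo D.rank fun j => forceZ (bif Nat.beq j i then 1 else 0) fun d =>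
      zEq (coef D p j) d && zEq (kget (A.co p) j 0) d)

/-- `k a + b` on lists of equal length -/
noncomputable def kcomb (k : ℤ) (L L' : List ℤ) : List ℤ :=
  List.rec (fun _ => []) (fun a _ acc L' =>
    List.rec [] (fun b t _ => (k * a + b) :: acc t) L') L L'

/-- additivity of the coordinate vectors along every chain -/
noncomputable def chkWeight : Bool :=
  kallUpTo D.nroots fun r => kallUpTo D.nroots fun v =>
    forceS (A.look r v) fun L => L.isEmpty ||
      (!Nat.beq v r && !Nat.beq v (A.negf r) && Nat.ble L.length 3 &&
        kallUpTo L.length fun k => forceN (kget L k (0, 0)).1 fun u =>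
          Nat.blt u D.nroots &&
            kall2 (rvec D u) (kcomb ((k : ℤ) + 1) (rvec D r) (rvec D v)) zEq)

/-- the reflections in fundamental roots act on the coordinate vectors as they should -/
noncomputable def chkRefl : Bool :=
  (kallUpTo D.rank fun i => forceN (D.simple i) fun p =>
    (kallUpTo D.nroots fun s => forceN (reflW D A i s) fun s' =>
      Nat.blt s' D.nroots && Nat.beq (reflW D A i s') s &&
      Nat.beq (reflW D A i (A.negf s)) (A.negf s') &&
      (!zPos (ht D s) || Nat.beq s p || zPos (ht D s')) &&
      kall2 (rvec D s') (ktab D.rank fun j =>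
        coef D s j - (bif Nat.beq j i then A.cart i s else 0)) zEq) &&
    Nat.beq (reflW D A i p) (A.negf p)) &&
  kallUpTo D.nroots fun s => forceZ (ht D s) fun h => !zPos h || isGen D A s ||
    kanyUpTo D.rank fun i => zPos (h - ht D (reflW D A i s))

end checks

/-- decode a packed slot -/
noncomputable def decodeSlot (c : ℕ) : SVec :=
  Nat.rec (fun _ => [])
    (fun _ acc c => bif Nat.beq (c % 65536) 0 then [] else
      ((c % 65536) / 16, Int.subNatNat ((c % 65536) % 16) 8) :: acc (c / 65536)) 3 c

/-- packed tables -/
structure Packed where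
  /-- slot width -/
  width : ℕ
  /-- chain rows -/
  rows : Tree ℕ
  /-- Cartan integers -/
  cart : Tree ℕ
  /-- coroots -/
  co : Tree (List ℤ)

/-- accessors through packed tables (the datum itself out of range) -/
noncomputable def fast (P : Packed) : Acc where
  look r v := bif Nat.blt r D.nroots && Nat.blt v D.nroots then
      decodeSlot (((P.rows.get r) >>> (P.width * v)) % 2 ^ P.width) else D.chainEntry r v
  negf r := bif Nat.blt r D.nroots then D.nroots - 1 - r else D.neg r
  cart i r := bif Nat.blt i D.rank && Nat.blt r D.nroots then
      Int.subNatNat (((P.cart.get i) >>> (4 * r)) % 16) 8 else D.cartan i r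
  co r := bif Nat.blt r D.nroots then P.co.get r else (D.coroot.getD r #[]).toList

/-- walk along a sorted row and compare with a lookup -/
noncomputable def walkRow (look : ℕ → SVec) (L : List (ℕ × Array (ℕ × ℤ))) (s f : ℕ) : Bool :=
  Nat.rec (motive := fun _ => List (ℕ × Array (ℕ × ℤ)) → ℕ → Bool) (fun L _ => L.isEmpty)
    (fun _ acc L s => forceN s fun s => List.rec ((look s).isEmpty && acc [] (s + 1))
      (fun e L' _ => bif Nat.beq e.1 s then
          (kall2 (look s) e.2.toList fun a b => Nat.beq a.1 b.1 && zEq a.2 b.2) && acc L' (s + 1)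
        else (look s).isEmpty && acc (e :: L') (s + 1)) L) f L s

/-- the packed tables agree with the datum -/
noncomputable def chkLink (P : Packed) : Bool :=
  Nat.beq D.chain.size D.nroots && Nat.beq D.cartanSR.size D.rank &&
  (kall2 D.chain.toList (ktab D.nroots id) fun row r =>
    walkRow (fun v => (fast D P).look r v) row.toList 0 D.nroots) &&
  (kall2 D.negIdx.toList (ktab D.nroots id) fun m r => Nat.beq m ((fast D P).negf r)) &&
  (kall2 D.coroot.toList (ktab D.nroots id) fun row r =>
    kall2 row.toList ((fast D P).co r) zEq) &&
  (kall2 D.cartanSR.toList (ktab D.rank id) fun row i =>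
    kall2 row.toList (ktab D.nroots id) fun a r => zEq a ((fast D P).cart i r))

/-- Everything that is read off from the tables. -/
structure Good : Prop where
  chainUnique : ∀ r v, ((D.chain.getD r #[]).toList.filter fun e => e.1 = v).length ≤ 1
  basic : chkBasic D (std D) = true
  weight : chkWeight D (std D) = true
  refl : chkRefl D (std D) = true
  divPow : ∀ r < D.nroots, ∀ v < D.nroots + D.rank, chkDivPowAt D (std D) r v = true
  gen : chkGen D (std D) = true
  dec : ∀ r < D.nroots, ∃ lo hi, lo ≤ r ∧ r < hi ∧
    chkDec D (std D) lo hi = true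
  top : chkTop D (std D) = true
  mono : ∀ i < D.rank, chkMono D (std D) i = true

end Cfsg.Agent.ChevCore
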