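/-
Packed tables that pass `chkLink` give the accessors of the datum.
-/
import Cfsg.Agent.Lib.ChevCore.Defs

set_option autoImplicit false

namespace Cfsg.Agent.ChevCore

open Cfsg.Lie

theorem forceN_eq {α : Type} (n : ℕ) (k : ℕ → α) : forceN n k = k n := by cases n <;> rfl

theorem forceZ_eq {α : Type} (z : ℤ) (k : ℤ → α) : forceZ z k = k z := by
  cases z with
  | ofNat m => exact (forceN_eq m fun m' => k (Int.ofNat m')).trans rfl
  | negSucc m => exact (forceN_eq m fun m' => k (Int.negSucc m')).trans rfl

theorem forceS_eq {α : Type} (L : SVec) (k : SVec → α) : forceS L k = k L := by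
  induction L generalizing k with
  | nil => rfl
  | cons e L ih =>
    show forceN e.1 (fun a => forceZ e.2 fun z => forceS L fun L' => k ((a, z) :: L')) = _
    rw [forceN_eq, forceZ_eq, ih]

theorem zIsZero_iff {z : ℤ} : zIsZero z = true ↔ z = 0 := by
  cases z with
  | ofNat m => simp [zIsZero]
  | negSucc m => simp [zIsZero]

theorem zEq_iff {a b : ℤ} : zEq a b = true ↔ a = b := by
  simp [zEq, zIsZero_iff, sub_eq_zero]

theorem zPos_iff {z : ℤ} : zPos z = true ↔ 0 < z := by
  cases z with
  | ofNat m => simp [zPos]
  | negSucc m => simp [zPos]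

theorem zNonneg_iff {z : ℤ} : zNonneg z = true ↔ 0 ≤ z := by
  cases z with
  | ofNat m => simp [zNonneg]
  | negSucc m => simp [zNonneg]

theorem kall2_eq_iff {α : Type} (L L' : List α) (f : α → α → Bool)
    (hf : ∀ a b, f a b = true ↔ a = b) : kall2 L L' f = true ↔ L = L' := by
  rw [kall2_iff]
  constructor
  · rintro ⟨hl, h⟩
    refine List.ext_getElem? fun i => ?_
    by_cases hi : i < L.length
    · rw [List.getElem?_eq_getElem hi, List.getElem?_eq_getElem (hl ▸ hi), Option.some_inj]
      exact (hf _ _).1 (h i _ _ (List.getElem?_eq_getElem hi) (List.getElem?_eq_getElem (hl ▸ hi)))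
    · rw [List.getElem?_eq_none (by omega), List.getElem?_eq_none (by omega)]
  · rintro rfl
    refine ⟨rfl, fun i a b ha hb => (hf a b).2 ?_⟩
    rw [ha] at hb
    exact Option.some.inj hb

theorem walkRow_spec (look : ℕ → SVec) : ∀ (f : ℕ) (L : List (ℕ × Array (ℕ × ℤ))) (s : ℕ),
    walkRow look L s f = true →
      (∀ e ∈ L, s ≤ e.1 ∧ e.1 < s + f) ∧
      (∀ v, (L.filter fun e => e.1 = v).length ≤ 1) ∧
      ∀ v, s ≤ v → v < s + f →
        look v = ((L.find? fun e => e.1 = v).map fun e => e.2.toList).getD [] := by
  intro f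
  induction f with
  | zero =>
    intro L s h
    rcases L with _ | ⟨e, L⟩
    · exact ⟨by simp, by simp, fun v h1 h2 => by omega⟩
    · simp [walkRow] at h
  | succ f ih =>
    intro L s h
    have hstep : walkRow look L s (f + 1) = List.rec ((look s).isEmpty && walkRow look [] (s + 1) f)
        (fun e L' _ => bif Nat.beq e.1 s then
            (kall2 (look s) e.2.toList fun a b => Nat.beq a.1 b.1 && zEq a.2 b.2) &&
              walkRow look L' (s + 1) f
          else (look s).isEmpty && walkRow look (e :: L') (s + 1) f) L := by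
      show (forceN s fun s => (List.rec ((look s).isEmpty && walkRow look [] (s + 1) f)
        (fun e L' _ => bif Nat.beq e.1 s then
            (kall2 (look s) e.2.toList fun a b => Nat.beq a.1 b.1 && zEq a.2 b.2) &&
              walkRow look L' (s + 1) f
          else (look s).isEmpty && walkRow look (e :: L') (s + 1) f) L : Bool)) = _
      rw [forceN_eq]
    rw [hstep] at h
    rcases L with _ | ⟨e, L⟩
    · simp only [Bool.and_eq_true, List.isEmpty_iff] at h
      refine ⟨by simp, by simp, fun v h1 h2 => ?_⟩
      rcases eq_or_lt_of_le h1 with rfl | hlt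
      · simp [h.1]
      · exact (ih [] (s + 1) h.2).2.2 v hlt (by omega)
    · by_cases he : e.1 = s
      · replace h : kall2 (look s) e.2.toList (fun a b => Nat.beq a.1 b.1 && zEq a.2 b.2) = true ∧
            walkRow look L (s + 1) f = true := by simpa [he] using h
        obtain ⟨hb, hu, hl⟩ := ih L (s + 1) h.2
        have he2 : look s = e.2.toList :=
          (kall2_eq_iff _ _ _ fun a b => by simp [zEq_iff, Prod.ext_iff]).1 h.1
        refine ⟨?_, fun v => ?_, fun v h1 h2 => ?_⟩
        · intro a ha
          rcases List.mem_cons.1 ha with rfl | ha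
          · omega
          · have := hb a ha; omega
        · by_cases hv : e.1 = v
          · rw [List.filter_cons_of_pos (by simpa using hv), List.filter_eq_nil_iff.2 fun a ha => ?_]
            · simp
            · have := hb a ha; simp; omega
          · rw [List.filter_cons_of_neg (by simpa using hv)]
            exact hu v
        · rcases eq_or_lt_of_le h1 with rfl | hlt
          · simp [he, he2]
          · rw [List.find?_cons_of_neg (by simp [he]; omega)]
            exact hl v hlt (by omega)
      · have hbeq : Nat.beq e.1 s = false := by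
          cases hb : Nat.beq e.1 s
          · rfl
          · exact absurd (Nat.eq_of_beq_eq_true hb) he
        simp only [hbeq, cond_false, Bool.and_eq_true, List.isEmpty_iff] at h
        obtain ⟨hb, hu, hl⟩ := ih (e :: L) (s + 1) h.2
        refine ⟨fun a ha => ⟨by have := hb a ha; omega, by have := hb a ha; omega⟩, hu,
          fun v h1 h2 => ?_⟩
        rcases eq_or_lt_of_le h1 with rfl | hlt
        · rw [h.1, List.find?_eq_none.2 fun a ha => ?_]
          · rfl
          · have := hb a ha; simp; omega
        · exact hl v hlt (by omega)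

theorem ktab_id_get {n i r : ℕ} (h : (ktab n id)[i]? = some r) : r = i ∧ i < n := by
  rw [ktab_eq, List.map_id] at h
  obtain ⟨hi, hr⟩ := List.getElem?_eq_some_iff.1 h
  simp only [List.length_range] at hi
  simp at hr
  exact ⟨hr.symm, hi⟩

theorem kall2_ktab {α : Type} {L : List α} {n : ℕ} {f : α → ℕ → Bool}
    (h : kall2 L (ktab n id) f = true) :
    L.length = n ∧ ∀ i (hi : i < L.length), f L[i] i = true := by
  rw [kall2_iff] at h
  have hl : L.length = n := by simpa [ktab_eq] using h.1
  refine ⟨hl, fun i hi => h.2 i _ _ (List.getElem?_eq_getElem hi) ?_⟩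
  rw [ktab_eq, List.map_id, List.getElem?_range (by omega)]

variable (D : ChevalleyDatum)

theorem chainEntry_eq (r v : ℕ) :
    D.chainEntry r v =
      (((D.chain.getD r #[]).toList.find? fun e => e.1 = v).map fun e => e.2.toList).getD [] := by
  simp only [ChevalleyDatum.chainEntry]
  cases ((D.chain.getD r #[]).toList.find? fun e => decide (e.1 = v)) <;> rfl

variable {D} {P : Packed}

theorem array_getD_toList {α : Type} (a : Array α) (i : ℕ) (d : α) (h : i < a.toList.length) :
    a.getD i d = a.toList[i] := by
  have h' : i < a.size := by simpa using h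
  simp [Array.getD, h']

theorem fast_eq_std (h : chkLink D P = true) :
    fast D P = std D ∧
      ∀ r v, ((D.chain.getD r #[]).toList.filter fun e => e.1 = v).length ≤ 1 := by
  simp only [chkLink, Bool.and_eq_true, Nat.beq_eq_true_eq] at h
  obtain ⟨⟨⟨⟨⟨hs1, hs2⟩, hchain⟩, hneg⟩, hco⟩, hA⟩ := h
  replace hs1 := Nat.eq_of_beq_eq_true hs1
  replace hs2 := Nat.eq_of_beq_eq_true hs2
  have hblt : ∀ {a b : ℕ}, ¬ a < b → Nat.blt a b = false := fun hab =>
    Bool.eq_false_iff.2 fun hb => hab (by simpa using hb)
  obtain ⟨hcl, hchain⟩ := kall2_ktab hchain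
  obtain ⟨hnl, hneg⟩ := kall2_ktab hneg
  obtain ⟨hcol, hco⟩ := kall2_ktab hco
  obtain ⟨hAl, hA⟩ := kall2_ktab hA
  have hrow : ∀ r (hr : r < D.nroots), walkRow (fun v => (fast D P).look r v)
      (D.chain.getD r #[]).toList 0 D.nroots = true := by
    intro r hr
    rw [array_getD_toList _ _ _ (by omega)]
    exact hchain r (by omega)
  have hlook : (fast D P).look = D.chainEntry := by
    funext r v
    by_cases hrv : r < D.nroots ∧ v < D.nroots
    · rw [chainEntry_eq]
      exact (walkRow_spec _ _ _ _ (hrow r hrv.1)).2.2 v (Nat.zero_le _) (by omega)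
    · show cond (Nat.blt r D.nroots && Nat.blt v D.nroots) _ _ = _
      rw [show (Nat.blt r D.nroots && Nat.blt v D.nroots) = false by
        rw [Bool.eq_false_iff]; simpa using fun h1 => Nat.le_of_not_lt fun h2 => hrv ⟨h1, h2⟩]
      rfl
  have hnegf : (fast D P).negf = D.neg := by
    funext r
    by_cases hr : r < D.nroots
    · have := hneg r (by omega)
      replace this := Nat.eq_of_beq_eq_true this
      rw [ChevalleyDatum.neg, array_getD_toList _ _ _ (by omega)]
      exact this.symm
    · simp [fast, hblt hr]
  have hcof : (fast D P).co = fun r => (D.coroot.getD r #[]).toList := by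
    funext r
    by_cases hr : r < D.nroots
    · have := hco r (by omega)
      rw [kall2_eq_iff _ _ _ fun a b => zEq_iff] at this
      rw [array_getD_toList _ _ _ (by omega)]
      exact this.symm
    · simp [fast, hblt hr]
  have hcart : (fast D P).cart = D.cartan := by
    funext i r
    by_cases hir : i < D.rank ∧ r < D.nroots
    · have hrow' := hA i (by omega)
      obtain ⟨hl, hrow'⟩ := kall2_ktab hrow'
      have := hrow' r (by omega)
      rw [zEq_iff] at this
      rw [ChevalleyDatum.cartan, array_getD_toList D.cartanSR _ _ (by omega),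
        array_getD_toList _ _ _ (by omega)]
      exact this.symm
    · show cond (Nat.blt i D.rank && Nat.blt r D.nroots) _ _ = _
      rw [show (Nat.blt i D.rank && Nat.blt r D.nroots) = false by
        rw [Bool.eq_false_iff]; simpa using fun h1 => Nat.le_of_not_lt fun h2 => hir ⟨h1, h2⟩]
      rfl
  refine ⟨?_, fun r v => ?_⟩
  · have : fast D P = ⟨(fast D P).look, (fast D P).negf, (fast D P).cart, (fast D P).co⟩ := rfl
    rw [this, hlook, hnegf, hcart, hcof]
    rfl
  · by_cases hr : r < D.nroots
    · exact (walkRow_spec _ _ _ _ (hrow r hr)).2.1 v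
    · rw [show D.chain.getD r #[] = #[] by simp [Array.getD, hs1, hr]]
      simp

/-- assemble the certificates; `dp`, `dc` are cut points covering the roots -/
theorem good_of_checks (P : Packed) (dp dc : List (ℕ × ℕ)) (hl : chkLink D P = true)
    (hb : chkBasic D (fast D P) = true) (hw : chkWeight D (fast D P) = true)
    (hrf : chkRefl D (fast D P) = true) (hg : chkGen D (fast D P) = true)
    (ht : chkTop D (fast D P) = true)
    (hdp : ∀ c ∈ dp, chkDivPow D (fast D P) c.1 c.2 = true)
    (hdc : ∀ c ∈ dc, chkDec D (fast D P) c.1 c.2 = true)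
    (cdp : kallUpTo D.nroots (fun r => kany dp fun c => Nat.ble c.1 r && Nat.blt r c.2) = true)
    (cdc : kallUpTo D.nroots (fun r => kany dc fun c => Nat.ble c.1 r && Nat.blt r c.2) = true)
    (hm : ∀ i < D.rank, chkMono D (fast D P) i = true) : Good D := by
  obtain ⟨he, hu⟩ := fast_eq_std hl
  rw [he] at hb hw hrf hg ht hdp hdc hm
  rw [kallUpTo_iff] at cdp cdc
  refine ⟨hu, hb, hw, hrf, fun r hr v hv => ?_, hg, fun r hr => ?_, ht, hm⟩
  · obtain ⟨c, hc, hcr⟩ := (kany_iff _ _).1 (cdp r hr)
    simp only [Bool.and_eq_true, Nat.ble_eq, Nat.blt_eq] at hcr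
    have h := hdp c hc
    simp only [chkDivPow, kallUpTo_iff, forceN_eq] at h
    have := h (r - c.1) (by omega) v hv
    rwa [show c.1 + (r - c.1) = r by omega] at this
  · obtain ⟨c, hc, hcr⟩ := (kany_iff _ _).1 (cdc r hr)
    simp only [Bool.and_eq_true, Nat.ble_eq, Nat.blt_eq] at hcr
    exact ⟨c.1, c.2, hcr.1, hcr.2, hdc c hc⟩

end Cfsg.Agent.ChevCore
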