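/-
Meaning of the sparse vectors and of the checks on them.
-/
import Cfsg.Agent.Lib.ChevCore.Link

set_option autoImplicit false

namespace Cfsg.Agent.ChevCore

open Cfsg.Lie

variable (D : ChevalleyDatum)

/-- numeric code of a coordinate -/
def code : D.Idx → ℕ := Sum.elim (fun i => D.nroots + i.val) (fun r => r.val)

theorem code_inl (i : Fin D.rank) : code D (Sum.inl i) = D.nroots + i.val := rfl

theorem code_inr (r : Fin D.nroots) : code D (Sum.inr r) = r.val := rfl

theorem code_lt (a : D.Idx) : code D a < D.nroots + D.rank := by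
  rcases a with i | r
  · have := i.isLt; simp only [code_inl]; omega
  · have := r.isLt; simp only [code_inr]; omega

theorem code_injective : Function.Injective (code D) := by
  rintro (i | r) (j | s) h <;> simp only [code_inl, code_inr] at h
  · congr 1; exact Fin.ext (by omega)
  · have := s.isLt; omega
  · have := r.isLt; omega
  · congr 1; exact Fin.ext h

theorem exists_code_eq {v : ℕ} (h : v < D.nroots + D.rank) : ∃ a, code D a = v := by
  by_cases hv : v < D.nroots
  · exact ⟨Sum.inr ⟨v, hv⟩, rfl⟩
  · exact ⟨Sum.inl ⟨v - D.nroots, by omega⟩, by simp only [code_inl]; omega⟩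

/-- the vector of a sparse list -/
def vec (R : Type*) [CommRing R] (L : SVec) : D.Idx → R :=
  fun a => ((L.filter fun e => e.1 == code D a).map fun e => (e.2 : R)).sum

variable {R : Type*} [CommRing R]

@[simp] theorem vec_nil : vec D R [] = 0 := rfl

theorem vec_cons (v : ℕ) (z : ℤ) (L : SVec) :
    vec D R ((v, z) :: L) = (fun a => if v = code D a then (z : R) else 0) + vec D R L := by
  funext a
  by_cases h : v = code D a <;> simp [vec, h]

@[simp] theorem vec_append (L L' : SVec) : vec D R (L ++ L') = vec D R L + vec D R L' := by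
  funext a; simp [vec, List.filter_append, List.sum_append]

@[simp] theorem vec_kapp (L L' : SVec) : vec D R (kapp L L') = vec D R L + vec D R L' := by
  rw [kapp_eq, vec_append]

theorem vec_single_code (a : D.Idx) (z : ℤ) :
    vec D R [(code D a, z)] = Pi.single a (z : R) := by
  funext b
  rw [vec_cons, vec_nil, add_zero]
  by_cases h : a = b
  · subst h; simp
  · rw [Pi.single_eq_of_ne (Ne.symm h), if_neg fun e => h (code_injective D e)]

theorem vec_single_root {r : ℕ} (hr : r < D.nroots) (z : ℤ) :
    vec D R [(r, z)] = Pi.single (Sum.inr ⟨r, hr⟩) (z : R) :=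
  vec_single_code D (Sum.inr ⟨r, hr⟩) z

theorem vec_single_coroot {i : ℕ} (hi : i < D.rank) (z : ℤ) :
    vec D R [(D.nroots + i, z)] = Pi.single (Sum.inl ⟨i, hi⟩) (z : R) :=
  vec_single_code D (Sum.inl ⟨i, hi⟩) z

theorem scaleS_cons (z : ℤ) (v : ℕ) (w : ℤ) (L : SVec) :
    scaleS z ((v, w) :: L) = (v, z * w) :: scaleS z L := rfl

@[simp] theorem vec_scaleS (z : ℤ) (L : SVec) : vec D R (scaleS z L) = (z : R) • vec D R L := by
  induction L with
  | nil => simp [scaleS, kmap]
  | cons e L ih =>
    rcases e with ⟨v, w⟩
    rw [scaleS_cons, vec_cons, vec_cons, ih, smul_add]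
    congr 1
    funext a
    by_cases h : v = code D a <;> simp [h]

theorem vec_map_cast (L : SVec) (a : D.Idx) : vec D R L a = ((vec D ℤ L a : ℤ) : R) := by
  induction L with
  | nil => simp
  | cons e L ih =>
    rcases e with ⟨v, z⟩
    by_cases h : v = code D a <;> simp [vec_cons, h, ih]

theorem keySum_eq (a : D.Idx) (L : SVec) : keySum (code D a) L = vec D ℤ L a := by
  induction L with
  | nil => rfl
  | cons e L ih =>
    rcases e with ⟨v, z⟩
    show cond (Nat.beq v (code D a)) (z + keySum (code D a) L) (keySum (code D a) L) = _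
    rw [ih, vec_cons, Pi.add_apply]
    by_cases h : v = code D a
    · rw [if_pos h, show Nat.beq v (code D a) = true by simpa using h]; simp
    · rw [if_neg h, show Nat.beq v (code D a) = false from
        Bool.eq_false_iff.2 fun hb => h (Nat.eq_of_beq_eq_true hb)]
      simp

theorem exists_mem_of_vec_ne_zero {L : SVec} {a : D.Idx} (h : vec D R L a ≠ 0) :
    ∃ e ∈ L, e.1 = code D a := by
  by_contra hc
  refine h ?_
  rw [vec, List.filter_eq_nil_iff.2 fun e he => ?_]
  · rfl
  · simpa using fun hh => hc ⟨e, he, hh⟩

theorem vec_eq_zero_of_isZeroS {L : SVec} (h : isZeroS L = true) : vec D R L = 0 := by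
  funext a
  rw [vec_map_cast]
  suffices vec D ℤ L a = 0 by simp [this]
  by_contra hne
  obtain ⟨e, he, hea⟩ := exists_mem_of_vec_ne_zero D hne
  simp only [isZeroS, forceS_eq, kall_iff, zIsZero_iff] at h
  have := h e he
  rw [hea, keySum_eq] at this
  exact hne this

theorem vec_eq_of_eqS {L L' : SVec} (h : eqS L L' = true) : vec D R L = vec D R L' := by
  have := vec_eq_zero_of_isZeroS D (R := R) h
  rw [vec_kapp, vec_scaleS] at this
  simpa [← sub_eq_add_neg, sub_eq_zero] using this

/-- canonical columns -/
noncomputable def col (k r v : ℕ) : SVec := colW D (std D) k r v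

/-- the coefficient of `t^k` in `x_r(t)` as an integer matrix, `k ≥ 1` -/
noncomputable def M (k r : ℕ) : Matrix D.Idx D.Idx ℤ :=
  Matrix.of fun a b => vec D ℤ (col D k r (code D b)) a

/-- `M` over a commutative ring -/
noncomputable def Mc (R : Type*) [CommRing R] (k r : ℕ) : Matrix D.Idx D.Idx R :=
  (M D k r).map (Int.cast : ℤ → R)

theorem Mc_apply (k r : ℕ) (a b : D.Idx) :
    Mc D R k r a b = vec D R (col D k r (code D b)) a := by
  rw [vec_map_cast]; rfl

theorem Mc_int (k r : ℕ) : Mc D ℤ k r = M D k r := by
  ext a b; simp [Mc]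

theorem col_out {k r v : ℕ} (h : D.nroots + D.rank ≤ v) : col D k r v = [] := by
  have h1 : Nat.blt v D.nroots = false := Bool.eq_false_iff.2 fun hb => by simp at hb; omega
  have h2 : Nat.blt v (D.nroots + D.rank) = false :=
    Bool.eq_false_iff.2 fun hb => by simp at hb; omega
  simp only [col, colW, h1, h2, cond_false, Bool.and_false]

theorem applyC_cons (c : ℕ → SVec) (e : ℕ × ℤ) (L : SVec) :
    applyC c (e :: L) = kapp (scaleS e.2 (c e.1)) (applyC c L) := rfl

theorem vec_applyC (c : ℕ → SVec) (A : Matrix D.Idx D.Idx R)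
    (hA : ∀ b, vec D R (c (code D b)) = Matrix.mulVec A (Pi.single b 1))
    (hc : ∀ v, D.nroots + D.rank ≤ v → c v = []) (L : SVec) :
    vec D R (applyC c L) = Matrix.mulVec A (vec D R L) := by
  induction L with
  | nil => simp [applyC, kbind]
  | cons e L ih =>
    rcases e with ⟨v, z⟩
    rw [applyC_cons, vec_kapp, ih, vec_scaleS, vec_cons, Matrix.mulVec_add]
    congr 1
    by_cases hv : v < D.nroots + D.rank
    · obtain ⟨a, rfl⟩ := exists_code_eq D hv
      have hs : (fun b => if code D a = code D b then (z : R) else 0) =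
          (z : R) • Pi.single a (1 : R) := by
        funext b
        rw [Pi.smul_apply]
        by_cases h : a = b
        · subst h; simp
        · rw [Pi.single_eq_of_ne (Ne.symm h), if_neg fun e => h (code_injective D e), smul_zero]
      rw [hs, Matrix.mulVec_smul, hA]
    · have hs : (fun b => if v = code D b then (z : R) else 0) = 0 := by
        funext b
        rw [if_neg fun (e : v = code D b) => hv (e ▸ code_lt D b)]
        rfl
      rw [hs, hc v (by omega)]
      simp

theorem Mc_single (k r : ℕ) (b : D.Idx) :
    Matrix.mulVec (Mc D R k r) (Pi.single b 1) = vec D R (col D k r (code D b)) := by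
  funext a
  simp [Mc_apply]

theorem vec_applyC_col (k r : ℕ) (L : SVec) :
    vec D R (applyC (col D k r) L) = Matrix.mulVec (Mc D R k r) (vec D R L) :=
  vec_applyC D _ _ (fun b => (Mc_single D k r b).symm) (fun _ hv => col_out D hv) L

/-- two matrices that agree on all basis columns -/
theorem matrix_ext_col {A B : Matrix D.Idx D.Idx R}
    (h : ∀ b : D.Idx, Matrix.mulVec A (Pi.single b 1) = Matrix.mulVec B (Pi.single b 1)) :
    A = B := by
  ext a b
  simpa using congrFun (h b) a

theorem vec_basis (b : D.Idx) : vec D R [(code D b, 1)] = Pi.single b 1 := by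
  rw [vec_single_code]; simp

end Cfsg.Agent.ChevCore
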