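/-
Elementary consequences of the certificates: roots, heights, homogeneity of the columns.
-/
import Cfsg.Agent.Lib.ChevCore.Vec

set_option autoImplicit false

namespace Cfsg.Agent.ChevCore

open Cfsg.Lie

variable {D : ChevalleyDatum}

@[simp] theorem std_look (D : ChevalleyDatum) : (std D).look = D.chainEntry := rfl

@[simp] theorem std_negf (D : ChevalleyDatum) : (std D).negf = D.neg := rfl

@[simp] theorem std_cart (D : ChevalleyDatum) : (std D).cart = D.cartan := rfl

theorem nat_beq_false {a b : ℕ} (h : a ≠ b) : Nat.beq a b = false :=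
  Bool.eq_false_iff.2 fun hb => h (Nat.eq_of_beq_eq_true hb)

theorem nat_blt_false {a b : ℕ} (h : ¬ a < b) : Nat.blt a b = false :=
  Bool.eq_false_iff.2 fun hb => h (by simpa using hb)

theorem ksum_eq (L : List ℤ) : ksum L = L.sum := by
  induction L with
  | nil => rfl
  | cons a L ih => rw [List.sum_cons, ← ih]; rfl

theorem kcomb_eq (k : ℤ) (L L' : List ℤ) :
    kcomb k L L' = List.zipWith (fun a b => k * a + b) L L' := by
  induction L generalizing L' with
  | nil => cases L' <;> rfl
  | cons a L ih =>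
    cases L' with
    | nil => rfl
    | cons b L' => rw [List.zipWith_cons_cons, ← ih]; rfl

theorem list_sum_range {M : Type*} [AddCommMonoid M] (f : ℕ → M) (n : ℕ) :
    ((List.range n).map f).sum = ∑ j ∈ Finset.range n, f j := by
  induction n with
  | zero => simp
  | succ n ih => rw [List.range_succ, List.map_append, List.sum_append, ih, Finset.sum_range_succ]; simp

namespace Good

variable (hD : Good D)

include hD

theorem rank_pos : 0 < D.rank := by
  have := hD.basic
  simp only [chkBasic, Bool.and_eq_true] at this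
  simpa using this.1.1

theorem root_facts {r : ℕ} (hr : r < D.nroots) :
    D.neg r < D.nroots ∧ D.neg (D.neg r) = r ∧ D.neg r ≠ r ∧ ht D r ≠ 0 ∧
      (rvec D r).length = D.rank ∧ (D.coroot.getD r #[]).toList.length = D.rank ∧
      ((0 < ht D r ∧ D.IsPosRoot r ∧ ¬ D.IsNegRoot r) ∨
        (ht D r < 0 ∧ D.IsNegRoot r ∧ ¬ D.IsPosRoot r)) ∧
      (∀ j < D.rank, coef D (D.neg r) j = -coef D r j) ∧
      (∀ j < D.rank, D.cartan j r =
        ∑ k ∈ Finset.range D.rank, coef D r k * D.cartan j (D.simple k)) ∧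
      ∑ i ∈ Finset.range D.rank, (D.coroot.getD r #[]).getD i 0 * D.cartan i r = 2 := by
  have h := hD.basic
  simp only [chkBasic, Bool.and_eq_true, kallUpTo_iff, forceN_eq, forceZ_eq, std_negf] at h
  obtain ⟨⟨⟨⟨⟨⟨⟨⟨⟨h1, h2⟩, h3⟩, h4⟩, h5⟩, h6⟩, h7⟩, h8⟩, h9⟩, h10⟩ := h.1.2 r hr
  simp only [Nat.blt_eq] at h1
  have h2' := Nat.eq_of_beq_eq_true h2
  have h3' : D.neg r ≠ r := by intro e; simp [e] at h3
  have h4' : ht D r ≠ 0 := by intro e; simp [e, zIsZero] at h4
  have h5' := Nat.eq_of_beq_eq_true h5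
  have h6' := Nat.eq_of_beq_eq_true h6
  refine ⟨h1, h2', h3', h4', h5', h6', ?_, ?_, ?_, ?_⟩
  · by_cases hp : 0 < ht D r
    · simp only [zPos_iff.2 hp, cond_true, Bool.and_eq_true, kall_iff, zNonneg_iff] at h7
      refine Or.inl ⟨hp, ⟨hr, h7.1⟩, fun hn => ?_⟩
      have h72 := h7.2
      simp only [Bool.not_eq_true', ← Bool.not_eq_true, kall_iff, zNonneg_iff] at h72
      exact h72 fun c hc => by have := hn.2 c hc; omega
    · have hn : zPos (ht D r) = false := Bool.eq_false_iff.2 fun e => hp (zPos_iff.1 e)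
      simp only [hn, cond_false, Bool.and_eq_true, kall_iff, zNonneg_iff] at h7
      refine Or.inr ⟨by omega, ⟨hr, fun c hc => by have := h7.1 c hc; omega⟩, fun hpos => ?_⟩
      have h72 := h7.2
      simp only [Bool.not_eq_true', ← Bool.not_eq_true, kall_iff, zNonneg_iff] at h72
      exact h72 hpos.2
  · intro j hj
    obtain ⟨hl, hi⟩ := (kall2_iff _ _ _).1 h8
    have hj' : j < (rvec D r).length := by omega
    have := hi j _ _ (List.getElem?_eq_getElem (hl ▸ hj')) (List.getElem?_eq_getElem hj')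
    rw [zEq_iff] at this
    rw [coef, coef, kget_eq, kget_eq, List.getD_eq_getElem _ _ (hl ▸ hj'),
      List.getD_eq_getElem _ _ hj', this]
  · intro j hj
    have := h9 j hj
    rw [zEq_iff, ksum_eq, ktab_eq, list_sum_range] at this
    exact this
  · rw [zEq_iff, ksum_eq, ktab_eq, list_sum_range] at h10
    refine Eq.trans (Finset.sum_congr rfl fun i hi => ?_) h10
    simp [std, kget_eq, List.getD_eq_getElem?_getD]

theorem neg_lt {r : ℕ} (hr : r < D.nroots) : D.neg r < D.nroots := (hD.root_facts hr).1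

theorem neg_neg {r : ℕ} (hr : r < D.nroots) : D.neg (D.neg r) = r := (hD.root_facts hr).2.1

theorem neg_ne {r : ℕ} (hr : r < D.nroots) : D.neg r ≠ r := (hD.root_facts hr).2.2.1

theorem ht_ne_zero {r : ℕ} (hr : r < D.nroots) : ht D r ≠ 0 := (hD.root_facts hr).2.2.2.1

theorem rvec_length {r : ℕ} (hr : r < D.nroots) : (rvec D r).length = D.rank :=
  (hD.root_facts hr).2.2.2.2.1

theorem isPosRoot_iff {r : ℕ} (hr : r < D.nroots) : D.IsPosRoot r ↔ 0 < ht D r := by
  rcases (hD.root_facts hr).2.2.2.2.2.2.1 with ⟨h1, h2, -⟩ | ⟨h1, -, h3⟩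
  · exact iff_of_true h2 h1
  · exact iff_of_false h3 (by omega)

theorem isNegRoot_iff {r : ℕ} (hr : r < D.nroots) : D.IsNegRoot r ↔ ht D r < 0 := by
  rcases (hD.root_facts hr).2.2.2.2.2.2.1 with ⟨h1, -, h3⟩ | ⟨h1, h2, -⟩
  · exact iff_of_false h3 (by omega)
  · exact iff_of_true h2 h1

theorem coef_neg {r j : ℕ} (hr : r < D.nroots) (hj : j < D.rank) :
    coef D (D.neg r) j = -coef D r j := (hD.root_facts hr).2.2.2.2.2.2.2.1 j hj

theorem cartan_eq {r j : ℕ} (hr : r < D.nroots) (hj : j < D.rank) :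
    D.cartan j r = ∑ k ∈ Finset.range D.rank, coef D r k * D.cartan j (D.simple k) :=
  (hD.root_facts hr).2.2.2.2.2.2.2.2.1 j hj

theorem coroot_pairing {r : ℕ} (hr : r < D.nroots) :
    ∑ i ∈ Finset.range D.rank, (D.coroot.getD r #[]).getD i 0 * D.cartan i r = 2 :=
  (hD.root_facts hr).2.2.2.2.2.2.2.2.2

theorem ht_eq {r : ℕ} (hr : r < D.nroots) :
    ht D r = ∑ j ∈ Finset.range D.rank, coef D r j := by
  rw [← list_sum_range, ht, ksum_eq]
  congr 1
  refine List.ext_getElem (by simp [hD.rvec_length hr]) fun i h1 h2 => ?_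
  simp [coef, kget_eq, List.getElem_map]
  rw [List.getElem?_eq_getElem h1]; rfl

theorem ht_neg {r : ℕ} (hr : r < D.nroots) : ht D (D.neg r) = -ht D r := by
  rw [hD.ht_eq hr, hD.ht_eq (hD.neg_lt hr), ← Finset.sum_neg_distrib]
  exact Finset.sum_congr rfl fun j hj => hD.coef_neg hr (Finset.mem_range.1 hj)

theorem cartan_neg {r j : ℕ} (hr : r < D.nroots) (hj : j < D.rank) :
    D.cartan j (D.neg r) = -D.cartan j r := by
  rw [hD.cartan_eq hr hj, hD.cartan_eq (hD.neg_lt hr) hj, ← Finset.sum_neg_distrib]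
  refine Finset.sum_congr rfl fun k hk => ?_
  rw [hD.coef_neg hr (Finset.mem_range.1 hk), neg_mul]

theorem simple_facts {i : ℕ} (hi : i < D.rank) :
    D.simple i < D.nroots ∧ D.cartan i (D.simple i) = 2 ∧
      ∀ j < D.rank, coef D (D.simple i) j = (if j = i then 1 else 0) ∧
        (D.coroot.getD (D.simple i) #[]).getD j 0 = (if j = i then 1 else 0) := by
  have h := hD.basic
  simp only [chkBasic, Bool.and_eq_true, kallUpTo_iff, forceN_eq, forceZ_eq, std_cart, Nat.blt_eq,
    zEq_iff] at h
  obtain ⟨⟨h1, h2⟩, h3⟩ := h.2 i hi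
  refine ⟨h1, h2, fun j hj => ?_⟩
  obtain ⟨h4, h5⟩ := h3 j hj
  simp only [std, kget_eq] at h4 h5
  by_cases hji : j = i
  · subst hji
    rw [show Nat.beq j j = true by simp, cond_true] at h4 h5
    rw [if_pos rfl]
    exact ⟨h4, by simpa [List.getD_eq_getElem?_getD] using h5⟩
  · rw [nat_beq_false hji, cond_false] at h4 h5
    rw [if_neg hji]
    exact ⟨h4, by simpa [List.getD_eq_getElem?_getD] using h5⟩

theorem simple_lt {i : ℕ} (hi : i < D.rank) : D.simple i < D.nroots := (hD.simple_facts hi).1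

theorem cartan_self {i : ℕ} (hi : i < D.rank) : D.cartan i (D.simple i) = 2 :=
  (hD.simple_facts hi).2.1

theorem coef_simple {i j : ℕ} (hi : i < D.rank) (hj : j < D.rank) :
    coef D (D.simple i) j = if j = i then 1 else 0 := ((hD.simple_facts hi).2.2 j hj).1

theorem coroot_simple {i j : ℕ} (hi : i < D.rank) (hj : j < D.rank) :
    (D.coroot.getD (D.simple i) #[]).getD j 0 = if j = i then 1 else 0 :=
  ((hD.simple_facts hi).2.2 j hj).2

theorem ht_simple {i : ℕ} (hi : i < D.rank) : ht D (D.simple i) = 1 := by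
  rw [hD.ht_eq (hD.simple_lt hi), Finset.sum_eq_single i]
  · rw [hD.coef_simple hi hi, if_pos rfl]
  · intro j hj hne; rw [hD.coef_simple hi (Finset.mem_range.1 hj), if_neg hne]
  · intro h; exact absurd (Finset.mem_range.2 hi) h

theorem simple_inj {i j : ℕ} (hi : i < D.rank) (hj : j < D.rank)
    (h : D.simple i = D.simple j) : i = j := by
  have := hD.coef_simple hi hj
  rw [h, hD.coef_simple hj hj, if_pos rfl] at this
  by_contra hne
  rw [if_neg fun e => hne e.symm] at this
  exact one_ne_zero this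

theorem neg_inj {r s : ℕ} (hr : r < D.nroots) (hs : s < D.nroots) (h : D.neg r = D.neg s) :
    r = s := by rw [← hD.neg_neg hr, h, hD.neg_neg hs]

/-- the entries of a chain are roots, at the expected places -/
theorem chain_facts {r v : ℕ} (hr : r < D.nroots) (hv : v < D.nroots)
    (hne : D.chainEntry r v ≠ []) :
    v ≠ r ∧ v ≠ D.neg r ∧ (D.chainEntry r v).length ≤ 3 ∧
      ∀ (k : ℕ) (e : ℕ × ℤ), (D.chainEntry r v)[k]? = some e → e.1 < D.nroots ∧
        ∀ j < D.rank, coef D e.1 j = ((k : ℤ) + 1) * coef D r j + coef D v j := by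
  have h := hD.weight
  simp only [chkWeight, kallUpTo_iff] at h
  have h := h r hr v hv
  rw [forceS_eq] at h
  simp only [std_look, std_negf, Bool.or_eq_true, List.isEmpty_iff, hne, false_or,
    Bool.and_eq_true, kallUpTo_iff, forceN_eq, Nat.blt_eq] at h
  obtain ⟨⟨⟨h1, h2⟩, h3⟩, h4⟩ := h
  refine ⟨by intro e; simp [e] at h1, by intro e; simp [e] at h2, by simpa using h3, ?_⟩
  intro k e he
  obtain ⟨hk, rfl⟩ := List.getElem?_eq_some_iff.1 he
  obtain ⟨hu, hc⟩ := h4 k hk
  rw [kget_eq, List.getD_eq_getElem _ _ hk] at hu hc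
  rw [kall2_eq_iff _ _ _ (fun a b => zEq_iff), kcomb_eq] at hc
  refine ⟨hu, fun j hj => ?_⟩
  simp only [coef, kget_eq, hc]
  have hj1 : j < (rvec D r).length := by rw [hD.rvec_length hr]; exact hj
  have hj2 : j < (rvec D v).length := by rw [hD.rvec_length hv]; exact hj
  rw [List.getD_eq_getElem _ _ (by simp [hD.rvec_length hr, hD.rvec_length hv]; exact hj),
    List.getD_eq_getElem _ _ hj1, List.getD_eq_getElem _ _ hj2, List.getElem_zipWith]

end Good

/-- the coefficient at the fundamental root `j` of the weight of a coordinate -/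
noncomputable def wc (D : ChevalleyDatum) (j : ℕ) : D.Idx → ℤ :=
  Sum.elim (fun _ => 0) (fun r => coef D r.val j)

/-- the height of a coordinate -/
noncomputable def wh (D : ChevalleyDatum) : D.Idx → ℤ := Sum.elim (fun _ => 0) (fun r => ht D r.val)

/-- the Cartan integer of a coordinate -/
noncomputable def wa (D : ChevalleyDatum) (i : ℕ) : D.Idx → ℤ :=
  Sum.elim (fun _ => 0) (fun r => D.cartan i r.val)

theorem kget_kmap_singleton (L : SVec) (k : ℕ) :
    kget (kmap (fun e => [e]) L) k [] = (L[k]?).toList := by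
  rw [kget_eq, kmap_eq, List.getD_eq_getElem?_getD, List.getElem?_map]
  cases L[k]? <;> rfl

/-- the four kinds of columns -/
theorem col_cases (D : ChevalleyDatum) (k r : ℕ) (b : D.Idx) :
    (∃ i : Fin D.rank, b = Sum.inl i ∧
      col D k r (code D b) = if k = 1 then [(r, -D.cartan i r)] else []) ∨
    (∃ v : Fin D.nroots, b = Sum.inr v ∧
      col D k r (code D b) =
        if v.val = r then [] else if v.val = D.neg r then
          (if k = 1 then (List.range D.rank).map
              fun i => (D.nroots + i, (D.coroot.getD r #[]).getD i 0)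
            else if k = 2 then [(r, -1)] else [])
        else if k = 0 then [] else ((D.chainEntry r v.val)[k - 1]?).toList) := by
  rcases b with i | v
  · refine Or.inl ⟨i, rfl, ?_⟩
    have hi := i.isLt
    simp only [col, colW, code_inl, nat_blt_false (show ¬ D.nroots + i.val < D.nroots by omega),
      cond_false, show Nat.blt (D.nroots + i.val) (D.nroots + D.rank) = true by simp,
      Bool.and_true, std_cart, Nat.add_sub_cancel_left]
    by_cases hk : k = 1
    · simp [hk]
    · simp [nat_beq_false hk, hk]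
  · refine Or.inr ⟨v, rfl, ?_⟩
    simp only [col, colW, code_inr, show Nat.blt v.val D.nroots = true by simp, cond_true,
      std_negf, std_look, kget_kmap_singleton, ktab_eq]
    by_cases h1 : v.val = r
    · simp [h1]
    by_cases h2 : v.val = D.neg r
    · simp only [nat_beq_false h1, cond_false, if_neg h1, if_pos h2,
        show Nat.beq v.val (D.neg r) = true by simp [h2], cond_true, std, kget_eq]
      by_cases hk : k = 1
      · simp [hk, List.getD_eq_getElem?_getD]
      by_cases hk2 : k = 2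
      · subst hk2; simp [nat_beq_false (show (2 : ℕ) ≠ 1 by omega)]
      · simp [nat_beq_false hk, nat_beq_false hk2, hk, hk2]
    · simp only [nat_beq_false h1, nat_beq_false h2, cond_false, if_neg h1, if_neg h2]
      by_cases hk : k = 0
      · simp [hk]
      · simp [nat_beq_false hk, hk]

namespace Good

variable (hD : Good D)

include hD

/-- the entries of `M k r` move the coordinates by `k` times the root `r` -/
theorem M_homog {k r : ℕ} (hr : r < D.nroots) (hk : 1 ≤ k) {a b : D.Idx}
    (h : M D k r a b ≠ 0) {j : ℕ} (hj : j < D.rank) :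
    wc D j a = wc D j b + k * coef D r j := by
  obtain ⟨e, he, hea⟩ := exists_mem_of_vec_ne_zero D (R := ℤ) h
  have hroot : ∀ {u : ℕ}, e.1 = u → u < D.nroots → wc D j a = coef D u j := by
    intro u hu hlt
    have hc : code D a = code D (Sum.inr ⟨u, hlt⟩) := by rw [← hea, hu]; rfl
    rw [code_injective D hc]
    rfl
  rcases col_cases D k r b with ⟨i, rfl, hc⟩ | ⟨v, rfl, hc⟩ <;> rw [hc] at he
  · split_ifs at he with h1
    · rw [List.mem_singleton] at he
      rw [hroot (by rw [he]) hr, h1]
      simp [wc]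
    · simp at he
  · split_ifs at he with h1 h2 h3 h4 h5
    · simp at he
    · obtain ⟨i, hi, rfl⟩ := List.mem_map.1 he
      rw [List.mem_range] at hi
      have hc : code D a = code D (Sum.inl ⟨i, hi⟩) := by rw [← hea]; rfl
      rw [code_injective D hc]
      simp [wc, h2, h3, hD.coef_neg hr hj]
    · rw [List.mem_singleton] at he
      rw [hroot (by rw [he]) hr]
      simp [wc, h2, h4, hD.coef_neg hr hj]
      ring
    · simp at he
    · simp at he
    · rw [Option.mem_toList] at he
      have hne : D.chainEntry r v.val ≠ [] := by intro e'; simp [e'] at he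
      obtain ⟨-, -, -, hch⟩ := hD.chain_facts hr v.isLt hne
      obtain ⟨hlt, hcoef⟩ := hch _ _ he
      rw [hroot rfl hlt, hcoef j hj]
      simp [wc, show ((k - 1 : ℕ) : ℤ) = (k : ℤ) - 1 by omega]
      ring

theorem M_homog_ht {k r : ℕ} (hr : r < D.nroots) (hk : 1 ≤ k) {a b : D.Idx}
    (h : M D k r a b ≠ 0) : wh D a = wh D b + k * ht D r := by
  have e : ∀ c : D.Idx, wh D c = ∑ j ∈ Finset.range D.rank, wc D j c := by
    rintro (i | s)
    · simp [wh, wc]
    · exact hD.ht_eq s.isLt
  rw [e, e, hD.ht_eq hr, Finset.mul_sum, ← Finset.sum_add_distrib]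
  exact Finset.sum_congr rfl fun j hj => hD.M_homog hr hk h (Finset.mem_range.1 hj)

theorem M_homog_cartan {k r i : ℕ} (hr : r < D.nroots) (hk : 1 ≤ k) (hi : i < D.rank) {a b : D.Idx}
    (h : M D k r a b ≠ 0) : wa D i a = wa D i b + k * D.cartan i r := by
  have e : ∀ c : D.Idx, wa D i c =
      ∑ j ∈ Finset.range D.rank, wc D j c * D.cartan i (D.simple j) := by
    rintro (m | s)
    · simp [wa, wc]
    · exact hD.cartan_eq s.isLt hi
  rw [e, e, hD.cartan_eq hr hi, Finset.mul_sum, ← Finset.sum_add_distrib]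
  refine Finset.sum_congr rfl fun j hj => ?_
  rw [hD.M_homog hr hk h (Finset.mem_range.1 hj)]
  ring

end Good

end Cfsg.Agent.ChevCore
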