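/-
The generator relations and decompositions of the roots, as matrix identities over `ℤ`.
-/
import Cfsg.Agent.Lib.ChevCore.Facts

set_option autoImplicit false

namespace Cfsg.Agent.ChevCore

open Cfsg.Lie
open Matrix

variable (D : ChevalleyDatum)

/-- `ad e_r` -/
noncomputable def X (r : ℕ) : Matrix D.Idx D.Idx ℤ := M D 1 r

/-- `ad h_{p_{i+1}}` -/
noncomputable def Hd (i : ℕ) : Matrix D.Idx D.Idx ℤ := Matrix.diagonal (wa D i)

/-- `ad` of a basis vector -/
noncomputable def adb : D.Idx → Matrix D.Idx D.Idx ℤ :=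
  Sum.elim (fun i => Hd D i.val) (fun r => X D r.val)

/-- `ad` -/
noncomputable def adL : (D.Idx → ℤ) →ₗ[ℤ] Matrix D.Idx D.Idx ℤ where
  toFun v := ∑ c, v c • adb D c
  map_add' v w := by simp [add_smul, Finset.sum_add_distrib]
  map_smul' z v := by
    simp only [Pi.smul_apply, smul_eq_mul, RingHom.id_apply, Finset.smul_sum, smul_smul]

theorem adL_single (c : D.Idx) : adL D (Pi.single c 1) = adb D c := by
  show ∑ d, (Pi.single c (1 : ℤ) : D.Idx → ℤ) d • adb D d = _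
  rw [Finset.sum_eq_single c]
  · simp
  · intro d _ hd; simp [hd]
  · simp

/-- the root vector -/
def er (r : ℕ) : D.Idx → ℤ := vec D ℤ [(r, 1)]

/-- the fundamental coroot vector -/
def eh (i : ℕ) : D.Idx → ℤ := vec D ℤ [(D.nroots + i, 1)]

theorem er_eq {r : ℕ} (hr : r < D.nroots) : er D r = Pi.single (Sum.inr ⟨r, hr⟩) 1 := by
  rw [er, vec_single_root D hr]; simp

theorem eh_eq {i : ℕ} (hi : i < D.rank) : eh D i = Pi.single (Sum.inl ⟨i, hi⟩) 1 := by
  rw [eh, vec_single_coroot D hi]; simp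

theorem adL_er {r : ℕ} (hr : r < D.nroots) : adL D (er D r) = X D r := by
  rw [er_eq D hr, adL_single]; rfl

theorem adL_eh {i : ℕ} (hi : i < D.rank) : adL D (eh D i) = Hd D i := by
  rw [eh_eq D hi, adL_single]; rfl

theorem vec_single_zsmul (v : ℕ) (z : ℤ) : vec D ℤ [(v, z)] = z • vec D ℤ [(v, 1)] := by
  funext a
  rw [Pi.smul_apply, vec_cons, vec_cons, vec_nil]
  simp only [add_zero, Int.cast_id]
  split_ifs <;> simp

theorem X_single (r : ℕ) (b : D.Idx) :
    X D r *ᵥ Pi.single b 1 = vec D ℤ (col D 1 r (code D b)) := by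
  rw [X, ← Mc_int, Mc_single]

theorem X_er (r : ℕ) {v : ℕ} (hv : v < D.nroots) : X D r *ᵥ er D v = vec D ℤ (col D 1 r v) := by
  rw [er_eq D hv, X_single]; rfl

theorem Hd_single (i : ℕ) (b : D.Idx) :
    Hd D i *ᵥ Pi.single b 1 = vec D ℤ (colH D (std D) i (code D b)) := by
  rw [Hd]
  rcases b with m | s
  · rw [colH, code_inl, nat_blt_false (by omega), cond_false, vec_nil]
    funext a
    simp [Matrix.diagonal_apply, wa]
  · rw [colH, code_inr, show Nat.blt s.val D.nroots = true by simp, cond_true,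
      vec_single_root D s.isLt]
    funext a
    by_cases h : a = Sum.inr s
    · subst h; simp [wa]
    · simp [h, Matrix.diagonal_apply]

theorem vec_commCol (a b : ℕ) (c : D.Idx) :
    vec D ℤ (commCol D (std D) a b (code D c)) =
      (X D a * X D b - X D b * X D a) *ᵥ Pi.single c 1 := by
  have e : ∀ k, colW D (std D) 1 k = col D 1 k := fun _ => rfl
  rw [commCol, vec_kapp, vec_scaleS, e, e, vec_applyC_col, vec_applyC_col, Mc_int, Mc_int,
    ← X_single, ← X_single, Matrix.sub_mulVec, ← Matrix.mulVec_mulVec, ← Matrix.mulVec_mulVec]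
  simp [X, sub_eq_add_neg]

variable {D}

theorem isGen_iff {r : ℕ} : isGen D (std D) r = true ↔
    ∃ i < D.rank, r = D.simple i ∨ r = D.neg (D.simple i) := by
  simp only [isGen, kanyUpTo_iff, forceN_eq, std_negf, Bool.or_eq_true]
  constructor
  · rintro ⟨i, hi, h | h⟩
    · exact ⟨i, hi, Or.inl (Nat.eq_of_beq_eq_true h)⟩
    · exact ⟨i, hi, Or.inr (Nat.eq_of_beq_eq_true h)⟩
  · rintro ⟨i, hi, h | h⟩
    · exact ⟨i, hi, Or.inl (by simp [h])⟩
    · exact ⟨i, hi, Or.inr (by simp [h])⟩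

theorem stepK_spec {g r : ℕ} {k : ℕ → ℤ → Bool} (h : stepK D (std D) g r k = true) :
    ∃ (a : ℕ) (N : ℤ), a < D.nroots ∧ N ≠ 0 ∧ ht D r = ht D g + ht D a ∧
      X D g *ᵥ er D a = N • er D r ∧ k a N = true := by
  unfold stepK at h
  simp only [std_look, std_negf] at h
  cases hl : D.chainEntry (D.neg g) r with
  | nil => simp [hl] at h
  | cons e rest =>
    rw [hl] at h
    simp only [forceN_eq, Bool.and_eq_true, Nat.blt_eq] at h
    obtain ⟨ha, h⟩ := h
    cases hc : colW D (std D) 1 g e.1 with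
    | nil => simp [hc] at h
    | cons f rest2 =>
      cases rest2 with
      | cons f2 r2 => simp [hc] at h
      | nil =>
        simp only [hc, Bool.and_eq_true, zEq_iff, Bool.not_eq_true'] at h
        obtain ⟨⟨⟨h1, h2⟩, h3⟩, h4⟩ := h
        have hf : f = (r, f.2) := Prod.ext (Nat.eq_of_beq_eq_true h1) rfl
        refine ⟨e.1, f.2, ha, fun hz => by simp [hz, zIsZero] at h2, h3, ?_, h4⟩
        rw [X_er D g ha, col, hc, hf, er]
        exact vec_single_zsmul D r f.2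

namespace Good

variable (hD : Good D)

include hD

theorem gen_rel {i j : ℕ} (hi : i < D.rank) (hj : j < D.rank) :
    X D (D.simple i) * X D (D.neg (D.simple j)) - X D (D.neg (D.simple j)) * X D (D.simple i) =
        (if i = j then (1 : ℤ) else 0) • Hd D i ∧
      X D (D.simple i) *ᵥ er D (D.neg (D.simple j)) = (if i = j then (1 : ℤ) else 0) • eh D i ∧
      X D (D.neg (D.simple j)) *ᵥ er D (D.simple i) = (if i = j then (-1 : ℤ) else 0) • eh D i := by
  have hd : (bif Nat.beq i j then (1 : ℤ) else 0) = if i = j then 1 else 0 := by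
    by_cases e : i = j
    · simp [e]
    · simp [nat_beq_false e, e]
  have h := hD.gen
  simp only [chkGen, kallUpTo_iff] at h
  have h := h i hi j hj
  simp only [forceN_eq, forceZ_eq, std_negf, Bool.and_eq_true, kallUpTo_iff, hd] at h
  obtain ⟨⟨h1, h2⟩, h3⟩ := h
  refine ⟨matrix_ext_col D fun b => ?_, ?_, ?_⟩
  · have := vec_eq_of_eqS D (R := ℤ) (h3 _ (code_lt D b))
    rw [vec_scaleS, ← Hd_single, vec_commCol] at this
    rw [this, Matrix.smul_mulVec]
    simp
  · rw [X_er D _ (hD.neg_lt (hD.simple_lt hj)), eh, ← vec_single_zsmul]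
    exact vec_eq_of_eqS D h1
  · rw [X_er D _ (hD.simple_lt hi), eh, ← vec_single_zsmul]
    refine (vec_eq_of_eqS D h2).trans ?_
    split_ifs <;> simp

theorem dec_step {r : ℕ} (hr : r < D.nroots) :
    isGen D (std D) r = true ∨ ∃ i < D.rank, ∃ g, (0 < ht D r ∧ g = D.simple i ∨
        ht D r < 0 ∧ g = D.neg (D.simple i)) ∧
      ∃ (a : ℕ) (N : ℤ), a < D.nroots ∧ N ≠ 0 ∧ ht D r = ht D g + ht D a ∧
        X D g *ᵥ er D a = N • er D r ∧
        (ht D r).natAbs = (ht D a).natAbs + 1 ∧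
        X D g * X D a - X D a * X D g = N • X D r := by
  obtain ⟨lo, hi, hlo, hhi, h⟩ := hD.dec r hr
  simp only [chkDec, kallUpTo_iff, forceN_eq] at h
  have h := h (r - lo) (by omega)
  rw [show lo + (r - lo) = r by omega, Bool.or_eq_true, kanyUpTo_iff] at h
  rcases h with h | ⟨i, hi, h⟩
  · exact Or.inl h
  refine Or.inr ⟨i, hi, ?_⟩
  have key : ∀ g, decOK D (std D) r g = true → ∃ (a : ℕ) (N : ℤ), a < D.nroots ∧ N ≠ 0 ∧
      ht D r = ht D g + ht D a ∧ X D g *ᵥ er D a = N • er D r ∧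
      (ht D r).natAbs = (ht D a).natAbs + 1 ∧
      X D g * X D a - X D a * X D g = N • X D r := by
    intro g hg
    obtain ⟨a, N, ha, hN, hht, hX, hk⟩ := stepK_spec hg
    simp only [Bool.and_eq_true, kallUpTo_iff] at hk
    refine ⟨a, N, ha, hN, hht, hX, Nat.eq_of_beq_eq_true hk.1, matrix_ext_col D fun b => ?_⟩
    have := vec_eq_of_eqS D (R := ℤ) (hk.2 _ (code_lt D b))
    rw [vec_scaleS, vec_commCol] at this
    rw [this, Matrix.smul_mulVec, X_single]
    simp [col]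
  by_cases hp : 0 < ht D r
  · rw [zPos_iff.2 hp, cond_true] at h
    exact ⟨_, Or.inl ⟨hp, rfl⟩, key _ h⟩
  · rw [show zPos (ht D r) = false from Bool.eq_false_iff.2 fun e => hp (zPos_iff.1 e),
      cond_false] at h
    exact ⟨_, Or.inr ⟨by have := hD.ht_ne_zero hr; omega, rfl⟩, key _ h⟩

theorem gen_height {r : ℕ} (h : isGen D (std D) r = true) :
    ∃ i < D.rank, (r = D.simple i ∧ ht D r = 1) ∨ (r = D.neg (D.simple i) ∧ ht D r = -1) := by
  obtain ⟨i, hi, rfl | rfl⟩ := isGen_iff.1 h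
  · exact ⟨i, hi, Or.inl ⟨rfl, hD.ht_simple hi⟩⟩
  · exact ⟨i, hi, Or.inr ⟨rfl, by rw [hD.ht_neg (hD.simple_lt hi), hD.ht_simple hi]⟩⟩

theorem top_step {b : ℕ} (hb : b < D.nroots) :
    -maxHt D ≤ ht D b ∧ ht D b ≤ maxHt D ∧
      (ht D b = maxHt D ∨ (ht D b ≤ 0 ∧ isGen D (std D) b = true) ∨
        ∃ j < D.rank, ∃ (a : ℕ) (N : ℤ), a < D.nroots ∧ N ≠ 0 ∧
          ht D b = ht D (D.neg (D.simple j)) + ht D a ∧
          X D (D.neg (D.simple j)) *ᵥ er D a = N • er D b) ∧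
      (ht D b = -maxHt D ∨ (0 < ht D b ∧ isGen D (std D) b = true) ∨
        ∃ j < D.rank, ∃ (a : ℕ) (N : ℤ), a < D.nroots ∧ N ≠ 0 ∧ ht D b = ht D (D.simple j) + ht D a ∧
          X D (D.simple j) *ᵥ er D a = N • er D b) := by
  have h := hD.top
  simp only [chkTop, kallUpTo_iff] at h
  have h := h b hb
  simp only [forceZ_eq, forceN_eq, Bool.and_eq_true, Bool.or_eq_true, zNonneg_iff, zEq_iff,
    kanyUpTo_iff, Bool.not_eq_true', ← Bool.not_eq_true, zPos_iff, std_negf] at h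
  obtain ⟨⟨⟨h1, h2⟩, h3⟩, h4⟩ := h
  refine ⟨by omega, by omega, ?_, ?_⟩
  · rcases h3 with (h | ⟨h, h'⟩) | ⟨j, hj, h⟩
    · exact Or.inl h
    · exact Or.inr (Or.inl ⟨by omega, h'⟩)
    · obtain ⟨a, N, h5, h6, h7, h8, -⟩ := stepK_spec h
      exact Or.inr (Or.inr ⟨j, hj, a, N, h5, h6, h7, h8⟩)
  · rcases h4 with (h | ⟨h, h'⟩) | ⟨j, hj, h⟩
    · exact Or.inl h
    · exact Or.inr (Or.inl ⟨h, h'⟩)
    · obtain ⟨a, N, h5, h6, h7, h8, -⟩ := stepK_spec h
      exact Or.inr (Or.inr ⟨j, hj, a, N, h5, h6, h7, h8⟩)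

end Good

end Cfsg.Agent.ChevCore
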