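/-
`ad [a, b] = [ad a, ad b]` for the integral Lie algebras of the tables.

Only the generator relations and one defining commutator per root are read off from the tables; the
remaining cases follow because a matrix that commutes with all lowering generators and raises
heights vanishes, the module being generated from its top.
-/
import Cfsg.Agent.Lib.ChevCore.Steps

set_option autoImplicit false

namespace Cfsg.Agent.ChevCore

open Cfsg.Lie
open Matrix

variable (D : ChevalleyDatum)

/-- `ad (X_g v) = [X_g, ad v]` -/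
def Q (g : ℕ) (v : D.Idx → ℤ) : Prop :=
  X D g * adL D v - adL D v * X D g = adL D (X D g *ᵥ v)

/-- all non-zero entries raise the height by `m` -/
def Homog (m : ℤ) (A : Matrix D.Idx D.Idx ℤ) : Prop :=
  ∀ a b, A a b ≠ 0 → wh D a = wh D b + m

variable {D}

theorem Homog.mul {m n : ℤ} {A B : Matrix D.Idx D.Idx ℤ} (hA : Homog D m A) (hB : Homog D n B) :
    Homog D (m + n) (A * B) := by
  intro a b h
  rw [Matrix.mul_apply] at h
  obtain ⟨c, -, hc⟩ := Finset.exists_ne_zero_of_sum_ne_zero h
  rw [hA a c (left_ne_zero_of_mul hc), hB c b (right_ne_zero_of_mul hc)]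
  ring

theorem Homog.sub {m : ℤ} {A B : Matrix D.Idx D.Idx ℤ} (hA : Homog D m A) (hB : Homog D m B) :
    Homog D m (A - B) := by
  intro a b h
  by_cases hz : A a b = 0
  · exact hB a b fun hb => h (by simp [hz, hb])
  · exact hA a b hz

theorem Homog.supp {m : ℤ} {A : Matrix D.Idx D.Idx ℤ} (hA : Homog D m A) {b : D.Idx} {c : D.Idx}
    (h : (A *ᵥ Pi.single b 1) c ≠ 0) : wh D c = wh D b + m :=
  hA c b (by simpa using h)

theorem Q_single (g : ℕ) (c : D.Idx) :
    Q D g (Pi.single c 1) ↔ X D g * adb D c - adb D c * X D g = adL D (X D g *ᵥ Pi.single c 1) := by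
  rw [Q, adL_single]

/-- `Q` is linear in the vector -/
theorem Q_of_support (g : ℕ) (v : D.Idx → ℤ) (h : ∀ c, v c ≠ 0 → Q D g (Pi.single c 1)) :
    Q D g v := by
  have hv : v = ∑ c, v c • Pi.single c (1 : ℤ) := by
    funext d
    simp [Finset.sum_apply, Pi.single_apply]
  rw [Q, hv]
  simp only [map_sum, map_smul, Matrix.mulVec_sum, Matrix.mulVec_smul, Finset.mul_sum,
    Finset.sum_mul, Matrix.mul_smul, Matrix.smul_mul, ← Finset.sum_sub_distrib, ← smul_sub]
  refine Finset.sum_congr rfl fun c _ => ?_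
  by_cases hc : v c = 0
  · simp [hc]
  · rw [h c hc]

theorem adb_single_root {r : ℕ} (hr : r < D.nroots) :
    adb D (Sum.inr ⟨r, hr⟩) = X D r := rfl

/-- raising and lowering generators for one of the two orientations -/
structure Side (D : ChevalleyDatum) where
  /-- raising generators -/
  E : ℕ → ℕ
  /-- lowering generators -/
  F : ℕ → ℕ
  /-- the orientation -/
  s : ℤ
  hs : s = 1 ∨ s = -1
  E_lt : ∀ i < D.rank, E i < D.nroots
  F_lt : ∀ i < D.rank, F i < D.nroots
  ht_E : ∀ i < D.rank, ht D (E i) = s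
  ht_F : ∀ i < D.rank, ht D (F i) = -s
  rel : ∀ i < D.rank, ∀ j < D.rank,
    X D (F j) * X D (E i) - X D (E i) * X D (F j) = (if i = j then -s else 0) • Hd D i
  vecFE : ∀ i < D.rank, ∀ j < D.rank,
    X D (F j) *ᵥ er D (E i) = (if i = j then -s else 0) • eh D i
  vecEF : ∀ i < D.rank, ∀ j < D.rank,
    X D (E i) *ᵥ er D (F j) = (if i = j then s else 0) • eh D i
  cartan_F : ∀ i < D.rank, D.cartan i (F i) ≠ 0
  one : ∀ r < D.nroots, s * ht D r = 1 → ∃ i < D.rank, r = E i
  dec : ∀ r < D.nroots, 2 ≤ s * ht D r → ∃ i < D.rank, ∃ (a : ℕ) (N : ℤ), a < D.nroots ∧ N ≠ 0 ∧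
    s * ht D a + 1 = s * ht D r ∧ X D (E i) *ᵥ er D a = N • er D r ∧
    X D (E i) * X D a - X D a * X D (E i) = N • X D r
  bound : ∀ r < D.nroots, -maxHt D ≤ s * ht D r ∧ s * ht D r ≤ maxHt D
  top : ∀ b < D.nroots, s * ht D b = maxHt D ∨
    (∃ i < D.rank, b = F i) ∨
    ∃ j < D.rank, ∃ (a : ℕ) (N : ℤ), a < D.nroots ∧ N ≠ 0 ∧ s * ht D a = s * ht D b + 1 ∧
      X D (F j) *ᵥ er D a = N • er D b

namespace Good

variable (hD : Good D)

include hD

theorem M1_homog {r : ℕ} (hr : r < D.nroots) : Homog D (ht D r) (X D r) := by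
  intro a b h
  simpa using hD.M_homog_ht hr (le_refl 1) h

theorem adb_homog (c : D.Idx) : Homog D (wh D c) (adb D c) := by
  rcases c with i | r
  · intro a b h
    obtain rfl : a = b := by
      by_contra hab
      exact h (Matrix.diagonal_apply_ne _ hab)
    simp [wh]
  · exact hD.M1_homog r.isLt

theorem adL_homog {m : ℤ} {v : D.Idx → ℤ} (hv : ∀ c, v c ≠ 0 → wh D c = m) :
    Homog D m (adL D v) := by
  intro a b h
  rw [show adL D v = ∑ c, v c • adb D c from rfl, Matrix.sum_apply] at h
  obtain ⟨c, -, hc⟩ := Finset.exists_ne_zero_of_sum_ne_zero h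
  rw [Matrix.smul_apply, smul_eq_mul] at hc
  have := hD.adb_homog c a b (right_ne_zero_of_mul hc)
  rwa [hv c (left_ne_zero_of_mul hc)] at this

/-- commutation of `ad h` with a root operator -/
theorem Hd_comm {i r : ℕ} (hi : i < D.rank) (hr : r < D.nroots) :
    Hd D i * X D r - X D r * Hd D i = D.cartan i r • X D r := by
  ext a b
  rw [Matrix.sub_apply, Hd, Matrix.diagonal_mul, Matrix.mul_diagonal, Matrix.smul_apply,
    smul_eq_mul]
  by_cases h : X D r a b = 0
  · simp [h]
  · rw [hD.M_homog_cartan hr (le_refl 1) hi h]; ring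

theorem Hd_er {i r : ℕ} (hr : r < D.nroots) : Hd D i *ᵥ er D r = D.cartan i r • er D r := by
  rw [er_eq D hr, Hd_single, colH, code_inr, show Nat.blt r D.nroots = true by simp [hr], cond_true,
    std_cart, vec_single_zsmul, ← er, er_eq D hr]

theorem X_eh {g i : ℕ} (hi : i < D.rank) :
    X D g *ᵥ eh D i = (-D.cartan i g) • er D g := by
  rw [eh_eq D hi, X_single]
  rcases col_cases D 1 g (Sum.inl ⟨i, hi⟩) with ⟨j, hj, hc⟩ | ⟨v, hv, -⟩
  · obtain rfl : (⟨i, hi⟩ : Fin D.rank) = j := Sum.inl.inj hj
    rw [hc, if_pos rfl, vec_single_zsmul]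
    rfl
  · cases hv

theorem Q_eh {g i : ℕ} (hg : g < D.nroots) (hi : i < D.rank) : Q D g (eh D i) := by
  rw [Q, adL_eh D hi, hD.X_eh hi, map_smul, adL_er D hg, neg_smul, ← hD.Hd_comm hi hg]
  abel

theorem Q_h {g : ℕ} (hg : g < D.nroots) (i : Fin D.rank) : Q D g (Pi.single (Sum.inl i) 1) := by
  have := hD.Q_eh hg i.isLt
  rwa [eh_eq D i.isLt] at this

theorem maxHt_nonneg : 0 ≤ maxHt D := by
  have h := hD.top_step (hD.simple_lt hD.rank_pos)
  omega

end Good

namespace Side

variable (S : Side D) (hD : Good D)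

include hD

theorem s_sq : S.s * S.s = 1 := by rcases S.hs with h | h <;> simp [h]

/-- a raising matrix that commutes with all lowering generators is zero -/
theorem raise_zero {m : ℤ} (hm : 1 ≤ S.s * m) {A : Matrix D.Idx D.Idx ℤ} (hA : Homog D m A)
    (hc : ∀ j < D.rank, X D (S.F j) * A = A * X D (S.F j)) : A = 0 := by
  have key : ∀ (n : ℕ) (b : D.Idx), maxHt D - S.s * wh D b ≤ n → A *ᵥ Pi.single b 1 = 0 := by
    intro n
    induction n with
    | zero =>
      intro b hb
      funext a
      by_contra ha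
      have h1 := hA.supp ha
      have h2 : S.s * wh D a ≤ maxHt D := by
        rcases a with i | r
        · simpa [wh] using hD.maxHt_nonneg
        · exact (S.bound r r.isLt).2
      rw [h1, mul_add] at h2
      omega
    | succ n ih =>
      intro b hb
      have pull : ∀ j < D.rank, ∀ a, a < D.nroots → maxHt D - S.s * ht D a ≤ n →
          ∀ (N : ℤ) (v : D.Idx → ℤ), N ≠ 0 → X D (S.F j) *ᵥ er D a = N • v → A *ᵥ v = 0 := by
        intro j hj a ha han N v hN hX
        have h0 : A *ᵥ er D a = 0 := by rw [er_eq D ha]; exact ih _ han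
        have h1 : A *ᵥ (X D (S.F j) *ᵥ er D a) = 0 := by
          rw [Matrix.mulVec_mulVec, ← hc j hj, ← Matrix.mulVec_mulVec, h0, Matrix.mulVec_zero]
        rw [hX, Matrix.mulVec_smul] at h1
        funext d
        have := congrFun h1 d
        simpa [hN] using this
      rcases b with i | r
      · refine (eh_eq D i.isLt) ▸ pull i i.isLt (S.E i) (S.E_lt i i.isLt) ?_ (-S.s) _ ?_ ?_
        · have : maxHt D - S.s * wh D (Sum.inl i) ≤ (n + 1 : ℕ) := hb
          rw [S.ht_E i i.isLt, S.s_sq hD]
          simp [wh] at this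
          omega
        · rcases S.hs with h | h <;> simp [h]
        · simpa using S.vecFE i i.isLt i i.isLt
      · have hb' : maxHt D - S.s * ht D r ≤ (n + 1 : ℕ) := hb
        rcases S.top r r.isLt with htop | ⟨i, hi, hri⟩ | ⟨j, hj, a, N, ha, hN, hh, hX⟩
        · funext a
          by_contra ha
          have h1 := hA.supp ha
          have h2 : S.s * wh D a ≤ maxHt D := by
            rcases a with i' | r'
            · simpa [wh] using hD.maxHt_nonneg
            · exact (S.bound r' r'.isLt).2
          rw [h1, mul_add, show wh D (Sum.inr r) = ht D r from rfl, htop] at h2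
          omega
        · have hF : S.s * ht D r = -1 := by
            rw [hri, S.ht_F i hi, mul_neg, S.s_sq hD]
          have h0 : A *ᵥ eh D i = 0 := by
            rw [eh_eq D hi]
            exact ih _ (by simp [wh]; omega)
          have h1 : A *ᵥ (X D (S.F i) *ᵥ eh D i) = 0 := by
            rw [Matrix.mulVec_mulVec, ← hc i hi, ← Matrix.mulVec_mulVec, h0, Matrix.mulVec_zero]
          have e : D.cartan i (S.F i) ≠ 0 := S.cartan_F i hi
          rw [hD.X_eh hi, Matrix.mulVec_smul, er_eq D (S.F_lt i hi)] at h1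
          have : (Sum.inr r : D.Idx) = Sum.inr ⟨S.F i, S.F_lt i hi⟩ := by
            rw [Sum.inr.injEq]; exact Fin.ext hri
          rw [this]
          funext d
          simpa [e] using congrFun h1 d
        · have hsingle : (Pi.single (Sum.inr r) 1 : D.Idx → ℤ) = er D r.val := (er_eq D r.isLt).symm
          rw [hsingle]
          exact pull j hj a ha (by omega) N _ hN hX
  refine matrix_ext_col D fun b => ?_
  rw [Matrix.zero_mulVec]
  exact key (maxHt D - S.s * wh D b).toNat b (Int.self_le_toNat _)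

end Side

end Cfsg.Agent.ChevCore
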