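/-
`ad [a, b] = [ad a, ad b]`, completed.
-/
import Cfsg.Agent.Lib.ChevCore.Jacobi

set_option autoImplicit false

namespace Cfsg.Agent.ChevCore

open Cfsg.Lie
open Matrix

variable {D : ChevalleyDatum}

namespace Side

variable (S : Side D) (hD : Good D)

include hD

theorem smul_cancel {N : ℤ} {A B : Matrix D.Idx D.Idx ℤ} (hN : N ≠ 0) (h : N • A = N • B) :
    A = B := by
  ext a b
  have := congrFun (congrFun h a) b
  simpa [hN] using this

/-- `Q` for a vector supported between the heights `0` and `m` -/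
theorem Q_supp {g : ℕ} (hg : g < D.nroots) {v : D.Idx → ℤ} {m : ℤ}
    (hroot : ∀ b < D.nroots, 1 ≤ S.s * ht D b → S.s * ht D b ≤ m → Q D g (er D b))
    (hv : ∀ c, v c ≠ 0 → 0 ≤ S.s * wh D c ∧ S.s * wh D c ≤ m) : Q D g v := by
  refine Q_of_support g v fun c hc => ?_
  rcases c with i | r
  · exact hD.Q_h hg i
  · obtain ⟨h0, h1⟩ := hv _ hc
    have hne : S.s * ht D r.val ≠ 0 :=
      mul_ne_zero (by rcases S.hs with h | h <;> simp [h]) (hD.ht_ne_zero r.isLt)
    have h0' : 0 ≤ S.s * ht D r.val := h0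
    have := hroot r r.isLt (by omega) h1
    rwa [er_eq D r.isLt] at this

theorem Q_induction : ∀ m : ℕ,
    (∀ b < D.nroots, 1 ≤ S.s * ht D b → S.s * ht D b ≤ m → ∀ j < D.rank, Q D (S.F j) (er D b)) ∧
    (∀ b < D.nroots, 1 ≤ S.s * ht D b → S.s * ht D b < m → ∀ i < D.rank, Q D (S.E i) (er D b)) := by
  intro m
  induction m with
  | zero =>
    exact ⟨fun b _ h1 h2 => by simp at h2; omega, fun b _ h1 h2 => by simp at h2; omega⟩
  | succ m ih =>
    obtain ⟨ihF, ihE⟩ := ih
    have hsupp : ∀ {g b : ℕ}, g < D.nroots → b < D.nroots → ∀ {c : D.Idx},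
        (X D g *ᵥ er D b) c ≠ 0 → S.s * wh D c = S.s * ht D b + S.s * ht D g := by
      intro g b hg hb c hc
      rw [er_eq D hb] at hc
      rw [(hD.M1_homog hg).supp hc, mul_add]
      rfl
    have stepA : ∀ b < D.nroots, 1 ≤ S.s * ht D b → S.s * ht D b ≤ (m + 1 : ℕ) →
        ∀ j < D.rank, Q D (S.F j) (er D b) := by
      intro b hb h1 h2 j hj
      by_cases hlt : S.s * ht D b ≤ m
      · exact ihF b hb h1 hlt j hj
      by_cases hone : S.s * ht D b = 1
      · obtain ⟨i, hi, rfl⟩ := S.one b hb hone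
        rw [Q, adL_er D hb, S.vecFE i hi j hj, map_smul, adL_eh D hi, S.rel i hi j hj]
      obtain ⟨i, hi, a, N, ha, hN, hha, hXa, hcomm⟩ := S.dec b hb (by omega)
      refine smul_cancel hD hN ?_
      have hq : S.s * ht D (S.E i) = 1 := by rw [S.ht_E i hi, S.s_sq hD]
      have hf : S.s * ht D (S.F j) = -1 := by rw [S.ht_F j hj, mul_neg, S.s_sq hD]
      have hFc : X D (S.F j) * X D a - X D a * X D (S.F j) = adL D (X D (S.F j) *ᵥ er D a) := by
        have := ihF a ha (by omega) (by omega) j hj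
        rwa [Q, adL_er D ha] at this
      have hEFc : Q D (S.E i) (X D (S.F j) *ᵥ er D a) := by
        refine S.Q_supp hD (S.E_lt i hi) (m := (m : ℤ) - 1)
          (fun b' hb' l1 l2 => ihE b' hb' l1 (by omega) i hi) fun c hc => ?_
        have := hsupp (S.F_lt j hj) ha hc
        omega
      have hHc : Hd D i * X D a - X D a * Hd D i = adL D (Hd D i *ᵥ er D a) := by
        rw [hD.Hd_comm hi ha, hD.Hd_er ha, map_smul, adL_er D ha]
      have hrel := S.rel i hi j hj
      have expand : ∀ (f q c : Matrix D.Idx D.Idx ℤ),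
          f * (q * c - c * q) - (q * c - c * q) * f =
            ((f * q - q * f) * c - c * (f * q - q * f)) +
              (q * (f * c - c * f) - (f * c - c * f) * q) := by
        intro f q c; noncomm_ring
      rw [← map_smul, ← Matrix.mulVec_smul, ← hXa, adL_er D hb, smul_sub, ← Matrix.mul_smul,
        ← Matrix.smul_mul, ← hcomm, expand, hrel, hFc, hEFc, Matrix.smul_mul, Matrix.mul_smul,
        ← smul_sub, hHc, ← map_smul, ← map_add]
      congr 1
      rw [← Matrix.smul_mulVec, ← hrel, Matrix.mulVec_mulVec, Matrix.mulVec_mulVec, Matrix.sub_mulVec]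
      abel
    refine ⟨stepA, fun b hb h1 h2 i hi => ?_⟩
    by_cases hlt : S.s * ht D b < m
    · exact ihE b hb h1 hlt i hi
    rw [Q, adL_er D hb, ← sub_eq_zero]
    have hE := hD.M1_homog (S.E_lt i hi)
    have hsE : S.s * ht D (S.E i) = 1 := by rw [S.ht_E i hi, S.s_sq hD]
    refine S.raise_zero hD (m := ht D (S.E i) + ht D b) (by rw [mul_add, hsE]; omega) ?_
      fun j hj => ?_
    · refine ((hE.mul (hD.M1_homog hb)).sub ?_).sub (hD.adL_homog fun c hc => ?_)
      · rw [add_comm]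
        exact (hD.M1_homog hb).mul hE
      · rw [er_eq D hb] at hc
        rw [hE.supp hc]
        show ht D b + _ = _
        ring
    · have hf : S.s * ht D (S.F j) = -1 := by rw [S.ht_F j hj, mul_neg, S.s_sq hD]
      rw [← sub_eq_zero]
      have hFb : X D (S.F j) * X D b - X D b * X D (S.F j) = adL D (X D (S.F j) *ᵥ er D b) := by
        have := stepA b hb h1 (by omega) j hj
        rwa [Q, adL_er D hb] at this
      have hEFb : Q D (S.E i) (X D (S.F j) *ᵥ er D b) := by
        refine S.Q_supp hD (S.E_lt i hi) (m := (m : ℤ) - 1)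
          (fun b' hb' l1 l2 => ihE b' hb' l1 (by omega) i hi) fun c hc => ?_
        have := hsupp (S.F_lt j hj) hb hc
        omega
      have hFEb : Q D (S.F j) (X D (S.E i) *ᵥ er D b) := by
        refine S.Q_supp hD (S.F_lt j hj) (m := (m : ℤ) + 1)
          (fun b' hb' l1 l2 => stepA b' hb' l1 (by push_cast; omega) j hj) fun c hc => ?_
        have := hsupp (S.E_lt i hi) hb hc
        omega
      have hHb : Hd D i * X D b - X D b * Hd D i = adL D (Hd D i *ᵥ er D b) := by
        rw [hD.Hd_comm hi hb, hD.Hd_er hb, map_smul, adL_er D hb]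
      have hrel := S.rel i hi j hj
      have expand : ∀ (f q c w : Matrix D.Idx D.Idx ℤ),
          f * (q * c - c * q - w) - (q * c - c * q - w) * f =
            ((f * q - q * f) * c - c * (f * q - q * f)) +
              (q * (f * c - c * f) - (f * c - c * f) * q) - (f * w - w * f) := by
        intro f q c w; noncomm_ring
      rw [expand, hrel, hFb, hEFb, hFEb, Matrix.smul_mul, Matrix.mul_smul, ← smul_sub, hHb,
        ← map_smul, ← map_add, ← map_sub, ← Matrix.smul_mulVec, ← hrel, Matrix.mulVec_mulVec,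
        Matrix.mulVec_mulVec, Matrix.sub_mulVec]
      simp

theorem Q_raise {i : ℕ} (hi : i < D.rank) {b : ℕ} (hb : b < D.nroots) (h1 : 1 ≤ S.s * ht D b) :
    Q D (S.E i) (er D b) :=
  (S.Q_induction hD ((S.s * ht D b).toNat + 1)).2 b hb h1 (by push_cast; omega) i hi

theorem Q_lower {j : ℕ} (hj : j < D.rank) {b : ℕ} (hb : b < D.nroots) (h1 : 1 ≤ S.s * ht D b) :
    Q D (S.F j) (er D b) :=
  (S.Q_induction hD (S.s * ht D b).toNat).1 b hb h1 (by omega) j hj

end Side

namespace Good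

variable (hD : Good D)

include hD

/-- the orientation in which the positive fundamental roots raise -/
noncomputable def upSide : Side D where
  E i := D.simple i
  F i := D.neg (D.simple i)
  s := 1
  hs := Or.inl rfl
  E_lt _ hi := hD.simple_lt hi
  F_lt _ hi := hD.neg_lt (hD.simple_lt hi)
  ht_E _ hi := hD.ht_simple hi
  ht_F i hi := by rw [hD.ht_neg (hD.simple_lt hi), hD.ht_simple hi]
  rel i hi j hj := by
    have h := (hD.gen_rel hi hj).1
    rw [← neg_sub, h]
    split_ifs <;> simp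
  vecFE i hi j hj := (hD.gen_rel hi hj).2.2
  vecEF i hi j hj := (hD.gen_rel hi hj).2.1
  cartan_F i hi := by rw [hD.cartan_neg (hD.simple_lt hi) hi, hD.cartan_self hi]; decide
  one r hr h := by
    rcases hD.dec_step hr with hg | ⟨i, -, g, -, a, N, ha, -, -, -, h3, -⟩
    · obtain ⟨i, hi, ⟨rfl, -⟩ | ⟨-, h'⟩⟩ := hD.gen_height hg
      · exact ⟨i, hi, rfl⟩
      · omega
    · have := hD.ht_ne_zero ha; omega
  dec r hr h := by
    rcases hD.dec_step hr with hg | ⟨i, hi, g, hg, a, N, ha, hN, hh, hX, h3, hc⟩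
    · obtain ⟨i, hi, ⟨-, h'⟩ | ⟨-, h'⟩⟩ := hD.gen_height hg <;> omega
    · rcases hg with ⟨-, rfl⟩ | ⟨h', -⟩
      · rw [hD.ht_simple hi] at hh
        exact ⟨i, hi, a, N, ha, hN, by omega, hX, hc⟩
      · omega
  bound r hr := by
    obtain ⟨h1, h2, -⟩ := hD.top_step hr
    omega
  top b hb := by
    obtain ⟨-, -, h | ⟨h0, hg⟩ | ⟨j, hj, a, N, ha, hN, hh, hX⟩, -⟩ := hD.top_step hb
    · exact Or.inl (by omega)
    · obtain ⟨i, hi, ⟨-, h'⟩ | ⟨rfl, -⟩⟩ := hD.gen_height hg
      · omega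
      · exact Or.inr (Or.inl ⟨i, hi, rfl⟩)
    · rw [hD.ht_neg (hD.simple_lt hj), hD.ht_simple hj] at hh
      exact Or.inr (Or.inr ⟨j, hj, a, N, ha, hN, by omega, hX⟩)

/-- the orientation in which the negative fundamental roots raise -/
noncomputable def downSide : Side D where
  E i := D.neg (D.simple i)
  F i := D.simple i
  s := -1
  hs := Or.inr rfl
  E_lt _ hi := hD.neg_lt (hD.simple_lt hi)
  F_lt _ hi := hD.simple_lt hi
  ht_E i hi := by rw [hD.ht_neg (hD.simple_lt hi), hD.ht_simple hi]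
  ht_F i hi := by rw [hD.ht_simple hi]; rfl
  rel i hi j hj := by
    rw [(hD.gen_rel hj hi).1]
    by_cases e : i = j
    · subst e; simp
    · simp [e, Ne.symm e]
  vecFE i hi j hj := by
    rw [(hD.gen_rel hj hi).2.1]
    by_cases e : i = j
    · subst e; simp
    · simp [e, Ne.symm e]
  vecEF i hi j hj := by
    rw [(hD.gen_rel hj hi).2.2]
    by_cases e : i = j
    · subst e; simp
    · simp [e, Ne.symm e]
  cartan_F i hi := by rw [hD.cartan_self hi]; decide
  one r hr h := by
    rcases hD.dec_step hr with hg | ⟨i, -, g, -, a, N, ha, -, -, -, h3, -⟩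
    · obtain ⟨i, hi, ⟨-, h'⟩ | ⟨rfl, -⟩⟩ := hD.gen_height hg
      · omega
      · exact ⟨i, hi, rfl⟩
    · have := hD.ht_ne_zero ha; omega
  dec r hr h := by
    rcases hD.dec_step hr with hg | ⟨i, hi, g, hg, a, N, ha, hN, hh, hX, h3, hc⟩
    · obtain ⟨i, hi, ⟨-, h'⟩ | ⟨-, h'⟩⟩ := hD.gen_height hg <;> omega
    · rcases hg with ⟨h', -⟩ | ⟨-, rfl⟩
      · omega
      · rw [hD.ht_neg (hD.simple_lt hi), hD.ht_simple hi] at hh
        exact ⟨i, hi, a, N, ha, hN, by omega, hX, hc⟩
  bound r hr := by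
    obtain ⟨h1, h2, -⟩ := hD.top_step hr
    omega
  top b hb := by
    obtain ⟨-, -, -, h | ⟨h0, hg⟩ | ⟨j, hj, a, N, ha, hN, hh, hX⟩⟩ := hD.top_step hb
    · exact Or.inl (by omega)
    · obtain ⟨i, hi, ⟨rfl, -⟩ | ⟨-, h'⟩⟩ := hD.gen_height hg
      · exact Or.inr (Or.inl ⟨i, hi, rfl⟩)
      · omega
    · rw [hD.ht_simple hj] at hh
      exact Or.inr (Or.inr ⟨j, hj, a, N, ha, hN, by omega, hX⟩)

theorem Q_gen {g : ℕ} (hg : isGen D (std D) g = true) (v : D.Idx → ℤ) : Q D g v := by
  obtain ⟨i, hi, hg'⟩ := hD.gen_height hg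
  have hlt : g < D.nroots := by
    rcases hg' with ⟨rfl, -⟩ | ⟨rfl, -⟩
    exacts [hD.simple_lt hi, hD.neg_lt (hD.simple_lt hi)]
  refine Q_of_support g v fun c _ => ?_
  rcases c with j | b
  · exact hD.Q_h hlt j
  · rw [show (Pi.single (Sum.inr b) 1 : D.Idx → ℤ) = er D b.val from (er_eq D b.isLt).symm]
    have hne := hD.ht_ne_zero b.isLt
    by_cases hp : 0 < ht D b.val
    · have h1 : 1 ≤ (hD.upSide).s * ht D b.val := by show 1 ≤ 1 * _; omega
      rcases hg' with ⟨rfl, -⟩ | ⟨rfl, -⟩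
      · exact (hD.upSide).Q_raise hD hi b.isLt h1
      · exact (hD.upSide).Q_lower hD hi b.isLt h1
    · have h1 : 1 ≤ (hD.downSide).s * ht D b.val := by show 1 ≤ -1 * _; omega
      rcases hg' with ⟨rfl, -⟩ | ⟨rfl, -⟩
      · exact (hD.downSide).Q_lower hD hi b.isLt h1
      · exact (hD.downSide).Q_raise hD hi b.isLt h1

/-- the Jacobi identity in adjoint form -/
theorem jacobi {r : ℕ} (hr : r < D.nroots) (v : D.Idx → ℤ) : Q D r v := by
  suffices h : ∀ (n r : ℕ), r < D.nroots → (ht D r).natAbs ≤ n → ∀ v, Q D r v from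
    h _ r hr le_rfl v
  intro n
  induction n with
  | zero => intro r hr h; have := hD.ht_ne_zero hr; omega
  | succ n ih =>
    intro r hr hn v
    rcases hD.dec_step hr with hg | ⟨i, hi, g, hg, a, N, ha, hN, hh, hX, h3, hc⟩
    · exact hD.Q_gen hg v
    have hgen : isGen D (std D) g = true := isGen_iff.2 ⟨i, hi, by
      rcases hg with ⟨-, rfl⟩ | ⟨-, rfl⟩
      exacts [Or.inl rfl, Or.inr rfl]⟩
    refine Side.smul_cancel hD hN ?_
    have qg := hD.Q_gen hgen
    have qa := ih a ha (by omega)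
    have expand : ∀ (g a w : Matrix D.Idx D.Idx ℤ),
        (g * a - a * g) * w - w * (g * a - a * g) =
          (g * (a * w - w * a) - (a * w - w * a) * g) -
            (a * (g * w - w * g) - (g * w - w * g) * a) := by
      intro g a w; noncomm_ring
    rw [← map_smul, ← Matrix.smul_mulVec, smul_sub, ← Matrix.smul_mul, ← Matrix.mul_smul, ← hc,
      expand, qa v, qg v, qg, qa, ← map_sub, Matrix.mulVec_mulVec, Matrix.mulVec_mulVec,
      Matrix.sub_mulVec]

/-- the Jacobi identity for an arbitrary operator `ad v` -/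
theorem jacobi' {r : ℕ} (hr : r < D.nroots) (v : D.Idx → ℤ) :
    X D r * adL D v - adL D v * X D r = adL D (X D r *ᵥ v) := hD.jacobi hr v

end Good

end Cfsg.Agent.ChevCore
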