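/-
The root elements over a commutative ring, and their agreement with `ChevalleyDatum.x`.
-/
import Cfsg.Agent.Lib.ChevCore.Jacobi2

set_option autoImplicit false

namespace Cfsg.Agent.ChevCore

open Cfsg.Lie
open Matrix

variable (D : ChevalleyDatum)

/-- `x_r(t)` over a commutative ring -/
noncomputable def xR (R : Type*) [CommRing R] (r : ℕ) (t : R) : Matrix D.Idx D.Idx R :=
  1 + t • Mc D R 1 r + t ^ 2 • Mc D R 2 r + t ^ 3 • Mc D R 3 r

theorem Mc_map {R S : Type*} [CommRing R] [CommRing S] (f : R →+* S) (k r : ℕ) :
    (Mc D R k r).map f = Mc D S k r := by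
  ext a b; simp [Mc]

theorem xR_map {R S : Type*} [CommRing R] [CommRing S] (f : R →+* S) (r : ℕ) (t : R) :
    (xR D R r t).map f = xR D S r (f t) := by
  ext a b
  have h1 := congrFun (congrFun (Mc_map D f 1 r) a) b
  have h2 := congrFun (congrFun (Mc_map D f 2 r) a) b
  have h3 := congrFun (congrFun (Mc_map D f 3 r) a) b
  simp only [Matrix.map_apply] at h1 h2 h3
  simp [xR, Matrix.one_apply, apply_ite f, h1, h2, h3]

@[simp] theorem xR_zero (R : Type*) [CommRing R] (r : ℕ) : xR D R r 0 = 1 := by simp [xR]

theorem Mc_entry {R : Type*} [CommRing R] (k r : ℕ) (a b : D.Idx) :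
    Mc D R k r a b = ((vec D ℤ (col D k r (code D b)) a : ℤ) : R) := by
  rw [Mc_apply, vec_map_cast]

variable {D}

theorem vec_toList_option {R : Type*} [CommRing R] (o : Option (ℕ × ℤ)) (a : D.Idx) :
    vec D R o.toList a = (o.map fun e => if e.1 = code D a then (e.2 : R) else 0).getD 0 := by
  cases o with
  | none => simp
  | some e => rcases e with ⟨u, z⟩; simp [vec_cons]

theorem chainCoeff_eq (hD : Good D) (r v u : ℕ) :
    D.chainCoeff r v u =
      ((D.chainEntry r v).zipIdx.filter fun q => q.1.1 = u).map fun q => (q.2 + 1, q.1.2) := by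
  rw [ChevalleyDatum.chainCoeff, chainEntry_eq, ← List.head?_filter]
  have h := hD.chainUnique r v
  cases hL : ((D.chain.getD r #[]).toList.filter fun e => decide (e.1 = v)) with
  | nil => simp
  | cons e L =>
    rw [hL] at h
    simp only [List.length_cons, Nat.le_iff_lt_add_one] at h
    obtain rfl : L = [] := List.eq_nil_of_length_eq_zero (by omega)
    simp

theorem chain_sum {R : Type*} [CommRing R] (L : SVec) (hL : L.length ≤ 3) (u : ℕ) (t : R) :
    (((L.zipIdx.filter fun q => q.1.1 = u).map fun q => (q.2 + 1, q.1.2)).map
        fun km => ((km.2 : ℤ) : R) * t ^ km.1).sum =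
      t * ((L[0]?).map fun e => if e.1 = u then (e.2 : R) else 0).getD 0 +
      t ^ 2 * ((L[1]?).map fun e => if e.1 = u then (e.2 : R) else 0).getD 0 +
      t ^ 3 * ((L[2]?).map fun e => if e.1 = u then (e.2 : R) else 0).getD 0 := by
  rcases L with _ | ⟨⟨a, x⟩, _ | ⟨⟨b, y⟩, _ | ⟨⟨c, z⟩, _ | ⟨d, L⟩⟩⟩⟩
  · simp
  · by_cases h1 : a = u <;> simp [List.zipIdx, h1] <;> ring
  · by_cases h1 : a = u <;> by_cases h2 : b = u <;> simp [List.zipIdx, h1, h2] <;> ring
  · by_cases h1 : a = u <;> by_cases h2 : b = u <;> by_cases h3 : c = u <;>
      simp [List.zipIdx, h1, h2, h3] <;> ring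
  · simp only [List.length_cons] at hL; omega

theorem Good.xMat_eq (hD : Good D) (F : Type*) [Field F] (r : Fin D.nroots) (t : F) :
    D.xMat F r t = xR D F r.val t := by
  ext a b
  simp only [xR, Matrix.add_apply, Matrix.smul_apply, smul_eq_mul, Mc_apply]
  rcases b with i | v
  · have hc : ∀ k, col D k r.val (code D (Sum.inl i)) =
        if k = 1 then [(r.val, -D.cartan i.val r.val)] else [] := by
      intro k
      rcases col_cases D k r.val (Sum.inl i) with ⟨j, hj, h⟩ | ⟨w, hw, -⟩
      · obtain rfl : i = j := Sum.inl.inj hj
        exact h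
      · cases hw
    simp only [hc, if_true, if_neg (show ¬ (2 : ℕ) = 1 by omega),
      if_neg (show ¬ (3 : ℕ) = 1 by omega), vec_nil, Pi.zero_apply, mul_zero, add_zero,
      vec_single_root D r.isLt]
    rcases a with i' | u
    · simp [ChevalleyDatum.xMat, Matrix.one_apply]
    · simp only [ChevalleyDatum.xMat, Matrix.of_apply, Matrix.one_apply, Fin.eta,
        ChevalleyDatum.cartan]
      by_cases h : u = r
      · subst h; simp; ring
      · simp [h]
  · have hc : ∀ k, col D k r.val (code D (Sum.inr v)) =
        if v.val = r.val then [] else if v.val = D.neg r.val then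
          (if k = 1 then (List.range D.rank).map
              fun i => (D.nroots + i, (D.coroot.getD r.val #[]).getD i 0)
            else if k = 2 then [(r.val, -1)] else [])
        else if k = 0 then [] else ((D.chainEntry r.val v.val)[k - 1]?).toList := by
      intro k
      rcases col_cases D k r.val (Sum.inr v) with ⟨j, hj, -⟩ | ⟨w, hw, h⟩
      · cases hj
      · obtain rfl : v = w := Sum.inr.inj hw
        exact h
    simp only [hc, ChevalleyDatum.xMat, Matrix.of_apply]
    by_cases h1 : v = r
    · subst h1
      rcases a with i' | u <;> simp [Matrix.one_apply]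
    have h1' : ¬ v.val = r.val := fun e => h1 (Fin.ext e)
    by_cases h2 : v.val = D.neg r.val
    · simp only [if_neg h1, if_neg h1', if_pos h2, if_true,
        if_neg (show ¬ (2 : ℕ) = 1 by omega), if_neg (show ¬ (3 : ℕ) = 1 by omega),
        if_neg (show ¬ (3 : ℕ) = 2 by omega), vec_nil, Pi.zero_apply, mul_zero, add_zero,
        vec_single_root D r.isLt]
      rw [if_pos (show v.val = D.negIdx.getD r.val 0 from h2)]
      have hsum : ∀ a : D.Idx, vec D F ((List.range D.rank).map
          fun i => (D.nroots + i, (D.coroot.getD r.val #[]).getD i 0)) a =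
          Sum.elim (fun i => (((D.coroot.getD r.val #[]).getD i.val 0 : ℤ) : F)) (fun _ => 0) a := by
        intro a
        simp only [vec, List.filter_map, List.map_map]
        rcases a with i' | u
        · have : (List.range D.rank).filter
              ((fun e : ℕ × ℤ => e.1 == code D (Sum.inl i')) ∘
                fun i => (D.nroots + i, (D.coroot.getD r.val #[]).getD i 0)) = [i'.val] := by
            rw [show ((fun e : ℕ × ℤ => e.1 == code D (Sum.inl i')) ∘
              fun i => (D.nroots + i, (D.coroot.getD r.val #[]).getD i 0)) =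
              fun i => i == i'.val from funext fun i => by
                simp [code_inl]]
            rw [List.filter_beq, List.count_eq_one_of_mem List.nodup_range
              (List.mem_range.2 i'.isLt)]
            rfl
          rw [this]; simp
        · rw [List.filter_eq_nil_iff.2 fun i _ => ?_]
          · simp
          · have := u.isLt
            simp [code_inr]; omega
      rw [hsum]
      rcases a with i' | u
      · simp [Matrix.one_apply, mul_comm]
      · simp only [Sum.elim_inr, mul_zero, add_zero, Matrix.one_apply]
        by_cases h3 : u = v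
        · subst h3; simp [h1]
        · by_cases h4 : u = r
          · subst h4; simp [h3]
          · simp [h3, h4]
    · simp only [if_neg h1, if_neg h1', if_neg h2, vec_toList_option,
        if_neg (show ¬ (1 : ℕ) = 0 by omega), if_neg (show ¬ (2 : ℕ) = 0 by omega),
        if_neg (show ¬ (3 : ℕ) = 0 by omega)]
      rw [if_neg (show ¬ v.val = D.negIdx.getD r.val 0 from h2)]
      have hlen : (D.chainEntry r.val v.val).length ≤ 3 := by
        by_cases hne : D.chainEntry r.val v.val = []
        · simp [hne]
        · exact (hD.chain_facts r.isLt v.isLt hne).2.2.1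
      have hs := chain_sum (R := F) _ hlen (code D a) t
      rcases a with i' | u
      · have hz : ∀ k : ℕ, (((D.chainEntry r.val v.val)[k]?).map fun e =>
            if e.1 = code D (Sum.inl i') then ((e.2 : ℤ) : F) else 0).getD 0 = 0 := by
          intro k
          cases hk : (D.chainEntry r.val v.val)[k]? with
          | none => simp
          | some e =>
            have hne : D.chainEntry r.val v.val ≠ [] := by intro e'; simp [e'] at hk
            have := ((hD.chain_facts r.isLt v.isLt hne).2.2.2 k e hk).1
            have hne' : e.1 ≠ code D (Sum.inl i') := by rw [code_inl]; omega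
            simp [hne']
        simp [hz, Matrix.one_apply]
      · rw [code_inr] at hs
        dsimp only
        simp only [chainCoeff_eq hD r.val v.val u.val, hs, code_inr]
        simp only [Matrix.one_apply, Sum.inr.injEq]
        simp only [add_assoc]
        rfl

theorem Good.x_eq (hD : Good D) (F : Type*) [Field F] {r : ℕ} (hr : r < D.nroots) (t : F) :
    D.x F r t = xR D F r t := by
  rw [ChevalleyDatum.x, dif_pos hr, hD.xMat_eq]

end Cfsg.Agent.ChevCore
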