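/-
Root elements are exponentials, are additive, and conjugate `ad v` to `ad (x_r(t) v)`.
-/
import Cfsg.Agent.Lib.ChevCore.RootElem

set_option autoImplicit false

namespace Cfsg.Agent.ChevCore

open Cfsg.Lie
open Matrix

variable (D : ChevalleyDatum)

/-- `ad` of a basis vector over a ring -/
noncomputable def adbR (R : Type*) [CommRing R] (c : D.Idx) : Matrix D.Idx D.Idx R :=
  (adb D c).map (Int.cast : ℤ → R)

/-- `ad` over a ring -/
noncomputable def adR (R : Type*) [CommRing R] : (D.Idx → R) →ₗ[R] Matrix D.Idx D.Idx R where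
  toFun v := ∑ c, v c • adbR D R c
  map_add' v w := by simp [add_smul, Finset.sum_add_distrib]
  map_smul' z v := by
    simp only [Pi.smul_apply, smul_eq_mul, RingHom.id_apply, Finset.smul_sum, smul_smul]

/-- `g` conjugates `ad v` to `ad (g v)` -/
def Intw {R : Type*} [CommRing R] (g : Matrix D.Idx D.Idx R) : Prop :=
  ∀ v, g * adR D R v = adR D R (g *ᵥ v) * g

theorem adR_apply {R : Type*} [CommRing R] (v : D.Idx → R) :
    adR D R v = ∑ c, v c • adbR D R c := rfl

theorem adbR_map {R S : Type*} [CommRing R] [CommRing S] (f : R →+* S) (c : D.Idx) :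
    (adbR D R c).map f = adbR D S c := by ext a b; simp [adbR]

theorem adR_map {R S : Type*} [CommRing R] [CommRing S] (f : R →+* S) (v : D.Idx → R) :
    (adR D R v).map f = adR D S (f ∘ v) := by
  ext a b
  simp [adR_apply, Matrix.sum_apply, adbR]

theorem adR_single {R : Type*} [CommRing R] (c : D.Idx) :
    adR D R (Pi.single c 1) = adbR D R c := by
  rw [adR_apply, Finset.sum_eq_single c]
  · simp
  · intro d _ hd; simp [hd]
  · simp

variable {D}

theorem Intw.one {R : Type*} [CommRing R] : Intw D (1 : Matrix D.Idx D.Idx R) := fun v => by simp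

theorem Intw.mul {R : Type*} [CommRing R] {g h : Matrix D.Idx D.Idx R} (hg : Intw D g)
    (hh : Intw D h) : Intw D (g * h) := fun v => by
  rw [mul_assoc, hh v, ← mul_assoc, hg, mul_assoc, Matrix.mulVec_mulVec]

theorem Intw.of_basis {R : Type*} [CommRing R] {g : Matrix D.Idx D.Idx R}
    (h : ∀ c, g * adbR D R c = adR D R (g *ᵥ Pi.single c 1) * g) : Intw D g := by
  intro v
  have hv : v = ∑ c, v c • Pi.single c (1 : R) := by
    funext d
    simp [Finset.sum_apply, Pi.single_apply]
  rw [hv]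
  simp only [map_sum, map_smul, Matrix.mulVec_sum, Matrix.mulVec_smul, Finset.mul_sum,
    Finset.sum_mul, Matrix.mul_smul, Matrix.smul_mul, adR_single]
  exact Finset.sum_congr rfl fun c _ => by rw [h c]

theorem Intw.map {R S : Type*} [CommRing R] [CommRing S] (f : R →+* S)
    {g : Matrix D.Idx D.Idx R} (hg : Intw D g) : Intw D (g.map f) := by
  refine Intw.of_basis fun c => ?_
  have := congrArg (fun A : Matrix D.Idx D.Idx R => A.map f) (hg (Pi.single c 1))
  simp only [Matrix.map_mul, adR_single, adbR_map, adR_map] at this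
  rw [this]
  congr 2
  funext a
  simp

theorem Intw.of_map {R S : Type*} [CommRing R] [CommRing S] {f : R →+* S}
    (hf : Function.Injective f) {g : Matrix D.Idx D.Idx R} (hg : Intw D (g.map f)) : Intw D g := by
  intro v
  refine Matrix.map_injective hf ?_
  simp only [Matrix.map_mul, adR_map]
  rw [hg (f ∘ v)]
  congr 2
  funext a
  exact (RingHom.map_mulVec f g v a).symm

namespace Good

variable (hD : Good D)

include hD

theorem X_mul_M {r : ℕ} (hr : r < D.nroots) :
    X D r * X D r = (2 : ℤ) • M D 2 r ∧ X D r * M D 2 r = (3 : ℤ) • M D 3 r ∧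
      X D r * M D 3 r = 0 := by
  have key : ∀ v < D.nroots + D.rank, chkDivPowAt D (std D) r v = true := hD.divPow r hr
  simp only [chkDivPowAt, Bool.and_eq_true] at key
  have e : ∀ k, colW D (std D) k r = col D k r := fun _ => rfl
  simp only [e] at key
  have h1 : ∀ k (b : D.Idx), vec D ℤ (applyC (col D 1 r) (col D k r (code D b))) =
      (X D r * M D k r) *ᵥ Pi.single b 1 := by
    intro k b
    rw [vec_applyC_col, ← Mc_single, Mc_int, Mc_int, Matrix.mulVec_mulVec]
    rfl
  refine ⟨matrix_ext_col D fun b => ?_, matrix_ext_col D fun b => ?_,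
    matrix_ext_col D fun b => ?_⟩
  · have := vec_eq_of_eqS D (R := ℤ) (key _ (code_lt D b)).1.1
    rw [h1, vec_scaleS, ← Mc_single, Mc_int] at this
    rw [Matrix.smul_mulVec]
    simpa [X] using this
  · have := vec_eq_of_eqS D (R := ℤ) (key _ (code_lt D b)).1.2
    rw [h1, vec_scaleS, ← Mc_single, Mc_int] at this
    rw [Matrix.smul_mulVec]
    simpa using this
  · have := vec_eq_of_eqS D (R := ℤ) (key _ (code_lt D b)).2
    rw [h1, vec_nil] at this
    rw [this, Matrix.zero_mulVec]

theorem Mc_mul {R : Type*} [CommRing R] {r : ℕ} (hr : r < D.nroots) :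
    Mc D R 1 r * Mc D R 1 r = (2 : R) • Mc D R 2 r ∧
      Mc D R 1 r * Mc D R 2 r = (3 : R) • Mc D R 3 r ∧ Mc D R 1 r * Mc D R 3 r = 0 := by
  obtain ⟨h1, h2, h3⟩ := hD.X_mul_M hr
  have e : ∀ A B : Matrix D.Idx D.Idx ℤ, (A * B).map (Int.castRingHom R) =
      A.map (Int.castRingHom R) * B.map (Int.castRingHom R) := fun A B => Matrix.map_mul
  refine ⟨?_, ?_, ?_⟩
  · have := congrArg (fun A : Matrix D.Idx D.Idx ℤ => A.map (Int.castRingHom R)) h1
    simp only [e] at this
    refine this.trans ?_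
    ext a b; simp [Mc, -zsmul_eq_mul]
  · have := congrArg (fun A : Matrix D.Idx D.Idx ℤ => A.map (Int.castRingHom R)) h2
    simp only [e] at this
    refine this.trans ?_
    ext a b; simp [Mc, -zsmul_eq_mul]
  · have := congrArg (fun A : Matrix D.Idx D.Idx ℤ => A.map (Int.castRingHom R)) h3
    simp only [e] at this
    refine this.trans ?_
    ext a b; simp

theorem jacobiR {R : Type*} [CommRing R] {r : ℕ} (hr : r < D.nroots) (v : D.Idx → R) :
    Mc D R 1 r * adR D R v - adR D R v * Mc D R 1 r = adR D R (Mc D R 1 r *ᵥ v) := by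
  have hv : v = ∑ c, v c • Pi.single c (1 : R) := by
    funext d
    simp [Finset.sum_apply, Pi.single_apply]
  rw [hv]
  simp only [map_sum, map_smul, Matrix.mulVec_sum, Matrix.mulVec_smul, Finset.mul_sum,
    Finset.sum_mul, Matrix.mul_smul, Matrix.smul_mul, ← Finset.sum_sub_distrib, ← smul_sub,
    adR_single]
  refine Finset.sum_congr rfl fun c _ => ?_
  congr 1
  have h := congrArg (fun A : Matrix D.Idx D.Idx ℤ => A.map (Int.castRingHom R))
    (hD.jacobi' hr (Pi.single c 1))
  simp only [adL_single] at h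
  refine Eq.trans ?_ (h.trans ?_)
  · rw [show (⇑(Int.castRingHom R)) = (Int.cast : ℤ → R) from rfl,
      Matrix.map_sub _ (fun a b => Int.cast_sub a b)]
    rw [show (Int.cast : ℤ → R) = ⇑(Int.castRingHom R) from rfl, Matrix.map_mul, Matrix.map_mul]
    rfl
  · rw [show adL D (X D r *ᵥ Pi.single c 1) =
        ∑ d, (X D r *ᵥ Pi.single c (1 : ℤ)) d • adb D d from rfl, adR_apply]
    ext a b
    simp [Matrix.sum_apply, adbR, Mc, X, -zsmul_eq_mul]

section exponential

variable (K : Type*) [Field K] [CharZero K]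

omit [CharZero K] in
theorem tX_pow {r : ℕ} (hr : r < D.nroots) (t : K) : (t • Mc D K 1 r) ^ 4 = 0 := by
  obtain ⟨h1, h2, h3⟩ := hD.Mc_mul (R := K) hr
  rw [smul_pow, show Mc D K 1 r ^ 4 =
      Mc D K 1 r * (Mc D K 1 r * (Mc D K 1 r * Mc D K 1 r)) by noncomm_ring]
  rw [h1, Matrix.mul_smul, h2, Matrix.mul_smul, Matrix.mul_smul, h3]
  simp

theorem xR_eq_exp {r : ℕ} (hr : r < D.nroots) (t : K) :
    xR D K r t = IsNilpotent.exp (t • Mc D K 1 r) := by
  obtain ⟨h1, h2, h3⟩ := hD.Mc_mul (R := K) hr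
  rw [IsNilpotent.exp_eq_sum (hD.tX_pow K hr t)]
  simp only [Finset.sum_range_succ, Finset.sum_range_zero, zero_add, pow_zero, pow_one,
    Nat.factorial, Nat.cast_one, inv_one, one_smul, smul_pow]
  rw [show Mc D K 1 r ^ 2 = (2 : K) • Mc D K 2 r by rw [pow_two, h1],
    show Mc D K 1 r ^ 3 = (6 : K) • Mc D K 3 r by
      rw [pow_succ', pow_two, h1, Matrix.mul_smul, h2, smul_smul]; norm_num]
  rw [xR]
  ext a b
  simp only [Matrix.add_apply, Matrix.smul_apply, smul_eq_mul, Rat.smul_def]
  push_cast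
  field_simp

theorem xR_add_charZero {r : ℕ} (hr : r < D.nroots) (t u : K) :
    xR D K r t * xR D K r u = xR D K r (t + u) := by
  rw [hD.xR_eq_exp K hr, hD.xR_eq_exp K hr, hD.xR_eq_exp K hr, add_smul,
    IsNilpotent.exp_add_of_commute ((Commute.refl _).smul_left t |>.smul_right u)
      ⟨4, hD.tX_pow K hr t⟩ ⟨4, hD.tX_pow K hr u⟩]

theorem intw_charZero {r : ℕ} (hr : r < D.nroots) (t : K) : Intw D (xR D K r t) := by
  have hA := hD.tX_pow K hr t
  set A := t • Mc D K 1 r with hAdef
  let fM : Module.End K (D.Idx → K) := Matrix.toLinAlgEquiv' A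
  let L : Module.End K (Matrix D.Idx D.Idx K) := LinearMap.mulLeft K A
  let Rt : Module.End K (Matrix D.Idx D.Idx K) := LinearMap.mulRight K (-A)
  have hL : L ^ 4 = 0 := by simp [L, LinearMap.pow_mulLeft, hA]
  have hR : Rt ^ 4 = 0 := by simp [Rt, LinearMap.pow_mulRight, neg_pow A, hA]
  have hcomm : Commute L Rt := LinearMap.commute_mulLeft_right A (-A)
  have hint : (L + Rt) ∘ₗ adR D K = adR D K ∘ₗ fM := by
    refine LinearMap.ext fun v => ?_
    show A * adR D K v + adR D K v * -A = adR D K (fM v)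
    rw [show fM v = A *ᵥ v from Matrix.toLinAlgEquiv'_apply A v, hAdef, Matrix.smul_mulVec,
      map_smul, ← hD.jacobiR hr v, Matrix.smul_mul, mul_neg, Matrix.mul_smul, smul_sub]
    abel
  have hfM : IsNilpotent fM := ⟨4, by rw [← map_pow, hA, map_zero]⟩
  have hexp := Module.End.commute_exp_left_of_commute hfM
    (hcomm.isNilpotent_add ⟨4, hL⟩ ⟨4, hR⟩) hint
  rw [IsNilpotent.exp_add_of_commute hcomm ⟨4, hL⟩ ⟨4, hR⟩] at hexp
  have hexpR : ∀ Y, IsNilpotent.exp Rt Y = Y * IsNilpotent.exp (-A) := by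
    intro Y
    rw [IsNilpotent.exp_eq_sum hR, IsNilpotent.exp_eq_sum (k := 4) (by simp [neg_pow A, hA])]
    simp [Rt, LinearMap.pow_mulRight, Finset.mul_sum]
  have hexpL : ∀ Y, IsNilpotent.exp L Y = IsNilpotent.exp A * Y := by
    intro Y
    rw [IsNilpotent.exp_eq_sum hL, IsNilpotent.exp_eq_sum hA]
    simp [L, LinearMap.pow_mulLeft, Finset.sum_mul]
  have hexpM : ∀ v, IsNilpotent.exp fM v = IsNilpotent.exp A *ᵥ v := by
    intro v
    rw [← IsNilpotent.map_exp ⟨4, hA⟩ (Matrix.toLinAlgEquiv' : _ ≃ₐ[K] Module.End K (D.Idx → K)),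
      Matrix.toLinAlgEquiv'_apply]
  intro v
  have h := LinearMap.congr_fun hexp v
  simp only [LinearMap.comp_apply, Module.End.mul_apply, hexpR, hexpL, hexpM] at h
  rw [hD.xR_eq_exp K hr, ← hAdef, ← h, mul_assoc, mul_assoc,
    IsNilpotent.exp_neg_mul_exp_self ⟨4, hA⟩, mul_one]

end exponential

end Good

/-- the polynomial ring in which identities in two parameters are verified -/
abbrev Poly2 : Type := MvPolynomial (Fin 2) ℤ

/-- its field of fractions -/
abbrev Frac2 : Type := FractionRing Poly2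

instance instCharZeroFrac2 : CharZero Frac2 :=
  charZero_of_injective_algebraMap (IsFractionRing.injective Poly2 Frac2)

/-- evaluation at a pair -/
noncomputable def eval2 {R : Type*} [CommRing R] (t u : R) : Poly2 →+* R :=
  MvPolynomial.eval₂Hom (Int.castRingHom R) ![t, u]

@[simp] theorem eval2_X0 {R : Type*} [CommRing R] (t u : R) :
    eval2 t u (MvPolynomial.X 0) = t := by simp [eval2]

@[simp] theorem eval2_X1 {R : Type*} [CommRing R] (t u : R) :
    eval2 t u (MvPolynomial.X 1) = u := by simp [eval2]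

theorem map_eq_of_frac {D : ChevalleyDatum} {A B : Matrix D.Idx D.Idx Poly2}
    (h : A.map (algebraMap Poly2 Frac2) = B.map (algebraMap Poly2 Frac2)) : A = B :=
  Matrix.map_injective (IsFractionRing.injective Poly2 Frac2) h

namespace Good

variable (hD : Good D)

include hD

theorem xR_add {R : Type*} [CommRing R] {r : ℕ} (hr : r < D.nroots) (t u : R) :
    xR D R r t * xR D R r u = xR D R r (t + u) := by
  have h : xR D Poly2 r (MvPolynomial.X 0) * xR D Poly2 r (MvPolynomial.X 1) =
      xR D Poly2 r (MvPolynomial.X 0 + MvPolynomial.X 1) := map_eq_of_frac <| by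
    rw [Matrix.map_mul, xR_map, xR_map, xR_map, map_add]
    exact hD.xR_add_charZero Frac2 hr _ _
  have := congrArg (fun A : Matrix D.Idx D.Idx Poly2 => A.map (eval2 t u)) h
  simpa [Matrix.map_mul, xR_map, map_add] using this

theorem intw_xR {R : Type*} [CommRing R] {r : ℕ} (hr : r < D.nroots) (t : R) :
    Intw D (xR D R r t) := by
  have h : Intw D (xR D Poly2 r (MvPolynomial.X 0)) :=
    Intw.of_map (f := algebraMap Poly2 Frac2) (IsFractionRing.injective Poly2 Frac2) <| by
      rw [xR_map]; exact hD.intw_charZero Frac2 hr _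
  have := h.map (eval2 t (0 : R))
  rwa [xR_map, eval2_X0] at this

end Good

end Cfsg.Agent.ChevCore
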