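/-
The reflections in fundamental roots on root indices.
-/
import Cfsg.Agent.Lib.ChevCore.Facts

set_option autoImplicit false

namespace Cfsg.Agent.ChevCore

open Cfsg.Lie

variable (D : ChevalleyDatum)

/-- the sign of `n_{p_{i+1}}` on `e_s` -/
noncomputable def eta (i s : ℕ) : ℤ := etaW D (std D) i s

theorem eta_eq_one_or (i s : ℕ) : eta D i s = 1 ∨ eta D i s = -1 := by
  simp only [eta, etaW, forceN_eq]
  cases zNonneg _ <;> simp

theorem eta_mul_self (i s : ℕ) : eta D i s * eta D i s = 1 := by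
  rcases eta_eq_one_or D i s with h | h <;> simp [h]

theorem reflW_std (i s : ℕ) : reflW D (std D) i s = D.reflectRoot i s := by
  have key : ∀ (r v j : ℕ), 1 ≤ j →
      kget (kmap Prod.fst (D.chainEntry r v)) (j - 1) v = (D.chainRoot r v j).getD v := by
    intro r v j _
    rw [kget_eq, kmap_eq, List.getD_eq_getElem?_getD, List.getElem?_map]
    rfl
  simp only [reflW, forceN_eq, forceZ_eq, std_negf, std_cart, std_look, ChevalleyDatum.reflectRoot]
  by_cases h1 : s = D.simple i
  · simp [h1]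
  rw [nat_beq_false h1, cond_false, if_neg h1]
  by_cases h2 : s = D.neg (D.simple i)
  · simp [h2]
  rw [nat_beq_false h2, cond_false, if_neg h2]
  by_cases h3 : 0 < D.cartan i s
  · rw [zPos_iff.2 h3, cond_true, if_pos h3]
    exact key _ _ _ (by omega)
  rw [show zPos (D.cartan i s) = false from Bool.eq_false_iff.2 fun e => h3 (zPos_iff.1 e),
    cond_false, if_neg h3]
  by_cases h4 : D.cartan i s < 0
  · rw [zPos_iff.2 (show 0 < -D.cartan i s by omega), cond_true, if_pos h4]
    exact key _ _ _ (by omega)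
  rw [show zPos (-D.cartan i s) = false from
    Bool.eq_false_iff.2 fun e => h4 (by have := zPos_iff.1 e; omega), cond_false, if_neg h4]

variable {D}

theorem parity_eq (n : ℕ) : parity n = (-1) ^ n := by
  rcases Nat.even_or_odd n with h | h
  · rw [parity, Nat.even_iff.1 h, h.neg_one_pow]; rfl
  · rw [parity, Nat.odd_iff.1 h, h.neg_one_pow]; rfl

namespace Good

variable (hD : Good D)

include hD

theorem refl_facts {i s : ℕ} (hi : i < D.rank) (hs : s < D.nroots) :
    D.reflectRoot i s < D.nroots ∧ D.reflectRoot i (D.reflectRoot i s) = s ∧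
      D.reflectRoot i (D.neg s) = D.neg (D.reflectRoot i s) ∧
      (0 < ht D s → s ≠ D.simple i → 0 < ht D (D.reflectRoot i s)) ∧
      ∀ j < D.rank, coef D (D.reflectRoot i s) j =
        coef D s j - if j = i then D.cartan i s else 0 := by
  have h := hD.refl
  simp only [chkRefl, Bool.and_eq_true, kallUpTo_iff, forceN_eq, reflW_std, std_negf,
    std_cart] at h
  obtain ⟨⟨⟨⟨h1, h2⟩, h3⟩, h4⟩, h5⟩ := (h.1 i hi).1 s hs
  simp only [Nat.blt_eq] at h1
  refine ⟨h1, Nat.eq_of_beq_eq_true h2, Nat.eq_of_beq_eq_true h3, fun hp hne => ?_, fun j hj => ?_⟩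
  · simp only [Bool.or_eq_true, Bool.not_eq_true', zPos_iff] at h4
    rcases h4 with (h4 | h4) | h4
    · exact absurd (zPos_iff.2 hp) (by simp [h4])
    · exact absurd (Nat.eq_of_beq_eq_true h4) hne
    · exact h4
  · rw [kall2_eq_iff _ _ _ (fun a b => zEq_iff), ktab_eq] at h5
    rw [coef, h5, kget_eq, List.getD_eq_getElem _ _ (by simpa using hj)]
    simp only [List.getElem_map, List.getElem_range]
    congr 1
    by_cases e : j = i
    · simp [e]
    · simp [nat_beq_false e, e]

theorem refl_lt {i s : ℕ} (hi : i < D.rank) (hs : s < D.nroots) :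
    D.reflectRoot i s < D.nroots := (hD.refl_facts hi hs).1

theorem refl_refl {i s : ℕ} (hi : i < D.rank) (hs : s < D.nroots) :
    D.reflectRoot i (D.reflectRoot i s) = s := (hD.refl_facts hi hs).2.1

theorem refl_neg {i s : ℕ} (hi : i < D.rank) (hs : s < D.nroots) :
    D.reflectRoot i (D.neg s) = D.neg (D.reflectRoot i s) := (hD.refl_facts hi hs).2.2.1

theorem refl_pos {i s : ℕ} (hi : i < D.rank) (hs : s < D.nroots) (hp : 0 < ht D s)
    (hne : s ≠ D.simple i) : 0 < ht D (D.reflectRoot i s) := (hD.refl_facts hi hs).2.2.2.1 hp hne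

theorem coef_refl {i s j : ℕ} (hi : i < D.rank) (hs : s < D.nroots) (hj : j < D.rank) :
    coef D (D.reflectRoot i s) j = coef D s j - if j = i then D.cartan i s else 0 :=
  (hD.refl_facts hi hs).2.2.2.2 j hj

theorem refl_simple {i : ℕ} (hi : i < D.rank) :
    D.reflectRoot i (D.simple i) = D.neg (D.simple i) := by
  have h := hD.refl
  simp only [chkRefl, Bool.and_eq_true, kallUpTo_iff, forceN_eq, reflW_std, std_negf] at h
  exact Nat.eq_of_beq_eq_true (h.1 i hi).2

theorem refl_neg_simple {i : ℕ} (hi : i < D.rank) :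
    D.reflectRoot i (D.neg (D.simple i)) = D.simple i := by
  rw [hD.refl_neg hi (hD.simple_lt hi), hD.refl_simple hi, hD.neg_neg (hD.simple_lt hi)]

theorem refl_inj {i r s : ℕ} (hi : i < D.rank) (hr : r < D.nroots) (hs : s < D.nroots)
    (h : D.reflectRoot i r = D.reflectRoot i s) : r = s := by
  rw [← hD.refl_refl hi hr, h, hD.refl_refl hi hs]

theorem refl_ne_simple {i s : ℕ} (hi : i < D.rank) (hs : s < D.nroots) (hp : 0 < ht D s) :
    D.reflectRoot i s ≠ D.simple i := by
  intro h
  have := hD.refl_refl hi hs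
  rw [h, hD.refl_simple hi] at this
  rw [← this, hD.ht_neg (hD.simple_lt hi), hD.ht_simple hi] at hp
  omega

theorem ht_refl {i s : ℕ} (hi : i < D.rank) (hs : s < D.nroots) :
    ht D (D.reflectRoot i s) = ht D s - D.cartan i s := by
  rw [hD.ht_eq (hD.refl_lt hi hs), hD.ht_eq hs,
    Finset.sum_congr rfl fun j hj => hD.coef_refl hi hs (Finset.mem_range.1 hj),
    Finset.sum_sub_distrib, Finset.sum_ite_eq' (Finset.range D.rank) i]
  simp [hi]

theorem descent {s : ℕ} (hs : s < D.nroots) (hp : 0 < ht D s) :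
    (∃ i < D.rank, s = D.simple i) ∨
      ∃ i < D.rank, 0 < ht D (D.reflectRoot i s) ∧ ht D (D.reflectRoot i s) < ht D s := by
  have h := hD.refl
  simp only [chkRefl, Bool.and_eq_true, kallUpTo_iff, forceN_eq, forceZ_eq, reflW_std] at h
  have h2 := h.2 s hs
  simp only [Bool.or_eq_true, Bool.not_eq_true', kanyUpTo_iff, zPos_iff] at h2
  rcases h2 with (h2 | h2) | ⟨i, hi, h2⟩
  · exact absurd (zPos_iff.2 hp) (by simp [h2])
  · simp only [isGen, kanyUpTo_iff, forceN_eq, std_negf, Bool.or_eq_true] at h2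
    obtain ⟨i, hi, h2 | h2⟩ := h2
    · exact Or.inl ⟨i, hi, Nat.eq_of_beq_eq_true h2⟩
    · rw [Nat.eq_of_beq_eq_true h2, hD.ht_neg (hD.simple_lt hi), hD.ht_simple hi] at hp
      omega
  · by_cases hsi : s = D.simple i
    · exact Or.inl ⟨i, hi, hsi⟩
    · exact Or.inr ⟨i, hi, hD.refl_pos hi hs hp hsi, by omega⟩

theorem eta_facts {i s : ℕ} (hi : i < D.rank) (hs : s < D.nroots) :
    eta D i s * eta D i (D.reflectRoot i s) = (-1) ^ (D.cartan i s).natAbs ∧
      eta D i s * eta D i (D.neg s) = 1 := by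
  have h := hD.mono i hi
  simp only [chkMono, Bool.and_eq_true, kallUpTo_iff, forceN_eq, forceZ_eq, reflW_std, std_negf,
    std_cart, zEq_iff, parity_eq] at h
  exact ⟨(h.1.1 s hs).1.2, (h.1.1 s hs).2⟩

theorem eta_simple {i : ℕ} (hi : i < D.rank) :
    eta D i (D.simple i) = -1 ∧ eta D i (D.neg (D.simple i)) = -1 := by
  have h := hD.mono i hi
  simp only [chkMono, Bool.and_eq_true, forceN_eq, zEq_iff] at h
  have h1 : eta D i (D.simple i) = -1 := h.1.2
  refine ⟨h1, ?_⟩
  have := (hD.eta_facts hi (hD.simple_lt hi)).2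
  rw [h1] at this
  omega

theorem eta_neg {i s : ℕ} (hi : i < D.rank) (hs : s < D.nroots) :
    eta D i (D.neg s) = eta D i s := by
  have := (hD.eta_facts hi hs).2
  rcases eta_eq_one_or D i s with h | h <;> rw [h] at this ⊢ <;> omega

end Good

end Cfsg.Agent.ChevCore
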