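/-
`n_p` is a monomial matrix; intertwiners carry root elements to root elements.
-/
import Cfsg.Agent.Lib.ChevCore.Auto
import Cfsg.Agent.Lib.ChevCore.Refl

set_option autoImplicit false

namespace Cfsg.Agent.ChevCore

open Cfsg.Lie
open Matrix

variable (D : ChevalleyDatum)

/-- the monomial matrix of `n_{p_{i+1}}` -/
noncomputable def monoMat (R : Type*) [CommRing R] (i : ℕ) : Matrix D.Idx D.Idx R :=
  Matrix.of (fun (row col : D.Idx) =>
    Sum.elim
      (fun j' : Fin D.rank => Sum.elim
        (fun j : Fin D.rank => (if j' = j then (1 : R) else 0) -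
          (if (j' : ℕ) = i then ((D.cartan j (D.simple i) : ℤ) : R) else 0))
        (fun _ => (0 : R)) col)
      (fun s' : Fin D.nroots => Sum.elim
        (fun _ => (0 : R))
        (fun s : Fin D.nroots =>
          if (s' : ℕ) = D.reflectRoot i s then ((eta D i s : ℤ) : R) else 0) col)
      row)

/-- the word `x_p(1) x_{-p}(-1) x_p(1)` -/
noncomputable def nR (R : Type*) [CommRing R] (i : ℕ) : Matrix D.Idx D.Idx R :=
  xR D R (D.simple i) 1 * xR D R (D.neg (D.simple i)) (-1) * xR D R (D.simple i) 1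

/-- the word `x_p(-1) x_{-p}(1) x_p(-1)` -/
noncomputable def nR' (R : Type*) [CommRing R] (i : ℕ) : Matrix D.Idx D.Idx R :=
  xR D R (D.simple i) (-1) * xR D R (D.neg (D.simple i)) 1 * xR D R (D.simple i) (-1)

theorem monoMat_map {R S : Type*} [CommRing R] [CommRing S] (f : R →+* S) (i : ℕ) :
    (monoMat D R i).map f = monoMat D S i := by
  ext a b
  rcases a with a | a <;> rcases b with b | b <;> simp [monoMat, apply_ite f]

theorem nR_map {R S : Type*} [CommRing R] [CommRing S] (f : R →+* S) (i : ℕ) :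
    (nR D R i).map f = nR D S i := by
  simp [nR, Matrix.map_mul, xR_map]

theorem nR'_map {R S : Type*} [CommRing R] [CommRing S] (f : R →+* S) (i : ℕ) :
    (nR' D R i).map f = nR' D S i := by
  simp [nR', Matrix.map_mul, xR_map]

theorem vec_applyX (r : ℕ) (z : ℤ) (L : SVec) :
    vec D ℤ (applyX D (std D) r z L) = xR D ℤ r z *ᵥ vec D ℤ L := by
  have e : ∀ k, colW D (std D) k r = col D k r := fun _ => rfl
  rw [applyX, forceS_eq, forceN_eq]
  simp only [e, vec_kapp, vec_scaleS, vec_applyC_col, xR, Matrix.add_mulVec, Matrix.smul_mulVec,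
    Matrix.one_mulVec, Int.cast_id, pow_two, pow_succ, pow_zero, one_mul, add_assoc]

variable {D}

namespace Good

variable (hD : Good D)

include hD

theorem nR_eq_monoMat {R : Type*} [CommRing R] {i : ℕ} (hi : i < D.rank) :
    nR D R i = monoMat D R i := by
  suffices h : nR D ℤ i = monoMat D ℤ i by
    rw [← nR_map D (Int.castRingHom R), h, monoMat_map]
  refine matrix_ext_col D fun b => ?_
  have h := hD.mono i hi
  simp only [chkMono, Bool.and_eq_true, kallUpTo_iff, forceN_eq, forceZ_eq, reflW_std, std_negf,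
    std_cart] at h
  rw [nR, ← Matrix.mulVec_mulVec, ← Matrix.mulVec_mulVec, ← vec_basis D b]
  rcases b with j | s
  · have h2 := vec_eq_of_eqS D (R := ℤ) (h.2 j.val j.isLt)
    rw [vec_applyX, vec_applyX, vec_applyX] at h2
    rw [code_inl, h2, vec_single_coroot D j.isLt, vec_cons, vec_single_coroot D hi]
    funext a
    rcases a with j' | r'
    · simp only [monoMat, Matrix.mulVec_single, code_inl, Pi.add_apply]
      by_cases h1 : (j' : ℕ) = i
      · obtain rfl : j' = ⟨i, hi⟩ := Fin.ext h1
        by_cases h2 : i = j.val <;> simp [h2, Fin.ext_iff, eq_comm, sub_eq_add_neg]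
      · have h3 : j' ≠ ⟨i, hi⟩ := fun e => h1 (congrArg Fin.val e)
        by_cases h2 : j' = j
        · subst h2; simp [h1, h3]
        · have h2' : ¬ (j : ℕ) = j'.val := fun e => h2 (Fin.ext e.symm)
          simp [h1, h2, h2', h3]
    · have := r'.isLt
      have hne : ¬ D.nroots + j.val = r'.val := by omega
      simp [monoMat, code_inr, hne]
  · have h2 := vec_eq_of_eqS D (R := ℤ) (h.1.1 s.val s.isLt).1.1
    rw [vec_applyX, vec_applyX, vec_applyX] at h2
    rw [code_inr, h2, vec_single_root D s.isLt, vec_single_root D (hD.refl_lt hi s.isLt)]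
    funext a
    rcases a with j' | r'
    · simp [monoMat]
    · by_cases h1 : (r' : ℕ) = D.reflectRoot i s.val
      · obtain rfl : r' = ⟨_, hD.refl_lt hi s.isLt⟩ := Fin.ext h1
        simp [monoMat, eta]
      · have h3 : r' ≠ ⟨_, hD.refl_lt hi s.isLt⟩ := fun e => h1 (congrArg Fin.val e)
        simp [monoMat, h1, h3]

theorem nR_mul_nR' {R : Type*} [CommRing R] {i : ℕ} (hi : i < D.rank) :
    nR D R i * nR' D R i = 1 ∧ nR' D R i * nR D R i = 1 := by
  have hp := hD.simple_lt hi
  have hq := hD.neg_lt hp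
  have cancel : ∀ {r : ℕ}, r < D.nroots → ∀ (t u : R), t + u = 0 → ∀ A : Matrix D.Idx D.Idx R,
      xR D R r t * (xR D R r u * A) = A := by
    intro r hr t u h A
    rw [← mul_assoc, hD.xR_add hr, h, xR_zero, one_mul]
  constructor
  · simp only [nR, nR', mul_assoc]
    rw [cancel hp _ _ (by ring), cancel hq _ _ (by ring), hD.xR_add hp]
    simp
  · simp only [nR, nR', mul_assoc]
    rw [cancel hp _ _ (by ring), cancel hq _ _ (by ring), hD.xR_add hp]
    simp

theorem intw_nR {R : Type*} [CommRing R] {i : ℕ} (hi : i < D.rank) : Intw D (nR D R i) :=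
  ((hD.intw_xR (hD.simple_lt hi) 1).mul (hD.intw_xR (hD.neg_lt (hD.simple_lt hi)) (-1))).mul
    (hD.intw_xR (hD.simple_lt hi) 1)

/-- an intertwiner carrying `e_r` to `c e_s` carries `x_r(t)` to `x_s(c t)`, in characteristic 0 -/
theorem semiconj_charZero (K : Type*) [Field K] [CharZero K] {r s : ℕ} (hr : r < D.nroots)
    (hs : s < D.nroots) {g : Matrix D.Idx D.Idx K} (hg : Intw D g) {c : K}
    (he : g *ᵥ Pi.single (Sum.inr ⟨r, hr⟩) 1 = c • Pi.single (Sum.inr ⟨s, hs⟩) 1) (t : K) :
    g * xR D K r t = xR D K s (c * t) * g := by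
  have h1 : g * Mc D K 1 r = c • Mc D K 1 s * g := by
    have := hg (Pi.single (Sum.inr ⟨r, hr⟩) 1)
    rwa [he, map_smul, adR_single, adR_single] at this
  have h2 : SemiconjBy g (t • Mc D K 1 r) ((c * t) • Mc D K 1 s) := by
    rw [SemiconjBy, Matrix.mul_smul, h1, mul_comm c t, ← Matrix.smul_mul, smul_smul]
  rw [hD.xR_eq_exp K hr, hD.xR_eq_exp K hs, IsNilpotent.exp_eq_sum (hD.tX_pow K hr t),
    IsNilpotent.exp_eq_sum (hD.tX_pow K hs (c * t)), Finset.mul_sum, Finset.sum_mul]
  refine Finset.sum_congr rfl fun n _ => ?_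
  rw [Matrix.mul_smul, Matrix.smul_mul, (h2.pow_right n).eq]

/-- an integral intertwiner carrying `e_r` to `c e_s` carries `x_r(t)` to `x_s(c t)` -/
theorem semiconj_int {R : Type*} [CommRing R] {r s : ℕ} (hr : r < D.nroots) (hs : s < D.nroots)
    {g : Matrix D.Idx D.Idx ℤ} (hg : Intw D g) {c : ℤ}
    (he : g *ᵥ Pi.single (Sum.inr ⟨r, hr⟩) 1 = c • Pi.single (Sum.inr ⟨s, hs⟩) 1) (t : R) :
    g.map (Int.castRingHom R) * xR D R r t =
      xR D R s ((c : R) * t) * g.map (Int.castRingHom R) := by
  have mm : ∀ {S T : Type} [CommRing S] [CommRing T] (f : S →+* T),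
      (g.map (Int.castRingHom S)).map f = g.map (Int.castRingHom T) := by
    intro S T _ _ f; ext a b; simp
  have h : g.map (Int.castRingHom Poly2) * xR D Poly2 r (MvPolynomial.X 0) =
      xR D Poly2 s ((c : Poly2) * MvPolynomial.X 0) * g.map (Int.castRingHom Poly2) :=
    map_eq_of_frac <| by
      rw [Matrix.map_mul, Matrix.map_mul, xR_map, xR_map, mm, map_mul, map_intCast]
      refine hD.semiconj_charZero Frac2 hr hs (hg.map _) ?_ _
      funext a
      have := congrFun he a
      simp only [Matrix.mulVec_single, MulOpposite.op_one, one_smul, Matrix.col_apply,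
        Pi.smul_apply, smul_eq_mul] at this ⊢
      simp only [Matrix.map_apply, this]
      simp [Pi.single_apply]
  have h2 := congrArg (fun A : Matrix D.Idx D.Idx Poly2 => A.map (eval2 t (0 : R))) h
  have mm' : (g.map (Int.castRingHom Poly2)).map (eval2 t (0 : R)) =
      g.map (Int.castRingHom R) := by ext a b; simp
  simpa only [Matrix.map_mul, xR_map, mm', map_mul, map_intCast, eval2_X0] using h2

theorem nR_conj {R : Type*} [CommRing R] {i s : ℕ} (hi : i < D.rank) (hs : s < D.nroots) (t : R) :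
    nR D R i * xR D R s t = xR D R (D.reflectRoot i s) ((eta D i s : R) * t) * nR D R i := by
  rw [← nR_map D (Int.castRingHom R)]
  refine hD.semiconj_int hs (hD.refl_lt hi hs) (hD.intw_nR hi) ?_ t
  rw [hD.nR_eq_monoMat hi]
  funext a
  rcases a with j | r
  · simp [monoMat]
  · by_cases h : (r : ℕ) = D.reflectRoot i s
    · obtain rfl : r = ⟨_, hD.refl_lt hi hs⟩ := Fin.ext h
      simp [monoMat]
    · have : r ≠ ⟨_, hD.refl_lt hi hs⟩ := fun e => h (congrArg Fin.val e)
      simp [monoMat, h, this]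

end Good

end Cfsg.Agent.ChevCore
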