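/-
The integers `2(r,s)/(r,r)`, their invariance, and transitivity of the reflection words.
-/
import Cfsg.Agent.Lib.ChevCore.Mono
import Cfsg.Prelude.Def_ChevAutomorphisms

set_option autoImplicit false

namespace Cfsg.Agent.ChevCore

open Cfsg.Lie
open Matrix

variable (D : ChevalleyDatum)

/-- a word of fundamental reflections acting on root indices -/
def actW (w : List ℕ) (r : ℕ) : ℕ := w.foldr D.reflectRoot r

/-- the sign of a word of `n`'s on a root vector -/
noncomputable def etaWord : List ℕ → ℕ → ℤ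
  | [], _ => 1
  | i :: w, s => eta D i (actW D w s) * etaWord w s

@[simp] theorem actW_nil (r : ℕ) : actW D [] r = r := rfl

@[simp] theorem actW_cons (i : ℕ) (w : List ℕ) (r : ℕ) :
    actW D (i :: w) r = D.reflectRoot i (actW D w r) := rfl

theorem actW_append (v w : List ℕ) (r : ℕ) : actW D (v ++ w) r = actW D v (actW D w r) :=
  List.foldr_append

theorem pairing_eq (r s : ℕ) :
    D.pairing r s = ∑ k ∈ Finset.range D.rank, (D.coroot.getD r #[]).getD k 0 * D.cartan k s :=
  list_sum_range _ _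

/-- the coroot vector of a root -/
def coVec (r : ℕ) : D.Idx → ℤ :=
  Sum.elim (fun k => (D.coroot.getD r #[]).getD k.val 0) (fun _ => 0)

/-- the pairing of a root with a coordinate -/
noncomputable def wp (r : ℕ) : D.Idx → ℤ := Sum.elim (fun _ => 0) (fun s => D.pairing r s.val)

theorem adL_coVec (r : ℕ) : adL D (coVec D r) = Matrix.diagonal (wp D r) := by
  show ∑ c, coVec D r c • adb D c = _
  rw [Fintype.sum_sum_type]
  simp only [coVec, Sum.elim_inl, Sum.elim_inr, zero_smul, Finset.sum_const_zero, add_zero, adb,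
    Hd]
  ext a b
  rw [Matrix.sum_apply]
  by_cases h : a = b
  · subst h
    rcases a with k | s
    · simp [wa, wp]
    · rw [Matrix.diagonal_apply_eq, wp, Sum.elim_inr, pairing_eq,
        ← Fin.sum_univ_eq_sum_range fun k => (D.coroot.getD r #[]).getD k 0 * D.cartan k s.val]
      simp [wa]
  · simp [h]

variable {D}

theorem Mc_one_int (r : ℕ) : Mc D ℤ 1 r = X D r := Mc_int D 1 r

theorem adR_int (v : D.Idx → ℤ) : adR D ℤ v = adL D v := by
  rw [adR_apply]
  show _ = ∑ c, v c • adb D c
  refine Finset.sum_congr rfl fun c _ => ?_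
  congr 1

namespace Good

variable (hD : Good D)

include hD

theorem actW_lt {w : List ℕ} (hw : ∀ i ∈ w, i < D.rank) {r : ℕ} (hr : r < D.nroots) :
    actW D w r < D.nroots := by
  induction w with
  | nil => exact hr
  | cons i w ih => exact hD.refl_lt (hw i (by simp)) (ih fun j hj => hw j (by simp [hj]))

theorem actW_neg {w : List ℕ} (hw : ∀ i ∈ w, i < D.rank) {r : ℕ} (hr : r < D.nroots) :
    actW D w (D.neg r) = D.neg (actW D w r) := by
  induction w with
  | nil => rfl
  | cons i w ih =>
    rw [actW_cons, actW_cons, ih fun j hj => hw j (by simp [hj]),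
      hD.refl_neg (hw i (by simp)) (hD.actW_lt (fun j hj => hw j (by simp [hj])) hr)]

theorem etaWord_neg {w : List ℕ} (hw : ∀ i ∈ w, i < D.rank) {r : ℕ} (hr : r < D.nroots) :
    etaWord D w (D.neg r) = etaWord D w r := by
  induction w with
  | nil => rfl
  | cons i w ih =>
    have hw' : ∀ j ∈ w, j < D.rank := fun j hj => hw j (by simp [hj])
    simp only [etaWord]
    rw [ih hw', hD.actW_neg hw' hr, hD.eta_neg (hw i (by simp)) (hD.actW_lt hw' hr)]

omit hD in
theorem etaWord_sq (w : List ℕ) (r : ℕ) : etaWord D w r * etaWord D w r = 1 := by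
  induction w with
  | nil => rfl
  | cons i w ih =>
    simp only [etaWord]
    linear_combination (etaWord D w r * etaWord D w r) * eta_mul_self D i (actW D w r) + ih

/-- every root is the image of a fundamental root -/
theorem exists_word {r : ℕ} (hr : r < D.nroots) :
    ∃ w : List ℕ, (∀ i ∈ w, i < D.rank) ∧ ∃ i < D.rank, actW D w (D.simple i) = r := by
  suffices pos : ∀ (n r : ℕ), r < D.nroots → 0 < ht D r → (ht D r).toNat ≤ n →
      ∃ w : List ℕ, (∀ i ∈ w, i < D.rank) ∧ ∃ i < D.rank, actW D w (D.simple i) = r by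
    by_cases hp : 0 < ht D r
    · exact pos _ r hr hp le_rfl
    · have hneg : 0 < ht D (D.neg r) := by
        have := hD.ht_ne_zero hr; rw [hD.ht_neg hr]; omega
      obtain ⟨w, hw, i, hi, h⟩ := pos _ _ (hD.neg_lt hr) hneg le_rfl
      refine ⟨w ++ [i], by simpa [or_imp, forall_and] using ⟨hw, hi⟩, i, hi, ?_⟩
      rw [actW_append, actW_cons, actW_nil, hD.refl_simple hi,
        hD.actW_neg hw (hD.simple_lt hi), h, hD.neg_neg hr]
  intro n
  induction n with
  | zero => intro r _ h1 h2; omega
  | succ n ih =>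
    intro r hr hp hn
    rcases hD.descent hr hp with ⟨i, hi, rfl⟩ | ⟨j, hj, h1, h2⟩
    · exact ⟨[], by simp, i, hi, rfl⟩
    · obtain ⟨w, hw, i, hi, h⟩ := ih _ (hD.refl_lt hj hr) h1 (by omega)
      refine ⟨j :: w, by simpa [or_imp, forall_and] using ⟨hj, hw⟩, i, hi, ?_⟩
      rw [actW_cons, h, hD.refl_refl hj hr]

theorem cartan_refl {i j s : ℕ} (hi : i < D.rank) (hs : s < D.nroots) (hj : j < D.rank) :
    D.cartan j (D.reflectRoot i s) = D.cartan j s - D.cartan i s * D.cartan j (D.simple i) := by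
  rw [hD.cartan_eq (hD.refl_lt hi hs) hj, hD.cartan_eq hs hj,
    Finset.sum_congr rfl fun k hk => by rw [hD.coef_refl hi hs (Finset.mem_range.1 hk), sub_mul],
    Finset.sum_sub_distrib]
  simp [ite_mul, Finset.sum_ite_eq', hi]

theorem pairing_simple {i : ℕ} (hi : i < D.rank) (s : ℕ) :
    D.pairing (D.simple i) s = D.cartan i s := by
  rw [pairing_eq, Finset.sum_eq_single i]
  · rw [hD.coroot_simple hi hi, if_pos rfl, one_mul]
  · intro k hk hne; rw [hD.coroot_simple hi (Finset.mem_range.1 hk), if_neg hne, zero_mul]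
  · intro h; exact absurd (Finset.mem_range.2 hi) h

theorem pairing_self {r : ℕ} (hr : r < D.nroots) : D.pairing r r = 2 := by
  rw [pairing_eq]; exact hD.coroot_pairing hr

theorem X_er_neg {r : ℕ} (hr : r < D.nroots) : X D r *ᵥ er D (D.neg r) = coVec D r := by
  rw [X_er D r (hD.neg_lt hr)]
  rcases col_cases D 1 r (Sum.inr ⟨_, hD.neg_lt hr⟩) with ⟨j, hj, -⟩ | ⟨v, hv, hc⟩
  · cases hj
  obtain rfl : (⟨D.neg r, hD.neg_lt hr⟩ : Fin D.nroots) = v := Sum.inr.inj hv
  rw [code_inr] at hc
  rw [hc, if_neg (hD.neg_ne hr), if_pos rfl, if_pos rfl]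
  funext a
  rcases a with k | s
  · simp only [coVec, Sum.elim_inl, vec, List.filter_map, List.map_map]
    have hf : (List.range D.rank).filter ((fun e : ℕ × ℤ => e.1 == code D (Sum.inl k)) ∘
        fun m => (D.nroots + m, (D.coroot.getD r #[]).getD m 0)) = [k.val] := by
      rw [show ((fun e : ℕ × ℤ => e.1 == code D (Sum.inl k)) ∘
        fun m => (D.nroots + m, (D.coroot.getD r #[]).getD m 0)) = fun m => m == k.val from
          funext fun m => by simp [code_inl]]
      rw [List.filter_beq, List.count_eq_one_of_mem List.nodup_range (List.mem_range.2 k.isLt)]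
      rfl
    rw [hf]; simp
  · simp only [coVec, Sum.elim_inr, vec, List.filter_map, List.map_map]
    rw [List.filter_eq_nil_iff.2 fun m _ => ?_]
    · simp
    · have := s.isLt
      simp [code_inr]; omega

theorem nR_er {i s : ℕ} (hi : i < D.rank) (hs : s < D.nroots) :
    nR D ℤ i *ᵥ er D s = eta D i s • er D (D.reflectRoot i s) := by
  rw [hD.nR_eq_monoMat hi, er_eq D hs, er_eq D (hD.refl_lt hi hs)]
  funext a
  rcases a with j | r
  · simp [monoMat]
  · by_cases h : (r : ℕ) = D.reflectRoot i s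
    · obtain rfl : r = ⟨_, hD.refl_lt hi hs⟩ := Fin.ext h
      simp [monoMat]
    · have : r ≠ ⟨_, hD.refl_lt hi hs⟩ := fun e => h (congrArg Fin.val e)
      simp [monoMat, h, this]

theorem pairing_refl {i r s : ℕ} (hi : i < D.rank) (hr : r < D.nroots) (hs : s < D.nroots) :
    D.pairing (D.reflectRoot i r) (D.reflectRoot i s) = D.pairing r s := by
  have hn := hD.intw_nR (R := ℤ) hi
  have hco : nR D ℤ i *ᵥ coVec D r = coVec D (D.reflectRoot i r) := by
    have h2 : nR D ℤ i * X D r = adL D (nR D ℤ i *ᵥ er D r) * nR D ℤ i := by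
      rw [← adR_int, ← hn, adR_int, adL_er D hr]
    rw [← hD.X_er_neg hr, Matrix.mulVec_mulVec, h2, ← Matrix.mulVec_mulVec, hD.nR_er hi hr,
      hD.nR_er hi (hD.neg_lt hr), map_smul, adL_er D (hD.refl_lt hi hr), hD.refl_neg hi hr,
      Matrix.smul_mulVec, Matrix.mulVec_smul, hD.X_er_neg (hD.refl_lt hi hr), smul_smul,
      hD.eta_neg hi hr, eta_mul_self, one_smul]
  have h := hn (coVec D r)
  rw [hco, adR_int, adR_int, adL_coVec, adL_coVec] at h
  have := congrFun (congrFun h (Sum.inr ⟨_, hD.refl_lt hi hs⟩)) (Sum.inr ⟨s, hs⟩)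
  rw [Matrix.mul_diagonal, Matrix.diagonal_mul, hD.nR_eq_monoMat hi] at this
  simp only [monoMat, Matrix.of_apply, Sum.elim_inr, if_true, wp, Int.cast_id] at this
  rcases eta_eq_one_or D i s with e | e <;> rw [e] at this <;> omega

theorem pairing_word {w : List ℕ} (hw : ∀ i ∈ w, i < D.rank) {r s : ℕ} (hr : r < D.nroots)
    (hs : s < D.nroots) : D.pairing (actW D w r) (actW D w s) = D.pairing r s := by
  induction w with
  | nil => rfl
  | cons i w ih =>
    have hw' : ∀ j ∈ w, j < D.rank := fun j hj => hw j (by simp [hj])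
    rw [actW_cons, actW_cons,
      hD.pairing_refl (hw i (by simp)) (hD.actW_lt hw' hr) (hD.actW_lt hw' hs), ih hw']

end Good

end Cfsg.Agent.ChevCore
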