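/-
Root elements, `n_r(t)` and `h_r(t)` in the general linear group, with their conjugation rules.
-/
import Cfsg.Agent.Lib.ChevCore.Pairing

set_option autoImplicit false

namespace Cfsg.Agent.ChevCore

open Cfsg.Lie
open Matrix

variable (D : ChevalleyDatum) (F : Type*) [Field F]

open Classical in
/-- `x_r(t)` in the general linear group -/
noncomputable def xg (r : ℕ) (t : F) : GL D.Idx F :=
  if h : IsUnit (D.x F r t) then h.unit else 1

/-- `n_r(t)` in the general linear group -/
noncomputable def ng (r : ℕ) (t : F) : GL D.Idx F :=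
  xg D F r t * xg D F (D.neg r) (-t⁻¹) * xg D F r t

/-- `h_r(t)` in the general linear group -/
noncomputable def hg (r : ℕ) (t : F) : GL D.Idx F := ng D F r t * ng D F r (-1)

/-- product of the `n_{p}(1)` along a word -/
noncomputable def nw (w : List ℕ) : GL D.Idx F := (w.map fun i => ng D F (D.simple i) 1).prod

/-- the word as a product in the general linear group -/
noncomputable def wordG (w : List (ℕ × F)) : GL D.Idx F := (w.map fun p => xg D F p.1 p.2).prod

variable {D}

theorem x_out {r : ℕ} (hr : ¬ r < D.nroots) (t : F) : D.x F r t = 1 := by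
  rw [ChevalleyDatum.x, dif_neg hr]

namespace Good

variable {F}
variable (hD : Good D)

include hD

theorem x_mul (r : ℕ) (t u : F) : D.x F r t * D.x F r u = D.x F r (t + u) := by
  by_cases hr : r < D.nroots
  · rw [hD.x_eq F hr, hD.x_eq F hr, hD.x_eq F hr, hD.xR_add hr]
  · rw [x_out F hr, x_out F hr, x_out F hr, one_mul]

theorem x_zero' (r : ℕ) : D.x F r 0 = 1 := by
  by_cases hr : r < D.nroots
  · rw [hD.x_eq F hr, xR_zero]
  · exact x_out F hr 0

theorem isUnit_x (r : ℕ) (t : F) : IsUnit (D.x F r t) :=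
  ⟨⟨D.x F r t, D.x F r (-t), by rw [hD.x_mul, add_neg_cancel, hD.x_zero'],
    by rw [hD.x_mul, neg_add_cancel, hD.x_zero']⟩, rfl⟩

theorem val_xg (r : ℕ) (t : F) : (xg D F r t : Matrix D.Idx D.Idx F) = D.x F r t := by
  rw [xg, dif_pos (hD.isUnit_x r t)]; rfl

theorem xg_add (r : ℕ) (t u : F) : xg D F r (t + u) = xg D F r t * xg D F r u :=
  Units.ext <| by rw [Units.val_mul, hD.val_xg, hD.val_xg, hD.val_xg, hD.x_mul]

theorem xg_zero (r : ℕ) : xg D F r 0 = 1 :=
  Units.ext <| by rw [hD.val_xg, hD.x_zero', Units.val_one]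

theorem xg_inv (r : ℕ) (t : F) : (xg D F r t)⁻¹ = xg D F r (-t) := by
  rw [inv_eq_iff_mul_eq_one, ← hD.xg_add, add_neg_cancel, hD.xg_zero]

theorem x_eq_one_iff {r : ℕ} (hr : r < D.nroots) (t : F) : D.x F r t = 1 ↔ t = 0 := by
  refine ⟨fun h => ?_, fun h => by rw [h, hD.x_zero']⟩
  rw [ChevalleyDatum.x, dif_pos hr] at h
  have := congrFun (congrFun h (Sum.inr ⟨r, hr⟩)) (Sum.inr ⟨D.neg r, hD.neg_lt hr⟩)
  have h1 : (⟨D.neg r, hD.neg_lt hr⟩ : Fin D.nroots) ≠ ⟨r, hr⟩ :=
    fun e => hD.neg_ne hr (congrArg Fin.val e)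
  simp only [ChevalleyDatum.xMat, Matrix.of_apply] at this
  rw [if_neg h1, if_pos (show D.neg r = D.negIdx.getD r 0 from rfl)] at this
  simpa [h1.symm] using this

theorem xg_injective {r : ℕ} (hr : r < D.nroots) : Function.Injective (xg D F r) := by
  intro t u h
  have h2 : xg D F r (t - u) = 1 := by
    rw [sub_eq_add_neg, hD.xg_add, ← hD.xg_inv, h, mul_inv_cancel]
  have := congrArg (fun g : GL D.Idx F => (g : Matrix D.Idx D.Idx F)) h2
  simp only [hD.val_xg, Units.val_one, hD.x_eq_one_iff hr] at this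
  exact sub_eq_zero.1 this

theorem val_wordG (w : List (ℕ × F)) :
    (wordG D F w : Matrix D.Idx D.Idx F) = D.wordMat F w := by
  induction w with
  | nil => simp [wordG, ChevalleyDatum.wordMat]
  | cons p w ih =>
    rw [wordG, List.map_cons, List.prod_cons, Units.val_mul, hD.val_xg, ← wordG, ih]
    simp [ChevalleyDatum.wordMat]

theorem val_ng (r : ℕ) (t : F) : (ng D F r t : Matrix D.Idx D.Idx F) = D.nMat F r t := by
  rw [ChevalleyDatum.nMat, ← hD.val_wordG]
  simp [ng, wordG, ChevalleyDatum.nWord, mul_assoc]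

theorem val_hg (r : ℕ) (t : F) : (hg D F r t : Matrix D.Idx D.Idx F) = D.hMat F r t := by
  rw [ChevalleyDatum.hMat, ← hD.val_wordG]
  simp [hg, ng, wordG, ChevalleyDatum.hWord, ChevalleyDatum.nWord, mul_assoc]

theorem ng_inv (r : ℕ) (t : F) : (ng D F r t)⁻¹ = ng D F r (-t) := by
  simp only [ng, _root_.mul_inv_rev, hD.xg_inv, inv_neg, _root_.neg_neg, mul_assoc]

theorem ng_eq_hg_mul (r : ℕ) (t : F) : ng D F r t = hg D F r t * ng D F r 1 := by
  rw [hg, ← hD.ng_inv, inv_mul_cancel_right]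

theorem val_ng_simple {i : ℕ} (hi : i < D.rank) :
    (ng D F (D.simple i) 1 : Matrix D.Idx D.Idx F) = nR D F i := by
  rw [ng, Units.val_mul, Units.val_mul, hD.val_xg, hD.val_xg, hD.x_eq F (hD.simple_lt hi),
    hD.x_eq F (hD.neg_lt (hD.simple_lt hi)), inv_one]
  rfl

theorem val_ng_simple' {i : ℕ} (hi : i < D.rank) :
    (ng D F (D.simple i) 1 : Matrix D.Idx D.Idx F) = monoMat D F i := by
  rw [hD.val_ng_simple hi, hD.nR_eq_monoMat hi]

theorem ng_conj_x {i s : ℕ} (hi : i < D.rank) (hs : s < D.nroots) (t : F) :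
    ng D F (D.simple i) 1 * xg D F s t * (ng D F (D.simple i) 1)⁻¹ =
      xg D F (D.reflectRoot i s) ((eta D i s : F) * t) := by
  rw [mul_inv_eq_iff_eq_mul]
  refine Units.ext ?_
  rw [Units.val_mul, Units.val_mul, hD.val_xg, hD.val_xg, hD.val_ng_simple hi, hD.x_eq F hs,
    hD.x_eq F (hD.refl_lt hi hs), hD.nR_conj hi hs]

theorem nw_conj_x {w : List ℕ} (hw : ∀ i ∈ w, i < D.rank) {s : ℕ} (hs : s < D.nroots) (t : F) :
    nw D F w * xg D F s t * (nw D F w)⁻¹ = xg D F (actW D w s) ((etaWord D w s : F) * t) := by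
  induction w with
  | nil => simp [nw, etaWord]
  | cons i w ih =>
    have hw' : ∀ j ∈ w, j < D.rank := fun j hj => hw j (by simp [hj])
    rw [show nw D F (i :: w) = ng D F (D.simple i) 1 * nw D F w by simp [nw], actW_cons, etaWord,
      _root_.mul_inv_rev,
      show ng D F (D.simple i) 1 * nw D F w * xg D F s t *
          ((nw D F w)⁻¹ * (ng D F (D.simple i) 1)⁻¹) =
        ng D F (D.simple i) 1 * (nw D F w * xg D F s t * (nw D F w)⁻¹) *
          (ng D F (D.simple i) 1)⁻¹ by group,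
      ih hw', hD.ng_conj_x (hw i (by simp)) (hD.actW_lt hw' hs), Int.cast_mul, mul_assoc]

theorem nw_conj_ng {w : List ℕ} (hw : ∀ i ∈ w, i < D.rank) {s : ℕ} (hs : s < D.nroots) (t : F) :
    nw D F w * ng D F s t * (nw D F w)⁻¹ = ng D F (actW D w s) ((etaWord D w s : F) * t) := by
  have he : ((etaWord D w s : ℤ) : F) * (etaWord D w s : F) = 1 := by
    rw [← Int.cast_mul, Good.etaWord_sq, Int.cast_one]
  rw [← MulAut.conj_apply]
  simp only [ng, map_mul, MulAut.conj_apply]
  rw [hD.nw_conj_x hw hs, hD.nw_conj_x hw (hD.neg_lt hs), hD.actW_neg hw hs,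
    hD.etaWord_neg hw hs, _root_.mul_inv, inv_eq_of_mul_eq_one_left he, mul_neg]

end Good

/-- the multipliers of a character of the root lattice -/
def IsWeight (D : ChevalleyDatum) {R : Type*} [CommRing R] (χ : D.Idx → R) (c : ℕ → R) : Prop :=
  ∀ k r, 1 ≤ k → k ≤ 3 → r < D.nroots → ∀ a b, M D k r a b ≠ 0 → χ a = χ b * c r ^ k

theorem IsWeight.conj {R : Type*} [CommRing R] {χ : D.Idx → R} {c : ℕ → R}
    (h : IsWeight D χ c) {r : ℕ} (hr : r < D.nroots) (t : R) :
    Matrix.diagonal χ * xR D R r t = xR D R r (c r * t) * Matrix.diagonal χ := by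
  have key : ∀ k, 1 ≤ k → k ≤ 3 →
      Matrix.diagonal χ * Mc D R k r = c r ^ k • Mc D R k r * Matrix.diagonal χ := by
    intro k h1 h2
    ext a b
    rw [Matrix.diagonal_mul, Matrix.mul_diagonal, Matrix.smul_apply, smul_eq_mul]
    by_cases hz : M D k r a b = 0
    · simp [Mc, hz]
    · rw [h k r h1 h2 hr a b hz]; ring
  simp only [xR, mul_add, add_mul, Matrix.mul_one, Matrix.one_mul, Matrix.mul_smul,
    key 1 le_rfl (by omega), key 2 (by omega) (by omega), key 3 (by omega) le_rfl, mul_pow,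
    Matrix.smul_mul, smul_smul, pow_one]
  simp only [mul_comm (c r) t, mul_comm (c r ^ 2) (t ^ 2), mul_comm (c r ^ 3) (t ^ 3)]

/-- the powers of a scalar along the coefficient at one fundamental root -/
noncomputable def coefW (D : ChevalleyDatum) {F : Type*} [Field F] (c : F) (j : ℕ) : D.Idx → F :=
  fun a => c ^ wc D j a

namespace Good

variable {F}
variable (hD : Good D)

include hD

theorem isWeight_coefW {F : Type*} [Field F] {c : F} (hc : c ≠ 0) {j : ℕ} (hj : j < D.rank) :
    IsWeight D (coefW D c j) (fun r => c ^ coef D r j) := by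
  intro k r h1 _ hr a b h
  simp only [coefW, hD.M_homog hr h1 h hj, zpow_add₀ hc]
  congr 1
  rw [mul_comm, _root_.zpow_mul, zpow_natCast]

theorem hg_simple_eq_diag {i : ℕ} (hi : i < D.rank) {c : F} (hc : c ≠ 0) :
    (hg D F (D.simple i) c : Matrix D.Idx D.Idx F) =
      Matrix.diagonal (fun a => c ^ wa D i a) := by
  have hp := hD.simple_lt hi
  let d : Matrix D.Idx D.Idx F := Matrix.diagonal (coefW D c i)
  let d' : Matrix D.Idx D.Idx F := Matrix.diagonal (coefW D c⁻¹ i)
  have hd : ∀ a : D.Idx, coefW D c i a * coefW D c⁻¹ i a = 1 := fun a => by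
    rw [coefW, coefW, _root_.inv_zpow, mul_inv_cancel₀ (zpow_ne_zero _ hc)]
  have hdd : d * d' = 1 := by
    rw [Matrix.diagonal_mul_diagonal]
    simp [hd]
  have hx1 : xR D F (D.simple i) c * d = d * xR D F (D.simple i) 1 := by
    rw [(hD.isWeight_coefW hc hi).conj hp, hD.coef_simple hi hi, if_pos rfl, zpow_one, mul_one]
  have hx2 : xR D F (D.neg (D.simple i)) (-c⁻¹) * d = d * xR D F (D.neg (D.simple i)) (-1) := by
    rw [(hD.isWeight_coefW hc hi).conj (hD.neg_lt hp), hD.coef_neg hp hi,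
      hD.coef_simple hi hi, if_pos rfl, _root_.zpow_neg, zpow_one, mul_neg, mul_one]
  have hn : (ng D F (D.simple i) c : Matrix D.Idx D.Idx F) = d * nR D F i * d' := by
    rw [ng, Units.val_mul, Units.val_mul, hD.val_xg, hD.val_xg, hD.x_eq F hp,
      hD.x_eq F (hD.neg_lt hp), nR]
    calc xR D F (D.simple i) c * xR D F (D.neg (D.simple i)) (-c⁻¹) * xR D F (D.simple i) c
        = xR D F (D.simple i) c * xR D F (D.neg (D.simple i)) (-c⁻¹) *
            (xR D F (D.simple i) c * d) * d' := by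
          rw [mul_assoc, mul_assoc, mul_assoc, mul_assoc, hdd, mul_one]
      _ = xR D F (D.simple i) c * (xR D F (D.neg (D.simple i)) (-c⁻¹) * d) *
            xR D F (D.simple i) 1 * d' := by rw [hx1]; simp only [mul_assoc]
      _ = (xR D F (D.simple i) c * d) * xR D F (D.neg (D.simple i)) (-1) *
            xR D F (D.simple i) 1 * d' := by rw [hx2]; simp only [mul_assoc]
      _ = _ := by rw [hx1]; simp only [mul_assoc]
  have hswap : d * nR D F i * d' = Matrix.diagonal (fun a => c ^ wa D i a) * nR D F i := by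
    rw [hD.nR_eq_monoMat hi]
    ext a b
    rw [Matrix.mul_diagonal, Matrix.diagonal_mul, Matrix.diagonal_mul]
    rcases a with a | a <;> rcases b with b | b
    · simp [coefW, wc, wa]
    · simp [monoMat]
    · simp [monoMat]
    · simp only [monoMat, Matrix.of_apply, Sum.elim_inr]
      split_ifs with h
      · simp only [coefW, wc, wa, Sum.elim_inr, h, hD.coef_refl hi b.isLt hi, if_true,
          hD.cartan_refl hi b.isLt hi, hD.cartan_self hi, _root_.inv_zpow']
        rw [mul_right_comm, ← zpow_add₀ hc]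
        congr 2
        ring
      · simp
  have hinv : (((ng D F (D.simple i) (-1) : GL D.Idx F)) : Matrix D.Idx D.Idx F) =
      (((ng D F (D.simple i) 1)⁻¹ : GL D.Idx F) : Matrix D.Idx D.Idx F) := by rw [hD.ng_inv]
  rw [hg, Units.val_mul, hn, hswap, hinv, ← hD.val_ng_simple hi, mul_assoc, Units.mul_inv,
    mul_one]

end Good

end Cfsg.Agent.ChevCore
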