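/-
`h_r(c)` is diagonal, for every root `r`.
-/
import Cfsg.Agent.Lib.ChevCore.Elements

set_option autoImplicit false

namespace Cfsg.Agent.ChevCore

open Cfsg.Lie
open Matrix

variable {D : ChevalleyDatum} {F : Type*} [Field F]

/-- the diagonal of `h_r(c)` -/
noncomputable def hDiag (D : ChevalleyDatum) {F : Type*} [Field F] (r : ℕ) (c : F) : D.Idx → F :=
  fun a => c ^ wp D r a

theorem diagonal_conj_monomial {n R : Type*} [Fintype n] [DecidableEq n] [CommRing R]
    {A : Matrix n n R} {χ χ' : n → R} (h : ∀ a b, A a b ≠ 0 → χ' a = χ b) :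
    A * Matrix.diagonal χ = Matrix.diagonal χ' * A := by
  ext a b
  rw [Matrix.mul_diagonal, Matrix.diagonal_mul]
  by_cases hz : A a b = 0
  · simp [hz]
  · rw [h a b hz, mul_comm]

theorem monoMat_supp {i : ℕ} {a b : D.Idx} (h : monoMat D F i a b ≠ 0) :
    (∃ j k, a = Sum.inl j ∧ b = Sum.inl k) ∨
      ∃ s t : Fin D.nroots, a = Sum.inr t ∧ b = Sum.inr s ∧ t.val = D.reflectRoot i s.val := by
  rcases a with a | a <;> rcases b with b | b
  · exact Or.inl ⟨a, b, rfl, rfl⟩
  · simp [monoMat] at h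
  · simp [monoMat] at h
  · refine Or.inr ⟨b, a, rfl, rfl, ?_⟩
    by_contra he
    simp [monoMat, he] at h

namespace Good

variable (hD : Good D)

include hD

theorem hg_simple_eq_hDiag {i : ℕ} (hi : i < D.rank) {c : F} (hc : c ≠ 0) :
    (hg D F (D.simple i) c : Matrix D.Idx D.Idx F) = Matrix.diagonal (hDiag D (D.simple i) c) := by
  rw [hD.hg_simple_eq_diag hi hc]
  congr 1
  funext a
  rcases a with j | s
  · simp [hDiag, wa, wp]
  · simp [hDiag, wa, wp, hD.pairing_simple hi]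

theorem hg_one_simple {i : ℕ} (hi : i < D.rank) : hg D F (D.simple i) 1 = 1 := by
  refine Units.ext ?_
  rw [hD.hg_simple_eq_diag hi one_ne_zero]
  simp

theorem ng_mul_ng_simple {i : ℕ} (hi : i < D.rank) {a e : F} (ha : a ≠ 0) (he : e ≠ 0) :
    ((ng D F (D.simple i) a * ng D F (D.simple i) (-e) : GL D.Idx F) : Matrix D.Idx D.Idx F) =
      Matrix.diagonal (hDiag D (D.simple i) (a / e)) := by
  rw [← hD.ng_inv (D.simple i) e, hD.ng_eq_hg_mul (D.simple i) a,
    hD.ng_eq_hg_mul (D.simple i) e, _root_.mul_inv_rev, ← mul_assoc, mul_inv_cancel_right]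
  have h1 : ((hg D F (D.simple i) (a / e) * hg D F (D.simple i) e : GL D.Idx F) :
      Matrix D.Idx D.Idx F) = hg D F (D.simple i) a := by
    rw [Units.val_mul, hD.hg_simple_eq_hDiag hi (div_ne_zero ha he),
      hD.hg_simple_eq_hDiag hi he, hD.hg_simple_eq_hDiag hi ha, Matrix.diagonal_mul_diagonal]
    congr 1
    funext x
    simp only [hDiag]
    rw [← _root_.mul_zpow, div_mul_cancel₀ _ he]
  have h2 := Units.ext (u := hg D F (D.simple i) (a / e) * hg D F (D.simple i) e)
    (v := hg D F (D.simple i) a) h1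
  rw [← h2, mul_inv_cancel_right, hD.hg_simple_eq_hDiag hi (div_ne_zero ha he)]

theorem nw_conj_diag {w : List ℕ} (hw : ∀ i ∈ w, i < D.rank) {r : ℕ} (hr : r < D.nroots) (c : F) :
    (nw D F w : Matrix D.Idx D.Idx F) * Matrix.diagonal (hDiag D r c) =
      Matrix.diagonal (hDiag D (actW D w r) c) * (nw D F w : Matrix D.Idx D.Idx F) := by
  induction w with
  | nil => simp [nw]
  | cons i w ih =>
    have hw' : ∀ j ∈ w, j < D.rank := fun j hj => hw j (by simp [hj])
    have hi := hw i (by simp)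
    rw [show nw D F (i :: w) = ng D F (D.simple i) 1 * nw D F w by simp [nw], Units.val_mul,
      mul_assoc, ih hw', ← mul_assoc, hD.val_ng_simple' hi,
      diagonal_conj_monomial (χ' := hDiag D (D.reflectRoot i (actW D w r)) c)
        fun a b hab => ?_, mul_assoc, actW_cons]
    rcases monoMat_supp hab with ⟨j, k, rfl, rfl⟩ | ⟨s, t, rfl, rfl, ht⟩
    · simp [hDiag, wp]
    · simp only [hDiag, wp, Sum.elim_inr, ht, hD.pairing_refl hi (hD.actW_lt hw' hr) s.isLt]

theorem hg_eq_diag {r : ℕ} (hr : r < D.nroots) {c : F} (hc : c ≠ 0) :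
    (hg D F r c : Matrix D.Idx D.Idx F) = Matrix.diagonal (hDiag D r c) := by
  obtain ⟨w, hw, i, hi, rfl⟩ := hD.exists_word hr
  have hp := hD.simple_lt hi
  set e : F := (etaWord D w (D.simple i) : F) with he'
  have he2 : e * e = 1 := by rw [he', ← Int.cast_mul, etaWord_sq, Int.cast_one]
  have he : e ≠ 0 := left_ne_zero_of_mul_eq_one he2
  have h1 : ng D F (actW D w (D.simple i)) c =
      nw D F w * ng D F (D.simple i) (e * c) * (nw D F w)⁻¹ := by
    rw [hD.nw_conj_ng hw hp, ← he', ← mul_assoc, he2, one_mul]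
  have h2 : ng D F (actW D w (D.simple i)) (-1) =
      nw D F w * ng D F (D.simple i) (-e) * (nw D F w)⁻¹ := by
    rw [hD.nw_conj_ng hw hp, ← he', mul_neg, he2]
  rw [hg, h1, h2,
    show nw D F w * ng D F (D.simple i) (e * c) * (nw D F w)⁻¹ *
        (nw D F w * ng D F (D.simple i) (-e) * (nw D F w)⁻¹) =
      nw D F w * (ng D F (D.simple i) (e * c) * ng D F (D.simple i) (-e)) * (nw D F w)⁻¹ by group,
    Units.val_mul, Units.val_mul, hD.ng_mul_ng_simple hi (mul_ne_zero he hc) he,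
    mul_div_cancel_left₀ _ he, hD.nw_conj_diag hw hp, mul_assoc, Units.mul_inv, mul_one]

theorem hg_mul {r : ℕ} (hr : r < D.nroots) {a b : F} (ha : a ≠ 0) (hb : b ≠ 0) :
    hg D F r a * hg D F r b = hg D F r (a * b) := by
  refine Units.ext ?_
  rw [Units.val_mul, hD.hg_eq_diag hr ha, hD.hg_eq_diag hr hb, hD.hg_eq_diag hr (mul_ne_zero ha hb),
    Matrix.diagonal_mul_diagonal]
  congr 1
  funext x
  simp only [hDiag, _root_.mul_zpow]

theorem hMat_eq {r : ℕ} (hr : r < D.nroots) {c : F} (hc : c ≠ 0) :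
    D.hMat F r c = Matrix.diagonal (hDiag D r c) := by
  rw [← hD.val_hg, hD.hg_eq_diag hr hc]

theorem pairing_homog {r k s : ℕ} (hr : r < D.nroots) (hs : s < D.nroots) (hk : 1 ≤ k)
    {a b : D.Idx} (h : M D k s a b ≠ 0) : wp D r a = wp D r b + k * D.pairing r s := by
  have e : ∀ x : D.Idx, wp D r x =
      ∑ j ∈ Finset.range D.rank, (D.coroot.getD r #[]).getD j 0 * wa D j x := by
    rintro (m | u)
    · simp [wp, wa]
    · exact pairing_eq D r u.val
  rw [e, e, pairing_eq, Finset.mul_sum, ← Finset.sum_add_distrib]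
  refine Finset.sum_congr rfl fun j hj => ?_
  rw [hD.M_homog_cartan hs hk (Finset.mem_range.1 hj) h]
  ring

theorem isWeight_hDiag {r : ℕ} (hr : r < D.nroots) {c : F} (hc : c ≠ 0) :
    IsWeight D (hDiag D r c) (fun s => c ^ D.pairing r s) := by
  intro k s h1 _ hs a b h
  simp only [hDiag, hD.pairing_homog hr hs h1 h, zpow_add₀ hc]
  congr 1
  rw [mul_comm, _root_.zpow_mul, zpow_natCast]

theorem hg_conj_x {r s : ℕ} (hr : r < D.nroots) (hs : s < D.nroots) {c : F} (hc : c ≠ 0) (t : F) :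
    hg D F r c * xg D F s t * (hg D F r c)⁻¹ = xg D F s (c ^ D.pairing r s * t) := by
  rw [mul_inv_eq_iff_eq_mul]
  refine Units.ext ?_
  rw [Units.val_mul, Units.val_mul, hD.val_xg, hD.val_xg, hD.x_eq F hs, hD.x_eq F hs,
    hD.hg_eq_diag hr hc, (hD.isWeight_hDiag hr hc).conj hs]

end Good

end Cfsg.Agent.ChevCore
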