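/-
Certificates for the commutator formula.
-/
import Cfsg.Agent.Lib.ChevCore.Link

set_option autoImplicit false

namespace Cfsg.Agent.ChevCore

open Cfsg.Lie

/-- monomials `(index, coefficient, degree in t, degree in u)` -/
abbrev PVec := List (ℕ × ℤ × ℕ × ℕ)

/-- evaluate before use -/
noncomputable def forceP {α : Type} (L : PVec) (k : PVec → α) : α :=
  List.rec (fun k => k [])
    (fun e _ acc k => forceN e.1 fun a => forceZ e.2.1 fun z => forceN e.2.2.1 fun i =>
      forceN e.2.2.2 fun j => acc fun L' => k ((a, z, i, j) :: L')) L k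

theorem forceP_eq {α : Type} (L : PVec) (k : PVec → α) : forceP L k = k L := by
  induction L generalizing k with
  | nil => rfl
  | cons e L ih =>
    show forceN e.1 (fun a => forceZ e.2.1 fun z => forceN e.2.2.1 fun i =>
      forceN e.2.2.2 fun j => forceP L fun L' => k ((a, z, i, j) :: L')) = _
    rw [forceN_eq, forceZ_eq, forceN_eq, forceN_eq, ih]

/-- total coefficient of one monomial at one index -/
noncomputable def monSum (a i j : ℕ) (L : PVec) : ℤ :=
  List.rec 0 (fun e _ acc =>
    bif Nat.beq e.1 a && Nat.beq e.2.2.1 i && Nat.beq e.2.2.2 j then e.2.1 + acc else acc) L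

/-- all coefficients vanish -/
noncomputable def isZeroP (L : PVec) : Bool :=
  forceP L fun L => kall L fun e => zIsZero (monSum e.1 e.2.2.1 e.2.2.2 L)

/-- negate -/
noncomputable def negP (L : PVec) : PVec := kmap (fun e => (e.1, -e.2.1, e.2.2)) L

variable (D : ChevalleyDatum) (A : Acc)

/-- the term of degree `k` of `x_r(z t^a u^b)` applied to a monomial vector -/
noncomputable def symTerm (r : ℕ) (z : ℤ) (a b k : ℕ) (L : PVec) : PVec :=
  kbind (fun e => kmap
    (fun f => (f.1, e.2.1 * z ^ k * f.2, e.2.2.1 + k * a, e.2.2.2 + k * b))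
    (colW D A k r e.1)) L

/-- apply `x_r(z t^a u^b)` -/
noncomputable def symX (r : ℕ) (z : ℤ) (a b : ℕ) (L : PVec) : PVec :=
  forceP L fun L => forceN r fun r => forceZ z fun z => forceN a fun a => forceN b fun b =>
    kapp L (kapp (symTerm D A r z a b 1 L)
      (kapp (symTerm D A r z a b 2 L) (symTerm D A r z a b 3 L)))

/-- apply a word of root elements -/
noncomputable def symWord (w : List (ℕ × ℤ × ℕ × ℕ)) (L : PVec) : PVec :=
  List.rec L (fun e _ acc => symX D A e.1 e.2.1 e.2.2.1 e.2.2.2 acc) w

/-- the terms of the commutator formula, through the accessors -/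
noncomputable def commW (r s : ℕ) : List (ℕ × ℤ × ℕ × ℕ) :=
  let root := fun r s i => ((A.look r s)[i - 1]?).map Prod.fst
  let coefM := fun r s i => (((A.look r s)[i - 1]?).map Prod.snd).getD 0
  let rs := root r s 1
  let cands : List (Option ℕ × ℤ × ℕ × ℕ) :=
    [ (root r s 1, coefM r s 1, 1, 1), (root r s 2, coefM r s 2, 2, 1),
      (root s r 2, coefM s r 2, 1, 2), (root r s 3, coefM r s 3, 3, 1),
      (root s r 3, - coefM s r 3, 1, 3),
      ((root r s 3).bind fun k => root k s 1, (rs.map fun k => coefM k r 2 / 3).getD 0, 3, 2),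
      ((root s r 3).bind fun k => root k r 1,
        (rs.map fun k => -2 * coefM k s 2 / 3).getD 0, 2, 3) ]
  cands.filterMap fun c => c.1.map fun k => (k, c.2)

/-- `(u_i, M_i, i, 1)` along the chain -/
noncomputable def chainTerms (L : SVec) : List (ℕ × ℤ × ℕ × ℕ) :=
  List.rec (fun _ => []) (fun e _ acc i => (e.1, e.2, i, 1) :: acc (i + 1)) L 1

/-- `[e_a, e_b] = 0` is visible in the table -/
noncomputable def commOK (a b : ℕ) : Bool :=
  (A.look a b).isEmpty && !Nat.beq b (A.negf a)

/-- every element of a list commutes with the later ones -/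
noncomputable def pairwiseOK (L : List ℕ) : Bool :=
  List.rec true (fun a rest acc => kall rest (fun b => commOK A a b) && acc) L

/-- an abelian chain -/
noncomputable def plainOK (r s : ℕ) : Bool :=
  pairwiseOK A (s :: kmap Prod.fst (A.look r s)) &&
    kall2 (commW A r s) (chainTerms (A.look r s)) fun a b =>
      Nat.beq a.1 b.1 && zEq a.2.1 b.2.1 && Nat.beq a.2.2.1 b.2.2.1 && Nat.beq a.2.2.2 b.2.2.2

/-- test the formula on the vectors of the generators -/
noncomputable def genOK (r s : ℕ) : Bool :=
  forceN r fun r => forceN s fun s =>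
    kallUpTo D.rank fun i => forceN (D.simple i) fun p =>
      kall [p, A.negf p] fun g => forceN g fun g =>
        forceP (kmap (fun c => (c.1, bif Nat.beq (c.2.2.1 % 2) 0 then c.2.1 else -c.2.1, c.2.2))
          (commW A r s)) fun w =>
          isZeroP (kapp (symX D A s 1 0 1 (symX D A r 1 1 0 [(g, 1, 0, 0)]))
            (negP (symX D A r 1 1 0 (symX D A s 1 0 1 (symWord D A w [(g, 1, 0, 0)])))))

/-- the formula for all pairs `(r, s)` with `lo ≤ r < hi` -/
noncomputable def chkComm (lo hi : ℕ) : Bool :=
  kallUpTo (hi - lo) fun r' => forceN (lo + r') fun r =>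
    kallUpTo D.nroots fun s =>
      Nat.beq s r || Nat.beq s (A.negf r) || plainOK A r s || genOK D A r s

/-- all chains have length at most one and are abelian -/
noncomputable def chkSimplyLaced : Bool :=
  kallUpTo D.nroots fun r => kallUpTo D.nroots fun s =>
    forceS (A.look r s) fun L => L.isEmpty ||
      (Nat.ble L.length 1 && kall L fun e => commOK A s e.1)

end Cfsg.Agent.ChevCore
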