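/-
Packed chain table of type B2 (generated from the chain tables of Cfsg.Prelude).
-/
import Cfsg.Agent.Lib.ChevCore.RootTable
set_option autoImplicit false

namespace Cfsg.Agent.ChevCore

/-- slot width of the packed table of type B2 -/
def widthB2 : ℕ := 32

/-- packed Cartan integers of type B2, one number per fundamental root -/
def cartB2 : Tree ℕ := .node 1 (.leaf 0xa8a6a686) (.leaf 0x897a6978)

/-- packed rows of type B2 -/
def rowsB2 : Tree ℕ := .node 4 (.node 2 (.node 1 (.leaf 0x27000000190000000000000000000000000000000000000000) (.leaf 0x390057000000000000003600090029000000000000000a0000000000000000)) (.node 3 (.leaf 0x47006900000046000000000000000000070019000000000000000600000000) (.leaf 0x59000000000000000000000000000000170000000000000000))) (.node 6 (.node 5 (.leaf 0x690000000000000000000000000000002700000000) (.leaf 0x7a000000000077006700000000000000000000003a00370017)) (.node 7 (.leaf 0x7600000000007900570000004a0000000000490029) (.leaf 0x670000005900000000)))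

end Cfsg.Agent.ChevCore
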