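/-
Packed accessors of type B2.
-/
import Cfsg.Agent.Lib.ChevCore.Link
import Cfsg.Agent.Lib.ChevCore.RowsB2
import Cfsg.Prelude.Def_ChevB2
set_option autoImplicit false

namespace Cfsg.Agent.ChevCore

/-- packed tables of type B2 -/
noncomputable def packedB2 : Packed := ⟨widthB2, rowsB2, cartB2, coB2⟩

end Cfsg.Agent.ChevCore
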