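/-
Packed chain table of type D4 (generated from the chain tables of Cfsg.Prelude).
-/
import Cfsg.Agent.Lib.ChevCore.RootTable
set_option autoImplicit false

namespace Cfsg.Agent.ChevCore

/-- slot width of the packed table of type D4 -/
def widthD4 : ℕ := 16

/-- packed Cartan integers of type D4, one number per fundamental root -/
def cartD4 : Tree ℕ := .node 2 (.node 1 (.leaf 0x89999a777788889999677778) (.leaf 0x978897899a77996778978897)) (.node 3 (.leaf 0x8997789977a8869977899778) (.leaf 0x89797897978a689797897978))

/-- packed rows of type D4 -/
def rowsD4 : Tree ℕ := .node 12 (.node 6 (.node 3 (.node 1 (.leaf 0x970089007900670000004900370027001900000000000000000000000000000000000000000000000000000000) (.node 2 (.leaf 0xe7000000b700a700000067005900000000000000390029000000000009000000000000000000000000000000000000) (.leaf 0xf900c70000000000a70077000000590000000000490000001900000000000700000000000000000000000000000000))) (.node 4 (.leaf 0x10900d70000000000b70087000000000059000000000049000000190000000000070000000000000000000000000000) (.node 5 (.leaf 0x117000000d700c700000097000000000000005900000000003900290000000000000009000000000000000000000000) (.leaf 0x117010700f700e70000000000000000000000000000000000000049003900290019000000000000000000000000)))) (.node 9 (.node 7 (.leaf 0x13901290000000000000000000000b700a7000000890079000000000000000000000000001700070000000000000000)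 (.node 8 (.leaf 0x1470000012900000000000000c70000000000a700990000006900000000000000000000002700000009000000000000) (.leaf 0x1570000000001290000000000d70000000000b700000099000000690000000000000000003700000000000900000000))) (.node 10 (.leaf 0x16900000000000001290000000000d700c7000000000000008900790000000000000000004700000000000000070000) (.node 11 (.leaf 0x149013900000000000000f900e90000000000000000000000000077006700000000000000270017000000000000) (.leaf 0x15900000139000000000109000000e9000000000000000000000087000000670000000000370000001700000000))))) (.node 18 (.node 15 (.node 13 (.leaf 0x16900000149000000000119000000f900000000000000000000009700000077000000000047000000270000) (.node 14 (.leaf 0x16901590000000000000119010900000000000000000000000000970087000000000000004700370000) (.leaf 0x17900000000000001390000000000000000010700f700000000000000b900a90000000000570000000000000017))) (.node 16 (.leaf 0x17700000000014900000000000000000117000000e7000000c90000000000a9000000000057000000000029) (.node 17 (.leaf 0x17700000159000000000000000000000117000000e700d90000000000b9000000000000005700000039) (.leaf 0x1790169000000000000000000000000010700f7000000d900c90000000000000000000000570047)))) (.node 21 (.node 19 (.leaf 0x16701570147013700000000000000000000000000000000000000990089007900690000) (.node 20 (.leaf 0x1770000000000000157014700000000012700000000000000e9000000b900a900000069)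 (.leaf 0x179000000000167000001370000000001270000000000f900c90000000000a90077))) (.node 22 (.leaf 0x179000000000167000001370000000001270000010900d90000000000b90087) (.node 23 (.leaf 0x177000000000157014700000000000001270119000000d900c900000099) (.leaf 0x16701590149013700000119010700f700e90000)))))

end Cfsg.Agent.ChevCore
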