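/-
Packed accessors of type D4.
-/
import Cfsg.Agent.Lib.ChevCore.Link
import Cfsg.Agent.Lib.ChevCore.RowsD4
import Cfsg.Prelude.Def_ChevD4
set_option autoImplicit false

namespace Cfsg.Agent.ChevCore

/-- packed tables of type D4 -/
noncomputable def packedD4 : Packed := ⟨widthD4, rowsD4, cartD4, coD4⟩

end Cfsg.Agent.ChevCore
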