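/-
Packed accessors of type E6.
-/
import Cfsg.Agent.Lib.ChevCore.Link
import Cfsg.Agent.Lib.ChevCore.RowsE6
import Cfsg.Prelude.Def_ChevE6
set_option autoImplicit false

namespace Cfsg.Agent.ChevCore

/-- packed tables of type E6 -/
noncomputable def packedE6 : Packed := ⟨widthE6, rowsE6, cartE6, coE6⟩

end Cfsg.Agent.ChevCore
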