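/-
Kernel evaluation of the commutator certificates of type E6.
-/
import Cfsg.Agent.Lib.ChevCore.CommDefs
import Cfsg.Agent.Lib.ChevCore.PackedE6
set_option autoImplicit false

namespace Cfsg.Agent.ChevCore

open Cfsg.Lie

theorem chkSimplyLacedE6 : chkSimplyLaced chevE6 (fast chevE6 packedE6) = true := by decide +kernel

end Cfsg.Agent.ChevCore
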