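/-
Packed accessors of type E7.
-/
import Cfsg.Agent.Lib.ChevCore.Link
import Cfsg.Agent.Lib.ChevCore.RowsE7
import Cfsg.Prelude.Def_ChevE7
set_option autoImplicit false

namespace Cfsg.Agent.ChevCore

/-- packed tables of type E7 -/
noncomputable def packedE7 : Packed := ⟨widthE7, rowsE7, cartE7, coE7⟩

end Cfsg.Agent.ChevCore
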