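/-
Packed accessors of type E8.
-/
import Cfsg.Agent.Lib.ChevCore.Link
import Cfsg.Agent.Lib.ChevCore.RowsE8
import Cfsg.Prelude.Def_ChevE8
set_option autoImplicit false

namespace Cfsg.Agent.ChevCore

/-- packed tables of type E8 -/
noncomputable def packedE8 : Packed := ⟨widthE8, rowsE8, cartE8, coE8⟩

end Cfsg.Agent.ChevCore
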