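/-
Packed accessors of type F4.
-/
import Cfsg.Agent.Lib.ChevCore.Link
import Cfsg.Agent.Lib.ChevCore.RowsF4
import Cfsg.Prelude.Def_ChevF4
set_option autoImplicit false

namespace Cfsg.Agent.ChevCore

/-- packed tables of type F4 -/
noncomputable def packedF4 : Packed := ⟨widthF4, rowsF4, cartF4, coF4⟩

end Cfsg.Agent.ChevCore
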