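/-
Kernel evaluation of the commutator certificates of type F4.
-/
import Cfsg.Agent.Lib.ChevCore.CommDefs
import Cfsg.Agent.Lib.ChevCore.PackedF4
set_option autoImplicit false

namespace Cfsg.Agent.ChevCore

open Cfsg.Lie

theorem chkCommF4_0 : chkComm chevF4 (fast chevF4 packedF4) 0 12 = true := by decide +kernel

theorem chkCommF4_1 : chkComm chevF4 (fast chevF4 packedF4) 12 24 = true := by decide +kernel

theorem chkCommF4_2 : chkComm chevF4 (fast chevF4 packedF4) 24 36 = true := by decide +kernel

theorem chkCommF4_3 : chkComm chevF4 (fast chevF4 packedF4) 36 48 = true := by decide +kernel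


end Cfsg.Agent.ChevCore
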