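/-
Packed chain table of type G2 (generated from the chain tables of Cfsg.Prelude).
-/
import Cfsg.Agent.Lib.ChevCore.RootTable
set_option autoImplicit false

namespace Cfsg.Agent.ChevCore

/-- slot width of the packed table of type G2 -/
def widthG2 : ℕ := 48

/-- packed Cartan integers of type G2, one number per fundamental root -/
def cartG2 : Tree ℕ := .node 1 (.leaf 0x8b97a5b69758) (.leaf 0x97897a697897)

/-- packed rows of type G2 -/
def rowsG2 : Tree ℕ := .node 6 (.node 3 (.node 1 (.leaf 0x57000000000037000000000029000000000000000000000019000000000000000000000000000000000000000000000000000000000000000000000000) (.node 2 (.leaf 0x67000000000000000000000047000000000000000000000029000000000000000000000009000000000000000000000000000000000000000000000000000000000000) (.leaf 0x17004700870009003900770000000000000000001b004a00000005003600000000000000000000000000000000001b00000000000b000000000000000000000000000000000000))) (.node 4 (.leaf 0x570079009900000000000000000055007a0000000000000000000000550009002700490000000000000000000b0026000000000000000000000005000000000000000000000000) (.node 5 (.leaf 0x69008700990000006b008600000000006500000000000000000000000000170029003900000000000000000015002a000000000015000000000000000000000000) (.leaf 0xa9000000000000000000000000000000000079000000000000000000000000000000000000000000000037000000000000000000000000000000000007000000000000))))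 (.node 9 (.node 7 (.leaf 0xb9000000000000000000000000000000000089000000000000000000000000000000000000000000000047000000000000000000000000000000000017) (.node 8 (.leaf 0xab000000a5009600000000000000a90099008700000000000000000000000000000000005b0000005b003a005700370027000000000000) (.leaf 0xbb000000000000000000bb009a00000000000000b70097007700000000006b000000000000000000650046000000000000006900490027))) (.node 10 (.leaf 0xb50000000000a5000000000000000000000000000000b5008a000000ab007600000000000000b70089004900a900770039) (.node 11 (.leaf 0xb7000000000000000000000097000000000000000000000079000000000000000000000059) (.leaf 0xa7000000000000000000000097000000000089000000000069000000000000))))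

end Cfsg.Agent.ChevCore
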