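/-
Two intertwiners that agree on the generators agree.
-/
import Cfsg.Agent.Lib.ChevCore.Auto

set_option autoImplicit false

namespace Cfsg.Agent.ChevCore

open Cfsg.Lie
open Matrix

variable {D : ChevalleyDatum}

/-- the root vector over a ring -/
def erR (D : ChevalleyDatum) (R : Type*) [CommRing R] (r : ℕ) : D.Idx → R := vec D R [(r, 1)]

theorem erR_eq (R : Type*) [CommRing R] {r : ℕ} (hr : r < D.nroots) :
    erR D R r = Pi.single (Sum.inr ⟨r, hr⟩) 1 := by
  rw [erR, vec_single_root D hr]; simp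

theorem erR_cast (R : Type*) [CommRing R] (r : ℕ) (a : D.Idx) :
    erR D R r a = ((er D r a : ℤ) : R) := vec_map_cast D _ a

theorem adR_erR (R : Type*) [CommRing R] {r : ℕ} (hr : r < D.nroots) :
    adR D R (erR D R r) = Mc D R 1 r := by
  rw [erR_eq R hr, adR_single]; rfl

theorem Mc_erR (R : Type*) [CommRing R] (g a : ℕ) (b : D.Idx) :
    (Mc D R 1 g *ᵥ erR D R a) b = (((X D g *ᵥ er D a) b : ℤ) : R) := by
  simp only [Matrix.mulVec, dotProduct, erR_cast, Int.cast_sum, Int.cast_mul]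
  rfl

namespace Good

variable (hD : Good D)

include hD

theorem eq_of_gen {R : Type*} [CommRing R] [IsDomain R] [CharZero R]
    {g g' : Matrix D.Idx D.Idx R} (hg : Intw D g) (hg' : Intw D g')
    (h : ∀ i < D.rank, g *ᵥ erR D R (D.simple i) = g' *ᵥ erR D R (D.simple i) ∧
      g *ᵥ erR D R (D.neg (D.simple i)) = g' *ᵥ erR D R (D.neg (D.simple i))) : g = g' := by
  have step : ∀ {p a : ℕ}, p < D.nroots → g *ᵥ erR D R p = g' *ᵥ erR D R p →
      g *ᵥ erR D R a = g' *ᵥ erR D R a →
      g *ᵥ (Mc D R 1 p *ᵥ erR D R a) = g' *ᵥ (Mc D R 1 p *ᵥ erR D R a) := by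
    intro p a hp h1 h2
    rw [← adR_erR R hp, Matrix.mulVec_mulVec, Matrix.mulVec_mulVec, hg, hg', h1,
      ← Matrix.mulVec_mulVec, ← Matrix.mulVec_mulVec, h2]
  have gen : ∀ {p : ℕ}, isGen D (std D) p = true → g *ᵥ erR D R p = g' *ᵥ erR D R p := by
    intro p hp
    obtain ⟨i, hi, rfl | rfl⟩ := isGen_iff.1 hp
    exacts [(h i hi).1, (h i hi).2]
  have roots : ∀ (n r : ℕ), r < D.nroots → (ht D r).natAbs ≤ n →
      g *ᵥ erR D R r = g' *ᵥ erR D R r := by
    intro n
    induction n with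
    | zero => intro r hr hn; have := hD.ht_ne_zero hr; omega
    | succ n ih =>
      intro r hr hn
      rcases hD.dec_step hr with hgen | ⟨i, hi, p, hp, a, N, ha, hN, -, hX, h3, -⟩
      · exact gen hgen
      have hpl : p < D.nroots ∧ isGen D (std D) p = true := by
        rcases hp with ⟨-, rfl⟩ | ⟨-, rfl⟩
        · exact ⟨hD.simple_lt hi, isGen_iff.2 ⟨i, hi, Or.inl rfl⟩⟩
        · exact ⟨hD.neg_lt (hD.simple_lt hi), isGen_iff.2 ⟨i, hi, Or.inr rfl⟩⟩
      have he : Mc D R 1 p *ᵥ erR D R a = (N : R) • erR D R r := by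
        funext b
        rw [Mc_erR, hX, Pi.smul_apply, Pi.smul_apply, smul_eq_mul, smul_eq_mul, erR_cast,
          Int.cast_mul]
      have := step hpl.1 (gen hpl.2) (ih a ha (by omega))
      rw [he, Matrix.mulVec_smul, Matrix.mulVec_smul] at this
      funext b
      have hb := congrFun this b
      simp only [Pi.smul_apply, smul_eq_mul] at hb
      exact mul_left_cancel₀ (Int.cast_ne_zero.2 hN) hb
  refine matrix_ext_col D fun c => ?_
  rcases c with i | r
  · have hi := i.isLt
    have he : Mc D R 1 (D.simple i.val) *ᵥ erR D R (D.neg (D.simple i.val)) =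
        Pi.single (Sum.inl i) 1 := by
      funext b
      rw [Mc_erR, (hD.gen_rel hi hi).2.1, if_pos rfl, one_smul, eh_eq D hi]
      simp [Pi.single_apply]
    rw [← he]
    exact step (hD.simple_lt hi) (h _ hi).1 (h _ hi).2
  · rw [← erR_eq R r.isLt]
    exact roots _ _ r.isLt le_rfl

end Good

end Cfsg.Agent.ChevCore
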