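/-
Chevalley's commutator formula.
-/
import Cfsg.Agent.Lib.ChevCore.GenTest
import Cfsg.Agent.Lib.ChevCore.CommDefs

set_option autoImplicit false

namespace Cfsg.Agent.ChevCore

open Cfsg.Lie
open Matrix

variable (D : ChevalleyDatum)

/-- product of root elements over a ring -/
noncomputable def wordR (R : Type*) [CommRing R] (w : List (ℕ × R)) : Matrix D.Idx D.Idx R :=
  (w.map fun p => xR D R p.1 p.2).prod

theorem wordR_cons (R : Type*) [CommRing R] (p : ℕ × R) (w : List (ℕ × R)) :
    wordR D R (p :: w) = xR D R p.1 p.2 * wordR D R w := by simp [wordR]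

theorem wordR_map {R S : Type*} [CommRing R] [CommRing S] (f : R →+* S) (w : List (ℕ × R)) :
    (wordR D R w).map f = wordR D S (w.map fun p => (p.1, f p.2)) := by
  induction w with
  | nil => simp [wordR]
  | cons p w ih => rw [wordR_cons, List.map_cons, wordR_cons, Matrix.map_mul, xR_map, ih]

/-- the right hand side of the commutator formula over a ring -/
noncomputable def commR (R : Type*) [CommRing R] (r s : ℕ) (t u : R) : List (ℕ × R) :=
  (commW (std D) r s).map fun c => (c.1, (c.2.1 : R) * (-t) ^ c.2.2.1 * u ^ c.2.2.2)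

theorem commW_std (r s : ℕ) : commW (std D) r s = D.commTerms r s := rfl

theorem commR_eq (F : Type*) [Field F] (r s : ℕ) (t u : F) :
    commR D F r s t u = D.commWord F r s t u := rfl

theorem commR_map {R S : Type*} [CommRing R] [CommRing S] (f : R →+* S) (r s : ℕ) (t u : R) :
    (commR D R r s t u).map (fun p => (p.1, f p.2)) = commR D S r s (f t) (f u) := by
  simp [commR, List.map_map, Function.comp_def]

/-- evaluation of a monomial vector -/
def evP {R : Type*} [CommRing R] (t u : R) (L : PVec) : D.Idx → R := fun a =>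
  (L.map fun e => if e.1 = code D a then (e.2.1 : R) * t ^ e.2.2.1 * u ^ e.2.2.2 else 0).sum

variable {D}

section symbolic

variable {R : Type*} [CommRing R] (t u : R)

theorem evP_nil : evP D t u [] = 0 := rfl

theorem evP_cons (e : ℕ × ℤ × ℕ × ℕ) (L : PVec) :
    evP D t u (e :: L) = (fun a => if e.1 = code D a then
      (e.2.1 : R) * t ^ e.2.2.1 * u ^ e.2.2.2 else 0) + evP D t u L := by
  funext a; simp [evP]

theorem evP_append (L L' : PVec) : evP D t u (L ++ L') = evP D t u L + evP D t u L' := by
  funext a; simp [evP, List.sum_append]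

theorem evP_kapp (L L' : PVec) : evP D t u (kapp L L') = evP D t u L + evP D t u L' := by
  rw [kapp_eq, evP_append]

theorem evP_negP (L : PVec) : evP D t u (negP L) = -evP D t u L := by
  induction L with
  | nil => simp [negP, kmap, evP_nil]
  | cons e L ih =>
    rw [show negP (e :: L) = (e.1, -e.2.1, e.2.2) :: negP L from rfl, evP_cons, evP_cons, ih,
      neg_add]
    congr 1
    funext a
    by_cases h : e.1 = code D a <;> simp [h]

theorem evP_zero_of_monSum : ∀ (n : ℕ) (L : PVec), L.length ≤ n →
    (∀ e ∈ L, monSum e.1 e.2.2.1 e.2.2.2 L = 0) → evP D t u L = 0 := by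
  have monSum_eq : ∀ (a i j : ℕ) (L : PVec), monSum a i j L =
      ((L.filter fun e => e.1 = a ∧ e.2.2 = (i, j)).map fun e => e.2.1).sum := by
    intro a i j L
    induction L with
    | nil => rfl
    | cons e L ih =>
      show cond _ (e.2.1 + monSum a i j L) (monSum a i j L) = _
      rw [ih]
      by_cases h : e.1 = a ∧ e.2.2 = (i, j)
      · rw [show (Nat.beq e.1 a && Nat.beq e.2.2.1 i && Nat.beq e.2.2.2 j) = true by
          simp [h.1, h.2], cond_true, List.filter_cons_of_pos (by simpa using h)]
        simp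
      · rw [show (Nat.beq e.1 a && Nat.beq e.2.2.1 i && Nat.beq e.2.2.2 j) = false from
          Bool.eq_false_iff.2 fun hb => h (by
            simp only [Bool.and_eq_true] at hb
            exact ⟨Nat.eq_of_beq_eq_true hb.1.1, Prod.ext (Nat.eq_of_beq_eq_true hb.1.2)
              (Nat.eq_of_beq_eq_true hb.2)⟩), cond_false,
          List.filter_cons_of_neg (by simpa using h)]
  intro n
  induction n with
  | zero => intro L hL _; rw [show L = [] from List.eq_nil_of_length_eq_zero (by omega)]; rfl
  | succ n ih =>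
    intro L hL h
    rcases L with _ | ⟨e, L⟩
    · rfl
    let p : ℕ × ℤ × ℕ × ℕ → Bool := fun f => f.1 = e.1 ∧ f.2.2 = e.2.2
    have hperm : evP D t u (e :: L) =
        evP D t u ((e :: L).filter p) + evP D t u ((e :: L).filter fun f => !p f) := by
      rw [← evP_append]
      funext a
      exact ((List.filter_append_perm p (e :: L)).map _).sum_eq.symm
    have hcls : evP D t u ((e :: L).filter p) = 0 := by
      funext a
      have h0 := h e (by simp)
      rw [monSum_eq] at h0
      show (((e :: L).filter p).map _).sum = 0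
      rw [List.map_congr_left (g := fun f => (f.2.1 : R) *
          (if e.1 = code D a then t ^ e.2.2.1 * u ^ e.2.2.2 else 0)) fun f hf => ?_]
      · rw [List.sum_map_mul_right]
        have : (((e :: L).filter p).map fun f : ℕ × ℤ × ℕ × ℕ => f.2.1).sum = 0 := h0
        have h2 : (((e :: L).filter p).map fun f : ℕ × ℤ × ℕ × ℕ => (f.2.1 : R)).sum =
            (((((e :: L).filter p).map fun f : ℕ × ℤ × ℕ × ℕ => f.2.1).sum : ℤ) : R) := by
          rw [← eq_intCast (Int.castRingHom R), map_list_sum, List.map_map]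
          rfl
        rw [h2, this, Int.cast_zero, zero_mul]
      · obtain ⟨hf1, hf2⟩ : f.1 = e.1 ∧ f.2.2 = e.2.2 := by
          simpa [p] using (List.mem_filter.1 hf).2
        simp [hf1, hf2, mul_ite, mul_assoc]
    have hlen : ((e :: L).filter fun f => !p f).length ≤ n := by
      have : ((e :: L).filter fun f => !p f).length ≤ L.length := by
        rw [List.filter_cons_of_neg (by simp [p])]
        exact List.length_filter_le _ _
      simp only [List.length_cons] at hL
      omega
    rw [hperm, hcls, zero_add, ih _ hlen fun f hf => ?_]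
    have hf0 := h f (List.mem_of_mem_filter hf)
    rw [monSum_eq] at hf0 ⊢
    rw [List.filter_filter]
    refine Eq.trans ?_ hf0
    congr 2
    refine List.filter_congr fun g _ => ?_
    have hfp : ¬ (f.1 = e.1 ∧ f.2.2 = e.2.2) := fun hh => by
      have := (List.mem_filter.1 hf).2
      simp [p, hh.1, hh.2] at this
    refine Bool.eq_iff_iff.2 ?_
    simp only [p, Bool.and_eq_true, decide_eq_true_eq, Bool.not_eq_true', decide_eq_false_iff_not]
    refine ⟨fun hg => hg.1, fun hg => ⟨hg, fun hg' => hfp ⟨hg.1 ▸ hg'.1, ?_⟩⟩⟩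
    rw [← hg'.2]; exact hg.2.symm

theorem evP_eq_of_isZeroP {L L' : PVec} (h : isZeroP (kapp L (negP L')) = true) :
    evP D t u L = evP D t u L' := by
  simp only [isZeroP, forceP_eq, kall_iff, zIsZero_iff] at h
  have := evP_zero_of_monSum (D := D) t u _ _ le_rfl h
  rwa [evP_kapp, evP_negP, ← sub_eq_add_neg, sub_eq_zero] at this

theorem evP_symTerm (r : ℕ) (z : ℤ) (a b k : ℕ) (L : PVec) :
    evP D t u (symTerm D (std D) r z a b k L) =
      ((z : R) * t ^ a * u ^ b) ^ k • (Mc D R k r *ᵥ evP D t u L) := by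
  induction L with
  | nil => simp [symTerm, kbind, evP_nil]
  | cons e L ih =>
    rw [show symTerm D (std D) r z a b k (e :: L) =
      kapp (kmap (fun f => (f.1, e.2.1 * z ^ k * f.2, e.2.2.1 + k * a, e.2.2.2 + k * b))
        (col D k r e.1)) (symTerm D (std D) r z a b k L) from rfl,
      evP_kapp, ih, evP_cons, Matrix.mulVec_add, smul_add]
    congr 1
    have hsing : (fun x => if e.1 = code D x then (e.2.1 : R) * t ^ e.2.2.1 * u ^ e.2.2.2 else 0) =
        (t ^ e.2.2.1 * u ^ e.2.2.2) • vec D R [(e.1, e.2.1)] := by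
      funext x
      simp only [vec_cons, vec_nil, add_zero, Pi.smul_apply, smul_eq_mul]
      split_ifs <;> ring
    rw [hsing, Matrix.mulVec_smul, ← vec_applyC_col,
      show applyC (col D k r) [(e.1, e.2.1)] = kapp (scaleS e.2.1 (col D k r e.1)) [] from rfl,
      vec_kapp, vec_nil, add_zero, vec_scaleS, smul_smul, smul_smul]
    generalize col D k r e.1 = C
    induction C with
    | nil => simp [kmap, evP_nil]
    | cons f C ihC =>
      rcases f with ⟨v, c⟩
      rw [show ∀ g : ℕ × ℤ → ℕ × ℤ × ℕ × ℕ, kmap g ((v, c) :: C) = g (v, c) :: kmap g C from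
        fun g => rfl, evP_cons, ihC, vec_cons, smul_add]
      congr 1
      funext x
      simp only [Pi.smul_apply, smul_eq_mul]
      split_ifs
      · push_cast
        rw [pow_add, pow_add, mul_comm k a, mul_comm k b, pow_mul, pow_mul, mul_pow, mul_pow]
        ring
      · ring

theorem evP_symX (r : ℕ) (z : ℤ) (a b : ℕ) (L : PVec) :
    evP D t u (symX D (std D) r z a b L) =
      xR D R r ((z : R) * t ^ a * u ^ b) *ᵥ evP D t u L := by
  simp only [symX, forceP_eq, forceN_eq, forceZ_eq, evP_kapp, evP_symTerm, xR, Matrix.add_mulVec,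
    Matrix.smul_mulVec, Matrix.one_mulVec, pow_one, add_assoc]

theorem evP_symWord (w : List (ℕ × ℤ × ℕ × ℕ)) (L : PVec) :
    evP D t u (symWord D (std D) w L) =
      wordR D R (w.map fun c => (c.1, (c.2.1 : R) * t ^ c.2.2.1 * u ^ c.2.2.2)) *ᵥ
        evP D t u L := by
  induction w with
  | nil => simp [symWord, wordR]
  | cons e w ih =>
    rw [show symWord D (std D) (e :: w) L =
      symX D (std D) e.1 e.2.1 e.2.2.1 e.2.2.2 (symWord D (std D) w L) from rfl,
      evP_symX, ih, List.map_cons, wordR_cons, Matrix.mulVec_mulVec]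

end symbolic

namespace Good

variable (hD : Good D)

include hD

theorem commW_lt {r s : ℕ} (hr : r < D.nroots) (hs : s < D.nroots) {c : ℕ × ℤ × ℕ × ℕ}
    (hc : c ∈ commW (std D) r s) : c.1 < D.nroots := by
  have key : ∀ {a b i k : ℕ}, a < D.nroots → b < D.nroots →
      ((D.chainEntry a b)[i]?).map Prod.fst = some k → k < D.nroots := by
    intro a b i k ha hb h
    obtain ⟨e, he, rfl⟩ := Option.map_eq_some_iff.1 h
    have hne : D.chainEntry a b ≠ [] := by intro e'; simp [e'] at he
    exact ((hD.chain_facts ha hb hne).2.2.2 i e he).1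
  simp only [commW, std_look, List.mem_filterMap, List.mem_cons, List.not_mem_nil, or_false] at hc
  obtain ⟨x, hx, hxc⟩ := hc
  obtain ⟨k, hk, rfl⟩ := Option.map_eq_some_iff.1 hxc
  rcases hx with rfl | rfl | rfl | rfl | rfl | rfl | rfl
  · exact key hr hs hk
  · exact key hr hs hk
  · exact key hs hr hk
  · exact key hr hs hk
  · exact key hs hr hk
  · obtain ⟨m, hm, hk'⟩ := Option.bind_eq_some_iff.1 hk
    exact key (key hr hs hm) hs hk'
  · obtain ⟨m, hm, hk'⟩ := Option.bind_eq_some_iff.1 hk
    exact key (key hs hr hm) hr hk'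

theorem intw_wordR {R : Type*} [CommRing R] {w : List (ℕ × R)}
    (hw : ∀ p ∈ w, p.1 < D.nroots) : Intw D (wordR D R w) := by
  induction w with
  | nil => exact Intw.one
  | cons p w ih =>
    rw [wordR_cons]
    exact (hD.intw_xR (hw p (by simp)) p.2).mul (ih fun q hq => hw q (by simp [hq]))

theorem comm_gen {R : Type*} [CommRing R] [IsDomain R] [CharZero R] {r s : ℕ}
    (hr : r < D.nroots) (hs : s < D.nroots) (h : genOK D (std D) r s = true) (t u : R) :
    xR D R s u * xR D R r t = xR D R r t * xR D R s u * wordR D R (commR D R r s t u) := by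
  refine hD.eq_of_gen ((hD.intw_xR hs u).mul (hD.intw_xR hr t))
    (((hD.intw_xR hr t).mul (hD.intw_xR hs u)).mul (hD.intw_wordR fun p hp => ?_)) fun i hi => ?_
  · obtain ⟨c, hc, rfl⟩ := List.mem_map.1 hp
    exact hD.commW_lt hr hs hc
  simp only [genOK, forceN_eq, forceP_eq, kallUpTo_iff, kall_iff] at h
  have h2 := h i hi
  simp only [List.mem_cons, List.not_mem_nil, or_false, forall_eq_or_imp, forall_eq,
    std_negf] at h2
  have key : ∀ g : ℕ, isZeroP (kapp (symX D (std D) s 1 0 1 (symX D (std D) r 1 1 0 [(g, 1, 0, 0)]))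
      (negP (symX D (std D) r 1 1 0 (symX D (std D) s 1 0 1 (symWord D (std D)
        (kmap (fun c => (c.1, bif Nat.beq (c.2.2.1 % 2) 0 then c.2.1 else -c.2.1, c.2.2))
          (commW (std D) r s)) [(g, 1, 0, 0)]))))) = true →
      (xR D R s u * xR D R r t) *ᵥ erR D R g =
        (xR D R r t * xR D R s u * wordR D R (commR D R r s t u)) *ᵥ erR D R g := by
    intro g hg
    have h3 := evP_eq_of_isZeroP (D := D) t u hg
    have he : evP D t u [(g, 1, 0, 0)] = erR D R g := by
      funext a; simp [evP, erR, vec_cons]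
    have hw : ((kmap (fun c : ℕ × ℤ × ℕ × ℕ =>
        (c.1, bif Nat.beq (c.2.2.1 % 2) 0 then c.2.1 else -c.2.1, c.2.2))
          (commW (std D) r s)).map fun c => (c.1, (c.2.1 : R) * t ^ c.2.2.1 * u ^ c.2.2.2)) =
        commR D R r s t u := by
      rw [kmap_eq, List.map_map, commR]
      refine List.map_congr_left fun c _ => ?_
      simp only [Function.comp_apply, Prod.mk.injEq, true_and]
      rcases Nat.even_or_odd c.2.2.1 with he | he
      · rw [Nat.even_iff.1 he, he.neg_pow]; simp
      · rw [Nat.odd_iff.1 he, he.neg_pow, nat_beq_false (by omega), cond_false]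
        push_cast
        ring
    simp only [evP_symX, evP_symWord, he, hw, Int.cast_one, one_mul, pow_zero, pow_one, mul_one,
      Matrix.mulVec_mulVec] at h3
    simpa only [mul_assoc] using h3
  exact ⟨key _ h2.1, key _ h2.2⟩

omit hD in
theorem Mc_erR_chain {R : Type*} [CommRing R] {k r s : ℕ} (hk : 1 ≤ k) (hs : s < D.nroots)
    (h1 : s ≠ r) (h2 : s ≠ D.neg r) :
    Mc D R k r *ᵥ erR D R s = vec D R ((D.chainEntry r s)[k - 1]?).toList := by
  rw [erR_eq R hs, Mc_single]
  rcases col_cases D k r (Sum.inr ⟨s, hs⟩) with ⟨j, hj, -⟩ | ⟨v, hv, hc⟩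
  · cases hj
  · obtain rfl : (⟨s, hs⟩ : Fin D.nroots) = v := Sum.inr.inj hv
    rw [hc]
    simp [h1, h2, Nat.one_le_iff_ne_zero.1 hk]

theorem Mc_commute {R : Type*} [CommRing R] {a b : ℕ} (ha : a < D.nroots) (hb : b < D.nroots)
    (h : commOK (std D) a b = true) : Commute (Mc D R 1 a) (Mc D R 1 b) := by
  simp only [commOK, Bool.and_eq_true, List.isEmpty_iff, std_look, std_negf] at h
  have hne : b ≠ D.neg a := by intro e; simp [e] at h
  by_cases hab : b = a
  · rw [hab]
  have h0 : Mc D R 1 a *ᵥ erR D R b = 0 := by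
    rw [Good.Mc_erR_chain le_rfl hb hab hne, h.1]; rfl
  have := hD.jacobiR ha (erR D R b)
  rw [adR_erR R hb, h0, map_zero, sub_eq_zero] at this
  exact this

theorem exp_list_sum (K : Type*) [Field K] [CharZero K] :
    ∀ (L : List (ℕ × K)), (∀ p ∈ L, p.1 < D.nroots) →
      L.Pairwise (fun p q => Commute (Mc D K 1 p.1) (Mc D K 1 q.1)) →
      IsNilpotent (L.map fun p => p.2 • Mc D K 1 p.1).sum ∧
        IsNilpotent.exp (L.map fun p => p.2 • Mc D K 1 p.1).sum = wordR D K L := by
  intro L
  induction L with
  | nil => intro _ _; simp [wordR]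
  | cons p L ih =>
    intro hlt hc
    obtain ⟨hn, he⟩ := ih (fun q hq => hlt q (by simp [hq])) (List.pairwise_cons.1 hc).2
    have hp : IsNilpotent (p.2 • Mc D K 1 p.1) := ⟨4, hD.tX_pow K (hlt p (by simp)) p.2⟩
    have hcomm : Commute (p.2 • Mc D K 1 p.1) (L.map fun q => q.2 • Mc D K 1 q.1).sum := by
      refine Commute.list_sum_right _ _ fun x hx => ?_
      obtain ⟨q, hq, rfl⟩ := List.mem_map.1 hx
      exact (((List.pairwise_cons.1 hc).1 q hq).smul_left _).smul_right _
    rw [List.map_cons, List.sum_cons]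
    refine ⟨hcomm.isNilpotent_add hp hn, ?_⟩
    rw [IsNilpotent.exp_add_of_commute hcomm hp hn, he, wordR_cons,
      hD.xR_eq_exp K (hlt p (by simp))]

theorem comm_plain (K : Type*) [Field K] [CharZero K] {r s : ℕ}
    (hr : r < D.nroots) (hs : s < D.nroots) (h1 : s ≠ r) (h2 : s ≠ D.neg r)
    (h : plainOK (std D) r s = true) (t u : K) :
    xR D K s u * xR D K r t = xR D K r t * xR D K s u * wordR D K (commR D K r s t u) := by
  simp only [plainOK, Bool.and_eq_true, std_look] at h
  obtain ⟨hpair, hterms⟩ := h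
  rw [kall2_eq_iff _ _ _ fun a b => by simp [zEq_iff, Prod.ext_iff, and_assoc]] at hterms
  set L := D.chainEntry r s with hL
  have hlt : ∀ e ∈ L, e.1 < D.nroots := by
    intro e he
    obtain ⟨i, hi, rfl⟩ := List.getElem_of_mem he
    exact ((hD.chain_facts hr hs (List.ne_nil_of_mem (List.getElem_mem hi))).2.2.2 i _
      (List.getElem?_eq_getElem hi)).1
  have hlen : L.length ≤ 3 := by
    by_cases hne : L = []
    · simp [hne]
    · exact (hD.chain_facts hr hs hne).2.2.1
  let terms : List (ℕ × K) :=
    (s, u) :: (chainTerms L).map fun c => (c.1, (c.2.1 : K) * (-t) ^ c.2.2.1 * u ^ c.2.2.2)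
  have hterms' : commR D K r s t u =
      (chainTerms L).map fun c => (c.1, (c.2.1 : K) * (-t) ^ c.2.2.1 * u ^ c.2.2.2) := by
    rw [commR, hterms]
  have hfst : ∀ (M : SVec) (i : ℕ), ((List.rec (fun _ => []) (fun e _ acc i =>
      ((e.1, e.2, i, 1) : ℕ × ℤ × ℕ × ℕ) :: acc (i + 1)) M : ℕ → List (ℕ × ℤ × ℕ × ℕ)) i).map
        Prod.fst = M.map Prod.fst := by
    intro M
    induction M with
    | nil => intro i; rfl
    | cons e M ih => intro i; simp only [List.map_cons, ih (i + 1)]
  have hroots : terms.map Prod.fst = s :: L.map Prod.fst := by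
    show s :: List.map Prod.fst (List.map _ (chainTerms L)) = _
    rw [List.map_map]
    exact congrArg (s :: ·) (hfst L 1)
  have hlt' : ∀ p ∈ terms, p.1 < D.nroots := by
    intro p hp
    have := List.mem_map_of_mem (f := Prod.fst) hp
    rw [hroots] at this
    rcases List.mem_cons.1 this with e | e
    · omega
    · obtain ⟨q, hq, e'⟩ := List.mem_map.1 e
      rw [← e']; exact hlt q hq
  have hpw : terms.Pairwise fun p q => Commute (Mc D K 1 p.1) (Mc D K 1 q.1) := by
    have hgen : ∀ M : List ℕ, pairwiseOK (std D) M = true → (∀ a ∈ M, a < D.nroots) →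
        M.Pairwise fun a b => Commute (Mc D K 1 a) (Mc D K 1 b) := by
      intro M
      induction M with
      | nil => simp
      | cons a M ih =>
        intro hM hlt
        obtain ⟨h1, h2⟩ : kall M (fun b => commOK (std D) a b) = true ∧
            pairwiseOK (std D) M = true := by
          simpa [pairwiseOK] using hM
        rw [kall_iff] at h1
        exact List.pairwise_cons.2 ⟨fun b hb => hD.Mc_commute (hlt a (by simp)) (hlt b (by simp [hb]))
          (h1 b hb), ih h2 fun b hb => hlt b (by simp [hb])⟩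
    have := hgen (s :: L.map Prod.fst) (by rwa [← kmap_eq]) (by
      intro a ha
      rw [← hroots] at ha
      obtain ⟨p, hp, rfl⟩ := List.mem_map.1 ha
      exact hlt' p hp)
    rw [← hroots, List.pairwise_map] at this
    exact this
  obtain ⟨hnil, hexp⟩ := hD.exp_list_sum K terms hlt' hpw
  have hY : xR D K r (-t) * (u • Mc D K 1 s) =
      (terms.map fun p => p.2 • Mc D K 1 p.1).sum * xR D K r (-t) := by
    have hg := hD.intw_xR (R := K) hr (-t) (erR D K s)
    rw [adR_erR K hs] at hg
    rw [Matrix.mul_smul, hg, ← Matrix.smul_mul]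
    congr 1
    have hk : ∀ k, 1 ≤ k → adR D K (Mc D K k r *ᵥ erR D K s) =
        ((L[k - 1]?).map fun e => (e.2 : K) • Mc D K 1 e.1).getD 0 := by
      intro k hk
      rw [Good.Mc_erR_chain hk hs h1 h2, ← hL]
      cases he : L[k - 1]? with
      | none => simp
      | some e =>
        have hel := hlt e (List.mem_of_getElem? he)
        rw [Option.toList_some, show vec D K [e] = (e.2 : K) • erR D K e.1 by
          rw [show [e] = [(e.1, e.2)] from rfl, vec_single_root D hel, erR_eq K hel,
            ← Pi.single_smul]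
          simp, map_smul, adR_erR K hel]
        rfl
    rw [xR, Matrix.add_mulVec, Matrix.add_mulVec, Matrix.add_mulVec, Matrix.one_mulVec,
      Matrix.smul_mulVec, Matrix.smul_mulVec, Matrix.smul_mulVec, map_add, map_add, map_add,
      map_smul, map_smul, map_smul, adR_erR K hs, hk 1 le_rfl, hk 2 (by omega), hk 3 (by omega)]
    rcases hL3 : L with _ | ⟨e1, _ | ⟨e2, _ | ⟨e3, _ | ⟨e4, M⟩⟩⟩⟩
    all_goals simp only [hL3, List.length_cons, List.length_nil] at hlen
    all_goals simp [terms, chainTerms, hL3, smul_smul]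
    all_goals first
      | omega
      | module
  have h3 : xR D K r (-t) * xR D K s u = wordR D K terms * xR D K r (-t) := by
    obtain ⟨m, hm⟩ := hnil
    have hu := hD.tX_pow K hs u
    rw [← hexp, hD.xR_eq_exp K hs,
      IsNilpotent.exp_eq_sum (pow_eq_zero_of_le (le_max_left 4 m) hu),
      IsNilpotent.exp_eq_sum (pow_eq_zero_of_le (le_max_right 4 m) hm), Finset.mul_sum,
      Finset.sum_mul]
    refine Finset.sum_congr rfl fun k _ => ?_
    rw [Matrix.mul_smul, Matrix.smul_mul, ((SemiconjBy.pow_right (show SemiconjBy _ _ _ from hY)) k).eq]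
  calc xR D K s u * xR D K r t
      = xR D K r t * (xR D K r (-t) * xR D K s u) * xR D K r t := by
        rw [← mul_assoc (xR D K r t), hD.xR_add hr, add_neg_cancel, xR_zero, one_mul]
    _ = xR D K r t * wordR D K terms * (xR D K r (-t) * xR D K r t) := by
        rw [h3]; simp only [mul_assoc]
    _ = xR D K r t * xR D K s u * wordR D K (commR D K r s t u) := by
        rw [hD.xR_add hr, neg_add_cancel, xR_zero, mul_one, hterms', mul_assoc]
        rfl

end Good

/-- the certificates of the commutator formula hold -/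
structure CommGood (D : ChevalleyDatum) : Prop extends Good D where
  comm : ∀ r < D.nroots, ∀ s < D.nroots, s ≠ r → s ≠ D.neg r →
    plainOK (std D) r s = true ∨ genOK D (std D) r s = true

theorem commGood_of_chkComm (hD : Good D) {P : Packed} (hl : chkLink D P = true)
    (cuts : List (ℕ × ℕ)) (h : ∀ c ∈ cuts, chkComm D (fast D P) c.1 c.2 = true)
    (hc : kallUpTo D.nroots (fun r => kany cuts fun c => Nat.ble c.1 r && Nat.blt r c.2) = true) :
    CommGood D := by
  rw [(fast_eq_std hl).1] at h
  refine ⟨hD, fun r hr s hs h1 h2 => ?_⟩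
  rw [kallUpTo_iff] at hc
  obtain ⟨c, hcm, hcr⟩ := (kany_iff _ _).1 (hc r hr)
  simp only [Bool.and_eq_true, Nat.ble_eq, Nat.blt_eq] at hcr
  have h' := h c hcm
  simp only [chkComm, kallUpTo_iff, forceN_eq] at h'
  have := h' (r - c.1) (by omega) s hs
  rw [show c.1 + (r - c.1) = r by omega] at this
  simp only [std_negf, nat_beq_false h1, nat_beq_false h2, Bool.false_or, Bool.or_eq_true] at this
  exact this

theorem commGood_of_simplyLaced (hD : Good D) {P : Packed} (hl : chkLink D P = true)
    (h : chkSimplyLaced D (fast D P) = true) : CommGood D := by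
  rw [(fast_eq_std hl).1] at h
  simp only [chkSimplyLaced, kallUpTo_iff, forceS_eq, std_look, Bool.or_eq_true, List.isEmpty_iff,
    Bool.and_eq_true, Nat.ble_eq, kall_iff] at h
  have hlen : ∀ {a b : ℕ}, a < D.nroots → b < D.nroots → (D.chainEntry a b).length ≤ 1 := by
    intro a b ha hb
    rcases h a ha b hb with h' | h'
    · simp [h']
    · exact h'.1
  refine ⟨hD, fun r hr s hs h1 h2 => Or.inl ?_⟩
  have e1 := hlen hr hs
  have e2 := hlen hs hr
  have hne : ∀ (L : SVec), L.length ≤ 1 → ∀ i, 1 ≤ i → L[i]? = none := fun L hL i hi =>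
    List.getElem?_eq_none (by omega)
  simp only [plainOK, Bool.and_eq_true, std_look]
  have hcw : commW (std D) r s = chainTerms (D.chainEntry r s) := by
    simp only [commW, std_look, hne _ e1 1 le_rfl, hne _ e1 2 (by omega), hne _ e2 1 le_rfl,
      hne _ e2 2 (by omega), Option.map_none, Option.bind_none, Option.getD_none]
    rcases he : D.chainEntry r s with _ | ⟨e, _ | ⟨f, L⟩⟩
    · simp [chainTerms]
    · simp [chainTerms]
    · simp [he] at e1
  refine ⟨?_, (kall2_eq_iff _ _ _ fun a b => by simp [zEq_iff, Prod.ext_iff, and_assoc]).2 hcw⟩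
  rcases he : D.chainEntry r s with _ | ⟨e, _ | ⟨f, L⟩⟩
  · simp [pairwiseOK, kmap, kall]
  · rcases h r hr s hs with h' | h'
    · simp [he] at h'
    · simpa [pairwiseOK, kmap, kall] using h'.2 e (by simp [he])
  · simp [he] at e1

namespace CommGood

variable (hD : CommGood D)

include hD

/-- Chevalley's commutator formula over any commutative ring -/
theorem comm_formula {R : Type*} [CommRing R] {r s : ℕ} (hr : r < D.nroots) (hs : s < D.nroots)
    (h1 : s ≠ r) (h2 : s ≠ D.neg r) (t u : R) :
    xR D R s u * xR D R r t = xR D R r t * xR D R s u * wordR D R (commR D R r s t u) := by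
  have h : xR D Poly2 s (MvPolynomial.X 1) * xR D Poly2 r (MvPolynomial.X 0) =
      xR D Poly2 r (MvPolynomial.X 0) * xR D Poly2 s (MvPolynomial.X 1) *
        wordR D Poly2 (commR D Poly2 r s (MvPolynomial.X 0) (MvPolynomial.X 1)) :=
    map_eq_of_frac <| by
      simp only [Matrix.map_mul, xR_map, wordR_map, commR_map]
      rcases hD.comm r hr s hs h1 h2 with h | h
      · exact hD.toGood.comm_plain Frac2 hr hs h1 h2 h _ _
      · exact hD.toGood.comm_gen hr hs h _ _
  have h' := congrArg (fun A : Matrix D.Idx D.Idx Poly2 => A.map (eval2 t u)) h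
  simpa only [Matrix.map_mul, xR_map, wordR_map, commR_map, eval2_X0, eval2_X1] using h'

end CommGood

end Cfsg.Agent.ChevCore
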