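/-
Kernel evaluation of the certificates of type B2 (Dec).
-/
import Cfsg.Agent.Lib.ChevCore.PackedB2
set_option autoImplicit false

namespace Cfsg.Agent.ChevCore

open Cfsg.Lie

theorem chkDecB2_0 : chkDec chevB2 (fast chevB2 packedB2) 0 8 = true := by decide +kernel

end Cfsg.Agent.ChevCore
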