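/-
Kernel evaluation of the certificates of type B2 (Table).
-/
import Cfsg.Agent.Lib.ChevCore.PackedB2
set_option autoImplicit false

namespace Cfsg.Agent.ChevCore

open Cfsg.Lie

theorem chkLinkB2 : chkLink chevB2 packedB2 = true := by decide +kernel

theorem chkBasicB2 : chkBasic chevB2 (fast chevB2 packedB2) = true := by decide +kernel

theorem chkWeightB2 : chkWeight chevB2 (fast chevB2 packedB2) = true := by decide +kernel

theorem chkReflB2 : chkRefl chevB2 (fast chevB2 packedB2) = true := by decide +kernel

theorem chkTopB2 : chkTop chevB2 (fast chevB2 packedB2) = true := by decide +kernel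

end Cfsg.Agent.ChevCore
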