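/-
The tables of type B2 are consistent.
-/
import Cfsg.Agent.Lib.ChevCore.CertB2Table
import Cfsg.Agent.Lib.ChevCore.CertB2Mono
import Cfsg.Agent.Lib.ChevCore.CertB2DivPow
import Cfsg.Agent.Lib.ChevCore.CertB2Dec
set_option autoImplicit false

namespace Cfsg.Agent.ChevCore

open Cfsg.Lie

theorem goodB2 : Good chevB2 := by
  refine good_of_checks packedB2 [(0, 8)] [(0, 8)] chkLinkB2 chkBasicB2 chkWeightB2 chkReflB2
    chkGenB2 chkTopB2 ?_ ?_ (by decide +kernel) (by decide +kernel) ?_
  · simp only [List.forall_mem_cons, List.not_mem_nil, false_imp_iff, implies_true, and_true]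
    exact chkDivPowB2_0
  · simp only [List.forall_mem_cons, List.not_mem_nil, false_imp_iff, implies_true, and_true]
    exact chkDecB2_0
  · intro i hi
    match i, hi with
    | 0, _ => exact chkMonoB2_0
    | 1, _ => exact chkMonoB2_1
    | _ + 2, h => exact absurd h (by simp [chevB2])

end Cfsg.Agent.ChevCore
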