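/-
The tables of type D4 are consistent.
-/
import Cfsg.Agent.Lib.ChevCore.CertD4Table
import Cfsg.Agent.Lib.ChevCore.CertD4Mono
import Cfsg.Agent.Lib.ChevCore.CertD4DivPow
import Cfsg.Agent.Lib.ChevCore.CertD4Dec
set_option autoImplicit false

namespace Cfsg.Agent.ChevCore

open Cfsg.Lie

theorem goodD4 : Good chevD4 := by
  refine good_of_checks packedD4 [(0, 24)] [(0, 20), (20, 24)] chkLinkD4 chkBasicD4 chkWeightD4 chkReflD4
    chkGenD4 chkTopD4 ?_ ?_ (by decide +kernel) (by decide +kernel) ?_
  · simp only [List.forall_mem_cons, List.not_mem_nil, false_imp_iff, implies_true, and_true]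
    exact chkDivPowD4_0
  · simp only [List.forall_mem_cons, List.not_mem_nil, false_imp_iff, implies_true, and_true]
    exact ⟨chkDecD4_0, chkDecD4_1⟩
  · intro i hi
    match i, hi with
    | 0, _ => exact chkMonoD4_0
    | 1, _ => exact chkMonoD4_1
    | 2, _ => exact chkMonoD4_2
    | 3, _ => exact chkMonoD4_3
    | _ + 4, h => exact absurd h (by simp [chevD4])

end Cfsg.Agent.ChevCore
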