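/-
Kernel evaluation of the certificates of type E6 (Mono).
-/
import Cfsg.Agent.Lib.ChevCore.PackedE6
set_option autoImplicit false

namespace Cfsg.Agent.ChevCore

open Cfsg.Lie

theorem chkGenE6 : chkGen chevE6 (fast chevE6 packedE6) = true := by decide +kernel

theorem chkMonoE6_0 : chkMono chevE6 (fast chevE6 packedE6) 0 = true := by decide +kernel

theorem chkMonoE6_1 : chkMono chevE6 (fast chevE6 packedE6) 1 = true := by decide +kernel

theorem chkMonoE6_2 : chkMono chevE6 (fast chevE6 packedE6) 2 = true := by decide +kernel

theorem chkMonoE6_3 : chkMono chevE6 (fast chevE6 packedE6) 3 = true := by decide +kernel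

theorem chkMonoE6_4 : chkMono chevE6 (fast chevE6 packedE6) 4 = true := by decide +kernel

theorem chkMonoE6_5 : chkMono chevE6 (fast chevE6 packedE6) 5 = true := by decide +kernel

end Cfsg.Agent.ChevCore
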