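/-
Kernel evaluation of the certificates of type E6 (Table).
-/
import Cfsg.Agent.Lib.ChevCore.PackedE6
set_option autoImplicit false

namespace Cfsg.Agent.ChevCore

open Cfsg.Lie

theorem chkLinkE6 : chkLink chevE6 packedE6 = true := by decide +kernel

theorem chkBasicE6 : chkBasic chevE6 (fast chevE6 packedE6) = true := by decide +kernel

theorem chkWeightE6 : chkWeight chevE6 (fast chevE6 packedE6) = true := by decide +kernel

theorem chkReflE6 : chkRefl chevE6 (fast chevE6 packedE6) = true := by decide +kernel

theorem chkTopE6 : chkTop chevE6 (fast chevE6 packedE6) = true := by decide +kernel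

end Cfsg.Agent.ChevCore
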