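/-
The tables of type E6 are consistent.
-/
import Cfsg.Agent.Lib.ChevCore.CertE6Table
import Cfsg.Agent.Lib.ChevCore.CertE6Mono
import Cfsg.Agent.Lib.ChevCore.CertE6DivPow
import Cfsg.Agent.Lib.ChevCore.CertE6Dec
set_option autoImplicit false

namespace Cfsg.Agent.ChevCore

open Cfsg.Lie

theorem goodE6 : Good chevE6 := by
  refine good_of_checks packedE6 [(0, 40), (40, 72)] [(0, 20), (20, 40), (40, 60), (60, 72)] chkLinkE6 chkBasicE6 chkWeightE6 chkReflE6
    chkGenE6 chkTopE6 ?_ ?_ (by decide +kernel) (by decide +kernel) ?_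
  · simp only [List.forall_mem_cons, List.not_mem_nil, false_imp_iff, implies_true, and_true]
    exact ⟨chkDivPowE6_0, chkDivPowE6_1⟩
  · simp only [List.forall_mem_cons, List.not_mem_nil, false_imp_iff, implies_true, and_true]
    exact ⟨chkDecE6_0, chkDecE6_1, chkDecE6_2, chkDecE6_3⟩
  · intro i hi
    match i, hi with
    | 0, _ => exact chkMonoE6_0
    | 1, _ => exact chkMonoE6_1
    | 2, _ => exact chkMonoE6_2
    | 3, _ => exact chkMonoE6_3
    | 4, _ => exact chkMonoE6_4
    | 5, _ => exact chkMonoE6_5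
    | _ + 6, h => exact absurd h (by simp [chevE6])

end Cfsg.Agent.ChevCore
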