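/-
Kernel evaluation of the certificates of type E7 (Mono).
-/
import Cfsg.Agent.Lib.ChevCore.PackedE7
set_option autoImplicit false

namespace Cfsg.Agent.ChevCore

open Cfsg.Lie

theorem chkGenE7 : chkGen chevE7 (fast chevE7 packedE7) = true := by decide +kernel

theorem chkMonoE7_0 : chkMono chevE7 (fast chevE7 packedE7) 0 = true := by decide +kernel

theorem chkMonoE7_1 : chkMono chevE7 (fast chevE7 packedE7) 1 = true := by decide +kernel

theorem chkMonoE7_2 : chkMono chevE7 (fast chevE7 packedE7) 2 = true := by decide +kernel

theorem chkMonoE7_3 : chkMono chevE7 (fast chevE7 packedE7) 3 = true := by decide +kernel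

theorem chkMonoE7_4 : chkMono chevE7 (fast chevE7 packedE7) 4 = true := by decide +kernel

theorem chkMonoE7_5 : chkMono chevE7 (fast chevE7 packedE7) 5 = true := by decide +kernel

theorem chkMonoE7_6 : chkMono chevE7 (fast chevE7 packedE7) 6 = true := by decide +kernel

end Cfsg.Agent.ChevCore
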