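/-
Kernel evaluation of the certificates of type E7 (Table).
-/
import Cfsg.Agent.Lib.ChevCore.PackedE7
set_option autoImplicit false

namespace Cfsg.Agent.ChevCore

open Cfsg.Lie

theorem chkLinkE7 : chkLink chevE7 packedE7 = true := by decide +kernel

theorem chkBasicE7 : chkBasic chevE7 (fast chevE7 packedE7) = true := by decide +kernel

theorem chkWeightE7 : chkWeight chevE7 (fast chevE7 packedE7) = true := by decide +kernel

theorem chkReflE7 : chkRefl chevE7 (fast chevE7 packedE7) = true := by decide +kernel

theorem chkTopE7 : chkTop chevE7 (fast chevE7 packedE7) = true := by decide +kernel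

end Cfsg.Agent.ChevCore
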