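/-
The tables of type E7 are consistent.
-/
import Cfsg.Agent.Lib.ChevCore.CertE7Table
import Cfsg.Agent.Lib.ChevCore.CertE7Mono
import Cfsg.Agent.Lib.ChevCore.CertE7DivPow
import Cfsg.Agent.Lib.ChevCore.CertE7Dec
set_option autoImplicit false

namespace Cfsg.Agent.ChevCore

open Cfsg.Lie

theorem goodE7 : Good chevE7 := by
  refine good_of_checks packedE7 [(0, 40), (40, 80), (80, 120), (120, 126)] [(0, 20), (20, 40), (40, 60), (60, 80), (80, 100), (100, 120), (120, 126)] chkLinkE7 chkBasicE7 chkWeightE7 chkReflE7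
    chkGenE7 chkTopE7 ?_ ?_ (by decide +kernel) (by decide +kernel) ?_
  · simp only [List.forall_mem_cons, List.not_mem_nil, false_imp_iff, implies_true, and_true]
    exact ⟨chkDivPowE7_0, chkDivPowE7_1, chkDivPowE7_2, chkDivPowE7_3⟩
  · simp only [List.forall_mem_cons, List.not_mem_nil, false_imp_iff, implies_true, and_true]
    exact ⟨chkDecE7_0, chkDecE7_1, chkDecE7_2, chkDecE7_3, chkDecE7_4, chkDecE7_5, chkDecE7_6⟩
  · intro i hi
    match i, hi with
    | 0, _ => exact chkMonoE7_0
    | 1, _ => exact chkMonoE7_1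
    | 2, _ => exact chkMonoE7_2
    | 3, _ => exact chkMonoE7_3
    | 4, _ => exact chkMonoE7_4
    | 5, _ => exact chkMonoE7_5
    | 6, _ => exact chkMonoE7_6
    | _ + 7, h => exact absurd h (by simp [chevE7])

end Cfsg.Agent.ChevCore
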