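/-
Kernel evaluation of the certificates of type E8 (Dec).
-/
import Cfsg.Agent.Lib.ChevCore.PackedE8
set_option autoImplicit false

namespace Cfsg.Agent.ChevCore

open Cfsg.Lie

theorem chkDecE8_0 : chkDec chevE8 (fast chevE8 packedE8) 0 20 = true := by decide +kernel

theorem chkDecE8_1 : chkDec chevE8 (fast chevE8 packedE8) 20 40 = true := by decide +kernel

theorem chkDecE8_2 : chkDec chevE8 (fast chevE8 packedE8) 40 60 = true := by decide +kernel

theorem chkDecE8_3 : chkDec chevE8 (fast chevE8 packedE8) 60 80 = true := by decide +kernel

theorem chkDecE8_4 : chkDec chevE8 (fast chevE8 packedE8) 80 100 = true := by decide +kernel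

theorem chkDecE8_5 : chkDec chevE8 (fast chevE8 packedE8) 100 120 = true := by decide +kernel

theorem chkDecE8_6 : chkDec chevE8 (fast chevE8 packedE8) 120 140 = true := by decide +kernel

theorem chkDecE8_7 : chkDec chevE8 (fast chevE8 packedE8) 140 160 = true := by decide +kernel

theorem chkDecE8_8 : chkDec chevE8 (fast chevE8 packedE8) 160 180 = true := by decide +kernel

theorem chkDecE8_9 : chkDec chevE8 (fast chevE8 packedE8) 180 200 = true := by decide +kernel

theorem chkDecE8_10 : chkDec chevE8 (fast chevE8 packedE8) 200 220 = true := by decide +kernel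

theorem chkDecE8_11 : chkDec chevE8 (fast chevE8 packedE8) 220 240 = true := by decide +kernel

end Cfsg.Agent.ChevCore
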