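/-
Kernel evaluation of the certificates of type E8 (DivPow).
-/
import Cfsg.Agent.Lib.ChevCore.PackedE8
set_option autoImplicit false

namespace Cfsg.Agent.ChevCore

open Cfsg.Lie

theorem chkDivPowE8_0 : chkDivPow chevE8 (fast chevE8 packedE8) 0 40 = true := by decide +kernel

theorem chkDivPowE8_1 : chkDivPow chevE8 (fast chevE8 packedE8) 40 80 = true := by decide +kernel

theorem chkDivPowE8_2 : chkDivPow chevE8 (fast chevE8 packedE8) 80 120 = true := by decide +kernel

theorem chkDivPowE8_3 : chkDivPow chevE8 (fast chevE8 packedE8) 120 160 = true := by decide +kernel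

theorem chkDivPowE8_4 : chkDivPow chevE8 (fast chevE8 packedE8) 160 200 = true := by decide +kernel

theorem chkDivPowE8_5 : chkDivPow chevE8 (fast chevE8 packedE8) 200 240 = true := by decide +kernel

end Cfsg.Agent.ChevCore
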