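/-
Kernel evaluation of the certificates of type E8 (Mono).
-/
import Cfsg.Agent.Lib.ChevCore.PackedE8
set_option autoImplicit false

namespace Cfsg.Agent.ChevCore

open Cfsg.Lie

theorem chkGenE8 : chkGen chevE8 (fast chevE8 packedE8) = true := by decide +kernel

theorem chkMonoE8_0 : chkMono chevE8 (fast chevE8 packedE8) 0 = true := by decide +kernel

theorem chkMonoE8_1 : chkMono chevE8 (fast chevE8 packedE8) 1 = true := by decide +kernel

theorem chkMonoE8_2 : chkMono chevE8 (fast chevE8 packedE8) 2 = true := by decide +kernel

theorem chkMonoE8_3 : chkMono chevE8 (fast chevE8 packedE8) 3 = true := by decide +kernel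

theorem chkMonoE8_4 : chkMono chevE8 (fast chevE8 packedE8) 4 = true := by decide +kernel

theorem chkMonoE8_5 : chkMono chevE8 (fast chevE8 packedE8) 5 = true := by decide +kernel

theorem chkMonoE8_6 : chkMono chevE8 (fast chevE8 packedE8) 6 = true := by decide +kernel

theorem chkMonoE8_7 : chkMono chevE8 (fast chevE8 packedE8) 7 = true := by decide +kernel

end Cfsg.Agent.ChevCore
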