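/-
Kernel evaluation of the certificates of type E8 (Table).
-/
import Cfsg.Agent.Lib.ChevCore.PackedE8
set_option autoImplicit false

namespace Cfsg.Agent.ChevCore

open Cfsg.Lie

theorem chkLinkE8 : chkLink chevE8 packedE8 = true := by decide +kernel

theorem chkBasicE8 : chkBasic chevE8 (fast chevE8 packedE8) = true := by decide +kernel

theorem chkWeightE8 : chkWeight chevE8 (fast chevE8 packedE8) = true := by decide +kernel

theorem chkReflE8 : chkRefl chevE8 (fast chevE8 packedE8) = true := by decide +kernel

theorem chkTopE8 : chkTop chevE8 (fast chevE8 packedE8) = true := by decide +kernel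

end Cfsg.Agent.ChevCore
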