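/-
The tables of type E8 are consistent.
-/
import Cfsg.Agent.Lib.ChevCore.CertE8Table
import Cfsg.Agent.Lib.ChevCore.CertE8Mono
import Cfsg.Agent.Lib.ChevCore.CertE8DivPow
import Cfsg.Agent.Lib.ChevCore.CertE8Dec
set_option autoImplicit false

namespace Cfsg.Agent.ChevCore

open Cfsg.Lie

theorem goodE8 : Good chevE8 := by
  refine good_of_checks packedE8 [(0, 40), (40, 80), (80, 120), (120, 160), (160, 200), (200, 240)] [(0, 20), (20, 40), (40, 60), (60, 80), (80, 100), (100, 120), (120, 140), (140, 160), (160, 180), (180, 200), (200, 220), (220, 240)] chkLinkE8 chkBasicE8 chkWeightE8 chkReflE8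
    chkGenE8 chkTopE8 ?_ ?_ (by decide +kernel) (by decide +kernel) ?_
  · simp only [List.forall_mem_cons, List.not_mem_nil, false_imp_iff, implies_true, and_true]
    exact ⟨chkDivPowE8_0, chkDivPowE8_1, chkDivPowE8_2, chkDivPowE8_3, chkDivPowE8_4, chkDivPowE8_5⟩
  · simp only [List.forall_mem_cons, List.not_mem_nil, false_imp_iff, implies_true, and_true]
    exact ⟨chkDecE8_0, chkDecE8_1, chkDecE8_2, chkDecE8_3, chkDecE8_4, chkDecE8_5, chkDecE8_6, chkDecE8_7, chkDecE8_8, chkDecE8_9, chkDecE8_10, chkDecE8_11⟩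
  · intro i hi
    match i, hi with
    | 0, _ => exact chkMonoE8_0
    | 1, _ => exact chkMonoE8_1
    | 2, _ => exact chkMonoE8_2
    | 3, _ => exact chkMonoE8_3
    | 4, _ => exact chkMonoE8_4
    | 5, _ => exact chkMonoE8_5
    | 6, _ => exact chkMonoE8_6
    | 7, _ => exact chkMonoE8_7
    | _ + 8, h => exact absurd h (by simp [chevE8])

end Cfsg.Agent.ChevCore
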