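/-
Kernel evaluation of the certificates of type F4 (Dec).
-/
import Cfsg.Agent.Lib.ChevCore.PackedF4
set_option autoImplicit false

namespace Cfsg.Agent.ChevCore

open Cfsg.Lie

theorem chkDecF4_0 : chkDec chevF4 (fast chevF4 packedF4) 0 20 = true := by decide +kernel

theorem chkDecF4_1 : chkDec chevF4 (fast chevF4 packedF4) 20 40 = true := by decide +kernel

theorem chkDecF4_2 : chkDec chevF4 (fast chevF4 packedF4) 40 48 = true := by decide +kernel

end Cfsg.Agent.ChevCore
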