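/-
Kernel evaluation of the certificates of type F4 (Mono).
-/
import Cfsg.Agent.Lib.ChevCore.PackedF4
set_option autoImplicit false

namespace Cfsg.Agent.ChevCore

open Cfsg.Lie

theorem chkGenF4 : chkGen chevF4 (fast chevF4 packedF4) = true := by decide +kernel

theorem chkMonoF4_0 : chkMono chevF4 (fast chevF4 packedF4) 0 = true := by decide +kernel

theorem chkMonoF4_1 : chkMono chevF4 (fast chevF4 packedF4) 1 = true := by decide +kernel

theorem chkMonoF4_2 : chkMono chevF4 (fast chevF4 packedF4) 2 = true := by decide +kernel

theorem chkMonoF4_3 : chkMono chevF4 (fast chevF4 packedF4) 3 = true := by decide +kernel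

end Cfsg.Agent.ChevCore
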