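/-
Kernel evaluation of the certificates of type F4 (Table).
-/
import Cfsg.Agent.Lib.ChevCore.PackedF4
set_option autoImplicit false

namespace Cfsg.Agent.ChevCore

open Cfsg.Lie

theorem chkLinkF4 : chkLink chevF4 packedF4 = true := by decide +kernel

theorem chkBasicF4 : chkBasic chevF4 (fast chevF4 packedF4) = true := by decide +kernel

theorem chkWeightF4 : chkWeight chevF4 (fast chevF4 packedF4) = true := by decide +kernel

theorem chkReflF4 : chkRefl chevF4 (fast chevF4 packedF4) = true := by decide +kernel

theorem chkTopF4 : chkTop chevF4 (fast chevF4 packedF4) = true := by decide +kernel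

end Cfsg.Agent.ChevCore
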