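/-
The tables of type F4 are consistent.
-/
import Cfsg.Agent.Lib.ChevCore.CertF4Table
import Cfsg.Agent.Lib.ChevCore.CertF4Mono
import Cfsg.Agent.Lib.ChevCore.CertF4DivPow
import Cfsg.Agent.Lib.ChevCore.CertF4Dec
set_option autoImplicit false

namespace Cfsg.Agent.ChevCore

open Cfsg.Lie

theorem goodF4 : Good chevF4 := by
  refine good_of_checks packedF4 [(0, 40), (40, 48)] [(0, 20), (20, 40), (40, 48)] chkLinkF4 chkBasicF4 chkWeightF4 chkReflF4
    chkGenF4 chkTopF4 ?_ ?_ (by decide +kernel) (by decide +kernel) ?_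
  · simp only [List.forall_mem_cons, List.not_mem_nil, false_imp_iff, implies_true, and_true]
    exact ⟨chkDivPowF4_0, chkDivPowF4_1⟩
  · simp only [List.forall_mem_cons, List.not_mem_nil, false_imp_iff, implies_true, and_true]
    exact ⟨chkDecF4_0, chkDecF4_1, chkDecF4_2⟩
  · intro i hi
    match i, hi with
    | 0, _ => exact chkMonoF4_0
    | 1, _ => exact chkMonoF4_1
    | 2, _ => exact chkMonoF4_2
    | 3, _ => exact chkMonoF4_3
    | _ + 4, h => exact absurd h (by simp [chevF4])

end Cfsg.Agent.ChevCore
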