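/-
Kernel evaluation of the certificates of type G2 (Table).
-/
import Cfsg.Agent.Lib.ChevCore.PackedG2
set_option autoImplicit false

namespace Cfsg.Agent.ChevCore

open Cfsg.Lie

theorem chkLinkG2 : chkLink chevG2 packedG2 = true := by decide +kernel

theorem chkBasicG2 : chkBasic chevG2 (fast chevG2 packedG2) = true := by decide +kernel

theorem chkWeightG2 : chkWeight chevG2 (fast chevG2 packedG2) = true := by decide +kernel

theorem chkReflG2 : chkRefl chevG2 (fast chevG2 packedG2) = true := by decide +kernel

theorem chkTopG2 : chkTop chevG2 (fast chevG2 packedG2) = true := by decide +kernel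

end Cfsg.Agent.ChevCore
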