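/-
The seven tabulated data are good.
-/
import Cfsg.Agent.Lib.ChevCore.GoodG2
import Cfsg.Agent.Lib.ChevCore.GoodB2
import Cfsg.Agent.Lib.ChevCore.GoodD4
import Cfsg.Agent.Lib.ChevCore.GoodF4
import Cfsg.Agent.Lib.ChevCore.GoodE6
import Cfsg.Agent.Lib.ChevCore.GoodE7
import Cfsg.Agent.Lib.ChevCore.GoodE8
set_option autoImplicit false

namespace Cfsg.Agent.ChevCore

open Cfsg.Lie

/-- each of the seven tabulated data is good -/
theorem good_of_mem {D : ChevalleyDatum}
    (hD : D ∈ [chevG2, chevB2, chevD4, chevF4, chevE6, chevE7, chevE8]) : Good D := by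
  simp only [List.mem_cons, List.not_mem_nil, or_false] at hD
  rcases hD with rfl | rfl | rfl | rfl | rfl | rfl | rfl
  exacts [goodG2, goodB2, goodD4, goodF4, goodE6, goodE7, goodE8]

end Cfsg.Agent.ChevCore
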