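/-
The commutator certificates of the seven data.
-/
import Cfsg.Agent.Lib.ChevCore.GoodAll
import Cfsg.Agent.Lib.ChevCore.Comm
import Cfsg.Agent.Lib.ChevCore.CertCommG2
import Cfsg.Agent.Lib.ChevCore.CertCommB2
import Cfsg.Agent.Lib.ChevCore.CertCommD4
import Cfsg.Agent.Lib.ChevCore.CertCommF4
import Cfsg.Agent.Lib.ChevCore.CertCommE6
import Cfsg.Agent.Lib.ChevCore.CertCommE7
import Cfsg.Agent.Lib.ChevCore.CertCommE8
set_option autoImplicit false

namespace Cfsg.Agent.ChevCore

open Cfsg.Lie

theorem commGoodG2 : CommGood chevG2 := by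
  refine commGood_of_chkComm goodG2 chkLinkG2 [(0, 12)] ?_ (by decide +kernel)
  simp only [List.forall_mem_cons, List.not_mem_nil, false_imp_iff, implies_true, and_true]
  exact chkCommG2_0

theorem commGoodB2 : CommGood chevB2 := by
  refine commGood_of_chkComm goodB2 chkLinkB2 [(0, 8)] ?_ (by decide +kernel)
  simp only [List.forall_mem_cons, List.not_mem_nil, false_imp_iff, implies_true, and_true]
  exact chkCommB2_0

theorem commGoodD4 : CommGood chevD4 :=
  commGood_of_simplyLaced goodD4 chkLinkD4 chkSimplyLacedD4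

theorem commGoodF4 : CommGood chevF4 := by
  refine commGood_of_chkComm goodF4 chkLinkF4 [(0, 12), (12, 24), (24, 36), (36, 48)] ?_ (by decide +kernel)
  simp only [List.forall_mem_cons, List.not_mem_nil, false_imp_iff, implies_true, and_true]
  exact ⟨chkCommF4_0, chkCommF4_1, chkCommF4_2, chkCommF4_3⟩

theorem commGoodE6 : CommGood chevE6 :=
  commGood_of_simplyLaced goodE6 chkLinkE6 chkSimplyLacedE6

theorem commGoodE7 : CommGood chevE7 :=
  commGood_of_simplyLaced goodE7 chkLinkE7 chkSimplyLacedE7

theorem commGoodE8 : CommGood chevE8 :=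
  commGood_of_simplyLaced goodE8 chkLinkE8 chkSimplyLacedE8

/-- each of the seven tabulated data satisfies the commutator certificates -/
theorem commGood_of_mem {D : ChevalleyDatum}
    (hD : D ∈ [chevG2, chevB2, chevD4, chevF4, chevE6, chevE7, chevE8]) : CommGood D := by
  simp only [List.mem_cons, List.not_mem_nil, or_false] at hD
  rcases hD with rfl | rfl | rfl | rfl | rfl | rfl | rfl
  exacts [commGoodG2, commGoodB2, commGoodD4, commGoodF4, commGoodE6, commGoodE7, commGoodE8]

end Cfsg.Agent.ChevCore
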