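/-
The monomial subgroup of a group with root elements: intersections with `U` and `B`, the BN-pair.
-/
import Cfsg.Agent.ChevGroup.Simple
import Cfsg.Prelude.Def_LieExceptional

set_option autoImplicit false

namespace Cfsg.Agent.ChevCore

open Cfsg.Agent.ChevGroup

variable {G : Type*} [Group G] {F : Type*} [Field F] {Φ I : Type*} {S : RootIdx Φ I}

section rel

variable (R : RootRel G F S)

/-- the group generated by `H` and the `n i` -/
def engN : Subgroup G := R.H ⊔ Subgroup.closure (Set.range R.n)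

theorem H_le_engN : R.H ≤ engN R := le_sup_left

theorem n_mem_engN (i : I) : R.n i ∈ engN R :=
  Subgroup.mem_sup_right (Subgroup.subset_closure ⟨i, rfl⟩)

theorem nw_mem_engN (w : List I) : R.nw w ∈ engN R :=
  list_prod_mem fun x hx => by
    obtain ⟨i, -, rfl⟩ := List.mem_map.1 hx
    exact n_mem_engN R i

theorem nw_conj_mem_H (w : List I) {h : G} (hh : h ∈ R.H) : R.nw w * h * (R.nw w)⁻¹ ∈ R.H := by
  induction w with
  | nil => simpa using hh
  | cons i w ih =>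
    rw [R.nw_cons, show R.n i * R.nw w * h * (R.n i * R.nw w)⁻¹ =
      R.n i * (R.nw w * h * (R.nw w)⁻¹) * (R.n i)⁻¹ by group]
    exact R.n_conj_mem_H i ih

theorem nw_inv_eq (w : List I) : ∃ h ∈ R.H, (R.nw w)⁻¹ = h * R.nw w.reverse := by
  induction w with
  | nil => exact ⟨1, one_mem _, by simp⟩
  | cons i w ih =>
    obtain ⟨h, hh, e⟩ := ih
    refine ⟨h * (R.nw w.reverse * (R.n i * R.n i)⁻¹ * (R.nw w.reverse)⁻¹),
      mul_mem hh (nw_conj_mem_H R _ (inv_mem (R.n_sq_mem_H i))), ?_⟩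
    rw [R.nw_cons, List.reverse_cons, R.nw_append, mul_inv_rev, e, R.nw_cons, R.nw_nil, mul_one]
    group

theorem mem_engN {g : G} (hg : g ∈ engN R) : ∃ h ∈ R.H, ∃ w, g = h * R.nw w := by
  rw [engN, ← Subgroup.closure_eq R.H, ← Subgroup.closure_union] at hg
  induction hg using Subgroup.closure_induction with
  | mem g hg =>
    rcases hg with hg | ⟨i, rfl⟩
    · exact ⟨g, hg, [], by simp⟩
    · exact ⟨1, one_mem _, [i], by simp [R.nw_cons]⟩
  | one => exact ⟨1, one_mem _, [], by simp⟩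
  | mul a b _ _ ha hb =>
    obtain ⟨h, hh, w, rfl⟩ := ha
    obtain ⟨h', hh', v, rfl⟩ := hb
    refine ⟨h * (R.nw w * h' * (R.nw w)⁻¹), mul_mem hh (nw_conj_mem_H R w hh'), w ++ v, ?_⟩
    rw [R.nw_append]; group
  | inv a _ ha =>
    obtain ⟨h, hh, w, rfl⟩ := ha
    obtain ⟨k, hk, e⟩ := nw_inv_eq R w
    refine ⟨k * (R.nw w.reverse * h⁻¹ * (R.nw w.reverse)⁻¹),
      mul_mem hk (nw_conj_mem_H R _ (inv_mem hh)), w.reverse, ?_⟩
    rw [mul_inv_rev, e]; group

theorem engN_conj_mem_H {g : G} (hg : g ∈ engN R) {h : G} (hh : h ∈ R.H) :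
    g * h * g⁻¹ ∈ R.H := by
  obtain ⟨k, hk, w, rfl⟩ := mem_engN R hg
  rw [show k * R.nw w * h * (k * R.nw w)⁻¹ = k * (R.nw w * h * (R.nw w)⁻¹) * k⁻¹ by group]
  exact mul_mem (mul_mem hk (nw_conj_mem_H R w hh)) (inv_mem hk)

end rel

section shape

variable {R : RootRel G F S} {ι : Type*} [Fintype ι] [DecidableEq ι] (M : Shape R ι)
variable (hxne : ∀ r t, R.x r t = 1 → t = 0)

include M hxne in
theorem actw_eq_self_of_H {w : List I} (h : R.nw w ∈ R.B) (r : Φ) : S.actw w r = r := by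
  have h1 := (M.tri_of_B h).2 (M.e r)
  exact (M.e_inj (by
    by_contra hne
    exact h1 (M.mono_word w r _ hne))).symm

include M hxne in
theorem B_inter_engN {g : G} (hb : g ∈ R.B) (hn : g ∈ engN R) : g ∈ R.H := by
  obtain ⟨h, hh, w, rfl⟩ := mem_engN R hn
  have hw : R.nw w ∈ R.B := by
    simpa using mul_mem (R.H_le_B (inv_mem hh)) hb
  exact mul_mem hh (M.nw_mem_H hxne fun r => actw_eq_self_of_H M hxne hw r)

include M hxne in
theorem U_inter_engN {g : G} (hu : g ∈ R.U) (hn : g ∈ engN R) : g = 1 :=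
  M.U_inter_H hu (B_inter_engN M hxne (R.U_le_B hu) hn)

include M hxne in
theorem neg_simple_not_mem_B (i : I) {t : F} (ht : t ≠ 0) :
    R.x (S.neg (S.simple i)) t ∉ R.B := by
  intro hb
  refine ht (hxne (S.neg (S.simple i)) t (M.eq_one ?_))
  have h1 := (M.tri_of_B hb).1
  have h2 := M.uni_neg (S.simple i) t (S.simple_pos i)
  ext a b
  rcases eq_or_ne a b with rfl | hab
  · simpa using h2 a a le_rfl
  · rw [Matrix.one_apply_ne hab]
    rcases le_or_gt (M.key a) (M.key b) with h | h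
    · exact h1 a b hab h
    · have h3 := h2 a b (by simp only [neg_le_neg_iff]; exact h.le)
      simpa [hab] using h3

/-- the cell condition -/
theorem n_mul_B_mul (R : RootRel G F S) (i : I) (w : List I) {b : G} (hb : b ∈ R.B) :
    R.n i * b * R.nw w ∈ DoubleCoset.doubleCoset (R.n i * R.nw w) (R.B : Set G) R.B ∪
      DoubleCoset.doubleCoset (R.nw w) (R.B : Set G) R.B := by
  obtain ⟨u, hu, h, hh, t, rfl⟩ := R.B_decomp i hb
  have hc : (R.n i * u * (R.n i)⁻¹) * (R.n i * h * (R.n i)⁻¹) ∈ R.B :=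
    mul_mem (R.U_le_B (R.Ui_le_U i (R.n_conj_Ui i hu))) (R.H_le_B (R.n_conj_mem_H i hh))
  have e : R.n i * (u * h * R.x (S.simple i) t) * R.nw w =
      (R.n i * u * (R.n i)⁻¹) * (R.n i * h * (R.n i)⁻¹) *
        (R.n i * R.x (S.simple i) t * R.nw w) := by group
  rw [e]
  obtain ⟨d, hd⟩ := R.nw_inv_conj_x w (S.simple i) t
  by_cases hpos : S.pos (S.actw w.reverse (S.simple i))
  · refine Or.inl (DoubleCoset.mem_doubleCoset.2 ⟨_, hc, R.x (S.actw w.reverse (S.simple i)) (d * t),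
      R.x_mem_B hpos _, ?_⟩)
    rw [← hd]; group
  by_cases ht : t = 0
  · refine Or.inl (DoubleCoset.mem_doubleCoset.2 ⟨_, hc, 1, one_mem _, ?_⟩)
    rw [ht, R.x_zero]; group
  refine Or.inr ?_
  set p := S.simple i with hp
  set s := R.sgn i p * t with hs
  have hs0 : s ≠ 0 := mul_ne_zero (R.sgn_ne_zero i p) ht
  have e1 : R.n i * R.x p t * (R.n i)⁻¹ = R.x (S.neg p) s := by
    rw [R.n_conj', hp, S.refl_simple]
  have e2 : R.x (S.neg p) s = R.x p s⁻¹ * R.nr p (-s⁻¹) * R.x p s⁻¹ := by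
    simp only [RootRel.nr, nOf, R.x_neg, inv_neg, neg_neg, inv_inv]
    group
  have e3 : R.n i * R.x p s⁻¹ * (R.n i)⁻¹ = R.x (S.neg p) (R.sgn i p * s⁻¹) := by
    rw [R.n_conj', hp, S.refl_simple]
  have hneg : S.pos (S.actw w.reverse (S.neg p)) := by
    rw [S.actw_neg]
    exact (S.pos_or_neg _).resolve_left hpos
  obtain ⟨c, hc'⟩ := R.nw_inv_conj_x w (S.neg p) (R.sgn i p * s⁻¹)
  refine DoubleCoset.mem_doubleCoset.2
    ⟨(R.n i * u * (R.n i)⁻¹) * (R.n i * h * (R.n i)⁻¹) * (R.x p s⁻¹ * R.hr p (-s⁻¹)),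
      mul_mem hc (mul_mem (R.x_mem_B (S.simple_pos i) _)
        (R.H_le_B (R.hr_mem_H (neg_ne_zero.2 (inv_ne_zero hs0))))),
      R.x (S.actw w.reverse (S.neg p)) (c * (R.sgn i p * s⁻¹)) *
        ((R.nw w)⁻¹ * (R.n i * R.n i) * R.nw w),
      mul_mem (R.x_mem_B hneg _) (R.H_le_B (R.nw_inv_conj_mem_H w (R.n_sq_mem_H i))), ?_⟩
  rw [← hc', ← e3, show R.n i * R.x p t * R.nw w =
    R.n i * R.x p t * (R.n i)⁻¹ * R.n i * R.nw w by group, e1, e2, R.nr_eq p (-s⁻¹)]
  have hn : R.nr p 1 = R.n i := rfl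
  rw [hn]
  group

include M hxne in
/-- the BN-pair -/
theorem exists_bnPair (hgen : R.B ⊔ Subgroup.closure (Set.range R.n) = ⊤)
    (hinj : Function.Injective S.simple) :
    ∃ P : Cfsg.BNPair G, P.B = R.B ∧ P.N = engN R ∧ P.S = Set.range R.n := by
  refine ⟨{ B := R.B, N := engN R, S := Set.range R.n
            sup_eq_top := ?_, conj_mem := ?_, subset := ?_, sq_mem := ?_, inj := ?_,
            closure_sup := ?_, mul_mem_union := ?_, conj_ne := ?_ }, rfl, rfl, rfl⟩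
  · exact le_antisymm le_top (hgen ▸ sup_le_sup le_rfl le_sup_right)
  · rintro n hn t ⟨htB, htN⟩
    exact R.H_le_B (engN_conj_mem_H R hn (B_inter_engN M hxne htB htN))
  · rintro _ ⟨i, rfl⟩
    exact n_mem_engN R i
  · rintro _ ⟨i, rfl⟩
    exact R.H_le_B (R.n_sq_mem_H i)
  · rintro _ ⟨i, rfl⟩ _ ⟨j, rfl⟩ h
    have h' : R.nw [i, j] ∈ R.B := by
      have := mul_mem (R.H_le_B (R.n_sq_mem_H i)) h
      simpa [R.nw_cons, mul_assoc] using this
    have h1 := actw_eq_self_of_H M hxne h' (S.simple i)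
    rw [S.actw_cons, S.actw_cons, S.actw_nil] at h1
    have h2 := congrArg (S.refl i) h1
    rw [S.refl_refl, S.refl_simple] at h2
    by_cases hij : S.simple i = S.simple j
    · rw [hinj hij]
    · exact absurd (h2 ▸ S.refl_pos j _ (S.simple_pos i) hij) (S.not_pos_neg _ (S.simple_pos i))
  · refine le_antisymm (sup_le ((Subgroup.closure_le _).2 ?_) inf_le_right)
      (sup_le (le_trans (le_inf R.H_le_B (H_le_engN R)) le_sup_right) le_sup_left)
    rintro _ ⟨i, rfl⟩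
    exact n_mem_engN R i
  · rintro _ ⟨i, rfl⟩ n hn b hb
    obtain ⟨h, hh, w, rfl⟩ := mem_engN R hn
    have hb' : b * h ∈ R.B := mul_mem hb (R.H_le_B hh)
    have key := n_mul_B_mul R i w hb'
    rw [show R.n i * (b * h) * R.nw w = R.n i * b * (h * R.nw w) by group] at key
    rcases key with key | key
    · refine Or.inl ?_
      obtain ⟨x, hx, y, hy, e⟩ := DoubleCoset.mem_doubleCoset.1 key
      refine DoubleCoset.mem_doubleCoset.2 ⟨x * (R.n i * h * (R.n i)⁻¹)⁻¹,
        mul_mem hx (inv_mem (R.H_le_B (R.n_conj_mem_H i hh))), y, hy, ?_⟩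
      rw [e]; group
    · refine Or.inr ?_
      obtain ⟨x, hx, y, hy, e⟩ := DoubleCoset.mem_doubleCoset.1 key
      refine DoubleCoset.mem_doubleCoset.2 ⟨x * h⁻¹, mul_mem hx (inv_mem (R.H_le_B hh)), y, hy, ?_⟩
      rw [e]; group
  · rintro _ ⟨i, rfl⟩ h
    have h1 : R.n i * R.x (S.simple i) 1 * R.n i ∈ R.B := by
      have : R.n i * R.x (S.simple i) 1 * R.n i ∈ (R.B : Set G) := by
        rw [← h]; exact ⟨_, R.x_mem_B (S.simple_pos i) 1, rfl⟩
      exact this
    have h2 : R.n i * R.x (S.simple i) 1 * (R.n i)⁻¹ ∈ R.B := by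
      have := mul_mem h1 (R.H_le_B (inv_mem (R.n_sq_mem_H i)))
      simpa [mul_assoc] using this
    rw [R.n_conj', S.refl_simple] at h2
    exact neg_simple_not_mem_B M hxne i (mul_ne_zero (R.sgn_ne_zero i _) one_ne_zero) h2

/-- `B ∪ B n B` is a subgroup -/
theorem exists_parabolic_one (R : RootRel G F S) (i : I) :
    ∃ P : Subgroup G, (P : Set G) =
      (R.B : Set G) ∪ DoubleCoset.doubleCoset (R.n i) (R.B : Set G) R.B := by
  refine ⟨{ carrier := (R.B : Set G) ∪ DoubleCoset.doubleCoset (R.n i) (R.B : Set G) R.B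
            one_mem' := Or.inl (one_mem _)
            mul_mem' := ?_, inv_mem' := ?_ }, rfl⟩
  · intro x y hx hy
    rcases hx with hx | hx <;> rcases hy with hy | hy
    · exact Or.inl (mul_mem hx hy)
    · obtain ⟨c, hc, d, hd, rfl⟩ := DoubleCoset.mem_doubleCoset.1 hy
      exact Or.inr (DoubleCoset.mem_doubleCoset.2 ⟨x * c, mul_mem hx hc, d, hd, by group⟩)
    · obtain ⟨c, hc, d, hd, rfl⟩ := DoubleCoset.mem_doubleCoset.1 hx
      exact Or.inr (DoubleCoset.mem_doubleCoset.2 ⟨c, hc, d * y, mul_mem hd hy, by group⟩)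
    · obtain ⟨a, ha, b, hb, rfl⟩ := DoubleCoset.mem_doubleCoset.1 hx
      obtain ⟨c, hc, d, hd, rfl⟩ := DoubleCoset.mem_doubleCoset.1 hy
      rcases R.rankOne i (b * c) (mul_mem hb hc) with h | ⟨p, hp, q, hq, h⟩
      · refine Or.inl ?_
        have := mul_mem (mul_mem ha h) hd
        simpa [mul_assoc] using this
      · refine Or.inr (DoubleCoset.mem_doubleCoset.2 ⟨a * p, mul_mem ha hp, q * d, mul_mem hq hd, ?_⟩)
        calc a * R.n i * b * (c * R.n i * d) = a * (R.n i * (b * c) * R.n i) * d := by group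
          _ = _ := by rw [h]; group
  · intro x hx
    rcases hx with hx | hx
    · exact Or.inl (inv_mem hx)
    · obtain ⟨a, ha, b, hb, rfl⟩ := DoubleCoset.mem_doubleCoset.1 hx
      refine Or.inr (DoubleCoset.mem_doubleCoset.2 ⟨b⁻¹ * (R.n i * R.n i)⁻¹,
        mul_mem (inv_mem hb) (R.H_le_B (inv_mem (R.n_sq_mem_H i))), a⁻¹, inv_mem ha, ?_⟩)
      group

end shape

end Cfsg.Agent.ChevCore
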