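/-
The commutator formula in the general linear group, and subgroups generated by sets of roots.
-/
import Cfsg.Agent.Lib.ChevCore.Torus
import Cfsg.Agent.Lib.ChevCore.Comm

set_option autoImplicit false

namespace Cfsg.Agent.ChevCore

open Cfsg.Lie
open Matrix

variable (D : ChevalleyDatum) (F : Type*) [Field F]

/-- the subgroup generated by the root elements of a set of roots -/
noncomputable def XS (S : Set ℕ) : Subgroup (GL D.Idx F) :=
  Subgroup.closure {g | ∃ r t, r < D.nroots ∧ r ∈ S ∧ g = xg D F r t}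

/-- positive roots of height at least `m` -/
def htGe (m : ℤ) : Set ℕ := {r | m ≤ ht D r}

variable {D F}

theorem xg_mem_XS {S : Set ℕ} {r : ℕ} (hr : r < D.nroots) (hS : r ∈ S) (t : F) :
    xg D F r t ∈ XS D F S := Subgroup.subset_closure ⟨r, t, hr, hS, rfl⟩

theorem XS_mono {S T : Set ℕ} (h : S ⊆ T) : XS D F S ≤ XS D F T :=
  Subgroup.closure_mono fun _ ⟨r, t, hr, hS, e⟩ => ⟨r, t, hr, h hS, e⟩

theorem XS_le {S : Set ℕ} {P : Subgroup (GL D.Idx F)}
    (h : ∀ r t, r < D.nroots → r ∈ S → xg D F r t ∈ P) : XS D F S ≤ P :=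
  (Subgroup.closure_le _).2 fun _ ⟨r, t, hr, hS, e⟩ => e ▸ h r t hr hS

namespace Good

variable (hD : Good D)

include hD

theorem closure_matrix_eq (P : ℕ → Prop) (hP : ∀ r, P r → r < D.nroots) :
    Subgroup.closure {g : GL D.Idx F | ∃ (r : ℕ) (t : F), P r ∧
      (g : Matrix D.Idx D.Idx F) = D.x F r t} = XS D F {r | P r} := by
  refine congrArg Subgroup.closure (Set.ext fun g => ⟨?_, ?_⟩)
  · rintro ⟨r, t, hr, e⟩
    exact ⟨r, t, hP r hr, hr, Units.ext (e.trans (hD.val_xg r t).symm)⟩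
  · rintro ⟨r, t, -, hr, rfl⟩
    exact ⟨r, t, hr, hD.val_xg r t⟩

theorem commTerms_coef {r s : ℕ} (hr : r < D.nroots) (hs : s < D.nroots)
    {c : ℕ × ℤ × ℕ × ℕ} (hc : c ∈ commW (std D) r s) :
    c.1 < D.nroots ∧ 1 ≤ c.2.2.1 ∧ 1 ≤ c.2.2.2 ∧ ∀ j < D.rank,
      coef D c.1 j = c.2.2.1 * coef D r j + c.2.2.2 * coef D s j := by
  have key : ∀ {a b i k : ℕ}, a < D.nroots → b < D.nroots →
      ((D.chainEntry a b)[i]?).map Prod.fst = some k →
      k < D.nroots ∧ ∀ j < D.rank, coef D k j = ((i : ℤ) + 1) * coef D a j + coef D b j := by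
    intro a b i k ha hb h
    obtain ⟨e, he, rfl⟩ := Option.map_eq_some_iff.1 h
    have hne : D.chainEntry a b ≠ [] := by intro e'; simp [e'] at he
    exact (hD.chain_facts ha hb hne).2.2.2 i e he
  simp only [commW, std_look, List.mem_filterMap, List.mem_cons, List.not_mem_nil, or_false] at hc
  obtain ⟨x, hx, hxc⟩ := hc
  obtain ⟨k, hk, rfl⟩ := Option.map_eq_some_iff.1 hxc
  rcases hx with rfl | rfl | rfl | rfl | rfl | rfl | rfl
  · obtain ⟨h1, h2⟩ := key hr hs hk
    exact ⟨h1, le_rfl, le_rfl, fun j hj => by rw [h2 j hj]; push_cast; ring⟩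
  · obtain ⟨h1, h2⟩ := key hr hs hk
    exact ⟨h1, by simp, le_rfl, fun j hj => by rw [h2 j hj]; push_cast; ring⟩
  · obtain ⟨h1, h2⟩ := key hs hr hk
    exact ⟨h1, le_rfl, by simp, fun j hj => by rw [h2 j hj]; push_cast; ring⟩
  · obtain ⟨h1, h2⟩ := key hr hs hk
    exact ⟨h1, by simp, le_rfl, fun j hj => by rw [h2 j hj]; push_cast; ring⟩
  · obtain ⟨h1, h2⟩ := key hs hr hk
    exact ⟨h1, le_rfl, by simp, fun j hj => by rw [h2 j hj]; push_cast; ring⟩
  · obtain ⟨m, hm, hk'⟩ := Option.bind_eq_some_iff.1 hk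
    obtain ⟨h1, h2⟩ := key hr hs hm
    obtain ⟨h3, h4⟩ := key h1 hs hk'
    exact ⟨h3, by simp, by simp, fun j hj => by rw [h4 j hj, h2 j hj]; push_cast; ring⟩
  · obtain ⟨m, hm, hk'⟩ := Option.bind_eq_some_iff.1 hk
    obtain ⟨h1, h2⟩ := key hs hr hm
    obtain ⟨h3, h4⟩ := key h1 hr hk'
    exact ⟨h3, by simp, by simp, fun j hj => by rw [h4 j hj, h2 j hj]; push_cast; ring⟩

theorem commTerms_ht {r s : ℕ} (hr : r < D.nroots) (hs : s < D.nroots)
    {c : ℕ × ℤ × ℕ × ℕ} (hc : c ∈ commW (std D) r s) :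
    ht D c.1 = c.2.2.1 * ht D r + c.2.2.2 * ht D s := by
  obtain ⟨h1, -, -, h4⟩ := hD.commTerms_coef hr hs hc
  rw [hD.ht_eq h1, hD.ht_eq hr, hD.ht_eq hs, Finset.mul_sum, Finset.mul_sum,
    ← Finset.sum_add_distrib]
  exact Finset.sum_congr rfl fun j hj => h4 j (Finset.mem_range.1 hj)

end Good

namespace CommGood

variable (hD : CommGood D)

include hD

theorem val_wordG' (w : List (ℕ × F)) (hw : ∀ p ∈ w, p.1 < D.nroots) :
    (wordG D F w : Matrix D.Idx D.Idx F) = wordR D F w := by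
  induction w with
  | nil => simp [wordG, wordR]
  | cons p w ih =>
    rw [wordR_cons, show wordG D F (p :: w) = xg D F p.1 p.2 * wordG D F w by simp [wordG],
      Units.val_mul, hD.toGood.val_xg, hD.toGood.x_eq F (hw p (by simp)),
      ih fun q hq => hw q (by simp [hq])]

/-- Chevalley's commutator formula in the general linear group -/
theorem xg_comm {r s : ℕ} (hr : r < D.nroots) (hs : s < D.nroots) (h1 : s ≠ r)
    (h2 : s ≠ D.neg r) (t u : F) :
    xg D F s u * xg D F r t = xg D F r t * xg D F s u * wordG D F (D.commWord F r s t u) := by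
  have hG := hD.toGood
  refine Units.ext ?_
  rw [Units.val_mul, Units.val_mul, Units.val_mul, hD.val_wordG' _ fun p hp => ?_, hG.val_xg,
    hG.val_xg, hG.x_eq F hr, hG.x_eq F hs, hD.comm_formula hr hs h1 h2, commR_eq]
  obtain ⟨c, hc, rfl⟩ := List.mem_map.1 hp
  exact (hG.commTerms_coef hr hs hc).1

theorem inv_conj_mem_XS {S : Set ℕ} {r s : ℕ} (hr : r < D.nroots) (hs : s < D.nroots)
    (hsS : s ∈ S) (h2 : s ≠ D.neg r)
    (hS : s ≠ r → ∀ c ∈ commW (std D) r s, c.1 ∈ S) (t u : F) :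
    (xg D F r t)⁻¹ * xg D F s u * xg D F r t ∈ XS D F S := by
  have hG := hD.toGood
  by_cases h1 : s = r
  · subst h1
    rw [hG.xg_inv, ← hG.xg_add, ← hG.xg_add]
    exact xg_mem_XS hs hsS _
  · rw [mul_assoc, hD.xg_comm hr hs h1 h2, show (xg D F r t)⁻¹ *
      (xg D F r t * xg D F s u * wordG D F (D.commWord F r s t u)) =
        xg D F s u * wordG D F (D.commWord F r s t u) by group]
    refine mul_mem (xg_mem_XS hs hsS u) (list_prod_mem fun g hg => ?_)
    obtain ⟨p, hp, rfl⟩ := List.mem_map.1 hg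
    obtain ⟨c, hc, rfl⟩ := List.mem_map.1 hp
    exact xg_mem_XS (hG.commTerms_coef hr hs hc).1 (hS h1 c hc) _

/-- a root element normalises `XS S` when its commutators with `S` stay in `S` -/
theorem xg_mem_normalizer {S : Set ℕ} {r : ℕ} (hr : r < D.nroots)
    (hS : ∀ s, s < D.nroots → s ∈ S → s ≠ D.neg r ∧
      (s ≠ r → ∀ c ∈ commW (std D) r s, c.1 ∈ S)) (t : F) :
    xg D F r t ∈ Subgroup.normalizer (XS D F S : Set (GL D.Idx F)) := by
  have hG := hD.toGood
  have key : ∀ t : F, ∀ g ∈ XS D F S, (xg D F r t)⁻¹ * g * xg D F r t ∈ XS D F S := by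
    intro t g hg
    induction hg using Subgroup.closure_induction with
    | mem y hy =>
      obtain ⟨s, u, hs, hsS, rfl⟩ := hy
      exact hD.inv_conj_mem_XS hr hs hsS (hS s hs hsS).1 (hS s hs hsS).2 t u
    | one => simp
    | mul a b _ _ ha hb => simpa [mul_assoc] using mul_mem ha hb
    | inv a _ ha => simpa [mul_assoc] using inv_mem ha
  rw [Subgroup.mem_normalizer_iff'']
  intro g
  refine ⟨key t g, fun hg => ?_⟩
  have h := key (-t) _ hg
  rw [← hG.xg_inv] at h
  have h' : g ∈ XS D F S := by simpa [mul_assoc] using h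
  exact h'

end CommGood

end Cfsg.Agent.ChevCore
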