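/-
Matrices that raise the height, and unique ordered products in the positive unipotent subgroup.
-/
import Cfsg.Agent.Lib.ChevCore.CommGroup

set_option autoImplicit false

namespace Cfsg.Agent.ChevCore

open Cfsg.Lie
open Matrix

variable (D : ChevalleyDatum)

/-- entries vanish unless the height rises by at least `m` -/
def Raises {R : Type*} [CommRing R] (m : ℤ) (A : Matrix D.Idx D.Idx R) : Prop :=
  ∀ a b, wh D a < wh D b + m → A a b = 0

/-- `A - 1` raises by `m` with component `B` of degree exactly `m` -/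
def Leads {R : Type*} [CommRing R] (m : ℤ) (A B : Matrix D.Idx D.Idx R) : Prop :=
  Raises D m (A - 1) ∧ ∀ a b, wh D a = wh D b + m → (A - 1) a b = B a b

/-- increasing code of a coordinate vector -/
noncomputable def vcode (L : List ℤ) : ℤ :=
  List.rec (fun acc => acc) (fun a _ k acc => k (acc * 16 + a)) L 0

/-- the coordinate vectors increase and each root has a unit structure constant -/
noncomputable def chkSep (A : Acc) : Bool :=
  (kallUpTo (D.nroots - 1) fun r => zPos (vcode (rvec D (r + 1)) - vcode (rvec D r))) &&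
    kallUpTo D.nroots fun r => kanyUpTo D.nroots fun s =>
      List.rec false (fun e _ _ => zEq e.2 1 || zEq e.2 (-1)) (A.look r s)

/-- all certificates used for the unipotent subgroups -/
structure UGood : Prop extends CommGood D where
  sep : chkSep D (std D) = true

theorem uGood_of_chk {P : Packed} (hD : CommGood D) (hl : chkLink D P = true)
    (h : chkSep D (fast D P) = true) : UGood D :=
  ⟨hD, by rwa [(fast_eq_std hl).1] at h⟩

variable {D}

section ring

variable {R : Type*} [CommRing R] {m n : ℤ} {A B A' B' : Matrix D.Idx D.Idx R}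

theorem Raises.mono (hA : Raises D m A) (h : n ≤ m) : Raises D n A :=
  fun a b hab => hA a b (by omega)

theorem Raises.add (hA : Raises D m A) (hB : Raises D m B) : Raises D m (A + B) :=
  fun a b hab => by simp [hA a b hab, hB a b hab]

theorem Raises.mul (hA : Raises D m A) (hB : Raises D n B) : Raises D (m + n) (A * B) := by
  intro a b hab
  rw [Matrix.mul_apply]
  refine Finset.sum_eq_zero fun c _ => ?_
  by_cases h : wh D a < wh D c + m
  · rw [hA a c h, zero_mul]
  · rw [hB c b (by omega), mul_zero]

theorem Raises.zero : Raises D m (0 : Matrix D.Idx D.Idx R) := fun _ _ _ => rfl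

theorem Leads.one : Leads D m (1 : Matrix D.Idx D.Idx R) 0 :=
  ⟨by rw [sub_self]; exact Raises.zero, fun a b _ => by simp⟩

theorem Leads.mul (hm : 1 ≤ m) (h : Leads D m A B) (h' : Leads D m A' B') :
    Leads D m (A * A') (B + B') := by
  have e : A * A' - 1 = (A - 1) + (A' - 1) + (A - 1) * (A' - 1) := by noncomm_ring
  refine ⟨?_, fun a b hab => ?_⟩
  · rw [e]; exact (h.1.add h'.1).add ((h.1.mul h'.1).mono (by omega))
  · rw [e, Matrix.add_apply, Matrix.add_apply, h.2 a b hab, h'.2 a b hab,
      h.1.mul h'.1 a b (by omega), add_zero, Matrix.add_apply]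

theorem Leads.of_raises (hA : Raises D n (A - 1)) (h : m < n) : Leads D m A 0 :=
  ⟨hA.mono h.le, fun a b hab => hA a b (by omega)⟩

end ring

namespace Good

variable (hD : Good D)

include hD

theorem Mc_raises {R : Type*} [CommRing R] {k r : ℕ} (hk : 1 ≤ k) (hr : r < D.nroots) :
    Raises D (k * ht D r) (Mc D R k r) := by
  intro a b hab
  by_contra h
  have hne : M D k r a b ≠ 0 := fun e => h (by simp [Mc, e])
  have := hD.M_homog_ht hr hk hne
  omega

theorem xR_leads {R : Type*} [CommRing R] {r : ℕ} (hr : r < D.nroots) (hp : 0 < ht D r) (t : R) :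
    Leads D (ht D r) (xR D R r t) (t • Mc D R 1 r) := by
  have e : xR D R r t - 1 = t • Mc D R 1 r + t ^ 2 • Mc D R 2 r + t ^ 3 • Mc D R 3 r := by
    rw [xR]; abel
  refine ⟨fun a b hab => ?_, fun a b hab => ?_⟩ <;> rw [e] <;>
    simp only [Matrix.add_apply, Matrix.smul_apply, smul_eq_mul]
  · rw [hD.Mc_raises le_rfl hr a b (by push_cast; omega),
      hD.Mc_raises (k := 2) (by omega) hr a b (by push_cast; omega),
      hD.Mc_raises (k := 3) (by omega) hr a b (by push_cast; omega)]
    simp
  · rw [hD.Mc_raises (k := 2) (by omega) hr a b (by push_cast; omega),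
      hD.Mc_raises (k := 3) (by omega) hr a b (by push_cast; omega)]
    simp

theorem xg_leads {F : Type*} [Field F] {r : ℕ} (hr : r < D.nroots) (hp : 0 < ht D r) (t : F) :
    Leads D (ht D r) (xg D F r t : Matrix D.Idx D.Idx F) (t • Mc D F 1 r) := by
  rw [hD.val_xg, hD.x_eq F hr]
  exact hD.xR_leads hr hp t

theorem wh_bound (a : D.Idx) : -maxHt D ≤ wh D a ∧ wh D a ≤ maxHt D := by
  rcases a with i | r
  · have := hD.maxHt_nonneg
    simp only [wh, Sum.elim_inl]; omega
  · exact ⟨(hD.top_step r.isLt).1, (hD.top_step r.isLt).2.1⟩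

/-- elements of `XS (htGe m)` raise by `m` -/
theorem raises_of_mem {F : Type*} [Field F] {m : ℤ} (hm : 1 ≤ m) {g : GL D.Idx F}
    (hg : g ∈ XS D F (htGe D m)) : Raises D m ((g : Matrix D.Idx D.Idx F) - 1) := by
  induction hg using Subgroup.closure_induction'' with
  | mem y hy =>
    obtain ⟨r, t, hr, hS, rfl⟩ := hy
    exact (hD.xg_leads hr (by have : m ≤ ht D r := hS; omega) t).1.mono hS
  | inv_mem y hy =>
    obtain ⟨r, t, hr, hS, rfl⟩ := hy
    rw [hD.xg_inv]
    exact (hD.xg_leads hr (by have : m ≤ ht D r := hS; omega) (-t)).1.mono hS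
  | one => rw [Units.val_one, sub_self]; exact Raises.zero
  | mul a b _ _ ha hb =>
    have e : ((a * b : GL D.Idx F) : Matrix D.Idx D.Idx F) - 1 =
        ((a : Matrix D.Idx D.Idx F) - 1) + ((b : Matrix D.Idx D.Idx F) - 1) +
          ((a : Matrix D.Idx D.Idx F) - 1) * ((b : Matrix D.Idx D.Idx F) - 1) := by
      rw [Units.val_mul]; noncomm_ring
    rw [e]
    exact (ha.add hb).add ((ha.mul hb).mono (by omega))

end Good

end Cfsg.Agent.ChevCore
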