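/-
Unique ordered products in the positive unipotent subgroup.
-/
import Cfsg.Agent.Lib.ChevCore.Graded

set_option autoImplicit false

namespace Cfsg.Agent.ChevCore

open Cfsg.Lie
open Matrix

variable (D : ChevalleyDatum) (F : Type*) [Field F]

/-- the product `∏ x_r(t_r)` along a list -/
noncomputable def prodL (L : List ℕ) (t : ℕ → F) : GL D.Idx F :=
  (L.map fun r => xg D F r (t r)).prod

/-- a family supported on the roots of height `m` -/
def SuppHt (m : ℤ) (d : ℕ → F) : Prop := ∀ r, d r ≠ 0 → r < D.nroots ∧ ht D r = m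

variable {D F}

theorem prodL_cons (a : ℕ) (L : List ℕ) (t : ℕ → F) :
    prodL D F (a :: L) t = xg D F a (t a) * prodL D F L t := by simp [prodL]

namespace UGood

variable (hD : UGood D)

include hD

theorem htGe_closed {m : ℤ} (hm : 1 ≤ m) {r s : ℕ} (hr : r < D.nroots) (hs : s < D.nroots)
    (hpr : 1 ≤ ht D r) (hps : m ≤ ht D s) :
    s ≠ D.neg r ∧ ∀ c ∈ commW (std D) r s, c.1 ∈ htGe D (m + 1) := by
  have hG := hD.toCommGood.toGood
  refine ⟨fun e => ?_, fun c hc => ?_⟩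
  · rw [e, hG.ht_neg hr] at hps; omega
  · show m + 1 ≤ ht D c.1
    obtain ⟨-, h1, h2, -⟩ := hG.commTerms_coef hr hs hc
    rw [hG.commTerms_ht hr hs hc]
    have h1' : (1 : ℤ) ≤ c.2.2.1 := by exact_mod_cast h1
    have h2' : (1 : ℤ) ≤ c.2.2.2 := by exact_mod_cast h2
    nlinarith

theorem mem_normalizer_htGe {m : ℤ} (hm : 1 ≤ m) {r : ℕ} (hr : r < D.nroots) (hpr : 1 ≤ ht D r)
    (t : F) : xg D F r t ∈ Subgroup.normalizer (XS D F (htGe D m) : Set (GL D.Idx F)) := by
  refine hD.toCommGood.xg_mem_normalizer hr (fun s hs hsS => ?_) t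
  obtain ⟨h1, h2⟩ := hD.htGe_closed hm hr hs hpr hsS
  refine ⟨h1, fun _ c hc => ?_⟩
  have := h2 c hc
  change m + 1 ≤ ht D c.1 at this
  show m ≤ ht D c.1
  omega

theorem U_le_normalizer {m : ℤ} (hm : 1 ≤ m) :
    XS D F (htGe D 1) ≤ Subgroup.normalizer (XS D F (htGe D m) : Set (GL D.Idx F)) :=
  XS_le fun _ t hr hpr => hD.mem_normalizer_htGe hm hr hpr t

/-- the layer map: `U_m` is central modulo `U_{m+1}` -/
theorem conj_congr {m : ℤ} (hm : 1 ≤ m) {g : GL D.Idx F} (hg : g ∈ XS D F (htGe D 1))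
    {s : ℕ} (hs : s < D.nroots) (hps : m ≤ ht D s) (u : F) :
    g⁻¹ * xg D F s u * g * (xg D F s u)⁻¹ ∈ XS D F (htGe D (m + 1)) := by
  have hn := hD.U_le_normalizer (F := F) (show 1 ≤ m + 1 by omega)
  have hx : xg D F s u ∈ XS D F (htGe D 1) := xg_mem_XS hs (show 1 ≤ ht D s by omega) u
  have hmem : ∀ {x : GL D.Idx F}, x ∈ XS D F (htGe D 1) → ∀ {z}, z ∈ XS D F (htGe D (m + 1)) →
      x * z * x⁻¹ ∈ XS D F (htGe D (m + 1)) := fun hx _ hz =>
    (Subgroup.mem_normalizer_iff.1 (hn hx) _).1 hz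
  induction hg using Subgroup.closure_induction'' with
  | mem y hy =>
    obtain ⟨r, t, hr, hpr, rfl⟩ := hy
    exact key r t hr hpr
  | inv_mem y hy =>
    obtain ⟨r, t, hr, hpr, rfl⟩ := hy
    rw [hD.toCommGood.toGood.xg_inv r t]
    exact key r (-t) hr hpr
  | one => simp
  | mul a b _ hb' ha hb =>
    have e : (a * b)⁻¹ * xg D F s u * (a * b) * (xg D F s u)⁻¹ =
        b⁻¹ * (a⁻¹ * xg D F s u * a * (xg D F s u)⁻¹) * (b⁻¹)⁻¹ *
          (b⁻¹ * xg D F s u * b * (xg D F s u)⁻¹) := by group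
    rw [e]
    exact mul_mem (hmem (inv_mem hb') ha) hb
where
  key (r : ℕ) (t : F) (hr : r < D.nroots) (hpr : 1 ≤ ht D r) :
      (xg D F r t)⁻¹ * xg D F s u * xg D F r t * (xg D F s u)⁻¹ ∈ XS D F (htGe D (m + 1)) := by
    have hG := hD.toCommGood.toGood
    by_cases h1 : s = r
    · subst h1
      rw [hG.xg_inv s t, hG.xg_inv s u, ← hG.xg_add, ← hG.xg_add, ← hG.xg_add]
      rw [show -t + u + t + -u = 0 by ring, hG.xg_zero]
      exact one_mem _
    obtain ⟨h2, hcl⟩ := hD.htGe_closed hm hr hs hpr hps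
    rw [mul_assoc (xg D F r t)⁻¹, hD.toCommGood.xg_comm hr hs h1 h2 t u]
    rw [show (xg D F r t)⁻¹ * (xg D F r t * xg D F s u * wordG D F (D.commWord F r s t u)) *
        (xg D F s u)⁻¹ = xg D F s u * wordG D F (D.commWord F r s t u) * (xg D F s u)⁻¹ by group]
    refine (Subgroup.mem_normalizer_iff.1 (hD.U_le_normalizer (F := F) (show 1 ≤ m + 1 by omega)
      (xg_mem_XS hs (show 1 ≤ ht D s by omega) u)) _).1 (list_prod_mem fun y hy => ?_)
    obtain ⟨p, hp, rfl⟩ := List.mem_map.1 hy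
    obtain ⟨c, hc, rfl⟩ := List.mem_map.1 hp
    exact xg_mem_XS (hG.commTerms_coef hr hs hc).1 (hcl c hc) _

theorem prodL_mem {L : List ℕ} (hL : ∀ r ∈ L, r < D.nroots ∧ 1 ≤ ht D r) (t : ℕ → F) :
    prodL D F L t ∈ XS D F (htGe D 1) :=
  list_prod_mem fun y hy => by
    obtain ⟨r, hr, rfl⟩ := List.mem_map.1 hy
    exact xg_mem_XS (hL r hr).1 (hL r hr).2 _

theorem prodL_supp {m : ℤ} (L : List ℕ) {d : ℕ → F} (hd : SuppHt D F m d) :
    prodL D F L d ∈ XS D F (htGe D m) := by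
  refine list_prod_mem fun y hy => ?_
  obtain ⟨r, hr, rfl⟩ := List.mem_map.1 hy
  by_cases h : d r = 0
  · rw [h, hD.toCommGood.toGood.xg_zero]; exact one_mem _
  · exact xg_mem_XS (hd r h).1 (show m ≤ ht D r from (hd r h).2 ▸ le_rfl) _

/-- products are additive in a layer modulo the next one -/
theorem prodL_add {m : ℤ} (hm : 1 ≤ m) {L : List ℕ} (hL : ∀ r ∈ L, r < D.nroots ∧ 1 ≤ ht D r)
    (t : ℕ → F) {d : ℕ → F} (hd : SuppHt D F m d) :
    (prodL D F L (t + d))⁻¹ * (prodL D F L t * prodL D F L d) ∈ XS D F (htGe D (m + 1)) := by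
  have hn := hD.U_le_normalizer (F := F) (show 1 ≤ m + 1 by omega)
  induction L with
  | nil => simp [prodL]
  | cons a L ih =>
    have hL' : ∀ r ∈ L, r < D.nroots ∧ 1 ≤ ht D r := fun r hr => hL r (by simp [hr])
    rw [prodL_cons, prodL_cons, prodL_cons, Pi.add_apply, hD.toCommGood.toGood.xg_add]
    set P := prodL D F L t
    set Q := prodL D F L d
    set P' := prodL D F L (t + d)
    set x := xg D F a (t a)
    set y := xg D F a (d a)
    have hy : y⁻¹ * P * y * P⁻¹ ∈ XS D F (htGe D (m + 1)) := by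
      by_cases h : d a = 0
      · simp [y, h, hD.toCommGood.toGood.xg_zero]
      · have := hD.conj_congr hm (g := P⁻¹) (inv_mem (hD.prodL_mem hL' t)) (hd a h).1
          ((hd a h).2 ▸ le_rfl) (d a)
        simp only [inv_inv] at this
        have h2 := (Subgroup.mem_normalizer_iff.1 (hn (xg_mem_XS (hd a h).1
          (show 1 ≤ ht D a by have := (hd a h).2; omega) (-(d a)))) _).1 this
        rw [← hD.toCommGood.toGood.xg_inv a (d a)] at h2
        refine (show y⁻¹ * (P * y * P⁻¹ * y⁻¹) * y⁻¹⁻¹ = y⁻¹ * P * y * P⁻¹ by group) ▸ h2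
    have hP : P⁻¹ * (y⁻¹ * P * y * P⁻¹) * P⁻¹⁻¹ ∈ XS D F (htGe D (m + 1)) :=
      (Subgroup.mem_normalizer_iff.1 (hn (inv_mem (hD.prodL_mem hL' t))) _).1 hy
    have hQ : Q⁻¹ * (P⁻¹ * (y⁻¹ * P * y * P⁻¹) * P⁻¹⁻¹) * Q⁻¹⁻¹ ∈ XS D F (htGe D (m + 1)) :=
      (Subgroup.mem_normalizer_iff.1 (hn (inv_mem (hD.prodL_mem hL' d))) _).1 hP
    have := mul_mem (ih hL') hQ
    refine (show (P'⁻¹ * (P * Q)) * (Q⁻¹ * (P⁻¹ * (y⁻¹ * P * y * P⁻¹) * P⁻¹⁻¹) * Q⁻¹⁻¹) =
      (x * y * P')⁻¹ * (x * P * (y * Q)) by group) ▸ this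

theorem prodL_single {L : List ℕ} (hL : L.Nodup) {r : ℕ} (hr : r ∈ L) (u : F) :
    prodL D F L (Pi.single r u) = xg D F r u := by
  have hG := hD.toCommGood.toGood
  induction L with
  | nil => simp at hr
  | cons a L ih =>
    obtain ⟨ha, hL'⟩ := List.nodup_cons.1 hL
    rw [prodL_cons]
    by_cases h : r = a
    · subst h
      have : prodL D F L (Pi.single r u) = 1 := by
        refine List.prod_eq_one fun y hy => ?_
        obtain ⟨s, hs, rfl⟩ := List.mem_map.1 hy
        rw [Pi.single_eq_of_ne (show s ≠ r from fun e => ha (by subst e; exact hs)), hG.xg_zero]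
      rw [this, Pi.single_eq_same, mul_one]
    · rw [Pi.single_eq_of_ne (Ne.symm h), hG.xg_zero, one_mul,
        ih hL' (by simpa [h] using hr)]

/-- `U_m = {P(d)} U_{m+1}` -/
theorem layer {m : ℤ} (hm : 1 ≤ m) {L : List ℕ} (hL : L.Nodup)
    (hmem : ∀ r, r ∈ L ↔ r < D.nroots ∧ 1 ≤ ht D r) {v : GL D.Idx F}
    (hv : v ∈ XS D F (htGe D m)) :
    ∃ d, SuppHt D F m d ∧ (prodL D F L d)⁻¹ * v ∈ XS D F (htGe D (m + 1)) := by
  have hG := hD.toCommGood.toGood
  have hn := hD.U_le_normalizer (F := F) (show 1 ≤ m + 1 by omega)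
  have hLp : ∀ r ∈ L, r < D.nroots ∧ 1 ≤ ht D r := fun r hr => (hmem r).1 hr
  have gen : ∀ r u, r < D.nroots → m ≤ ht D r → ∃ d, SuppHt D F m d ∧
      (prodL D F L d)⁻¹ * xg D F r u ∈ XS D F (htGe D (m + 1)) := by
    intro r u hr hp
    by_cases h : ht D r = m
    · refine ⟨Pi.single r u, fun s hs => ?_, ?_⟩
      · by_cases e : s = r
        · subst e; exact ⟨hr, h⟩
        · simp [Pi.single_eq_of_ne e] at hs
      · rw [hD.prodL_single hL ((hmem r).2 ⟨hr, by omega⟩), inv_mul_cancel]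
        exact one_mem _
    · refine ⟨0, fun s hs => absurd rfl hs, ?_⟩
      have : prodL D F L (0 : ℕ → F) = 1 := List.prod_eq_one fun y hy => by
        obtain ⟨s, -, rfl⟩ := List.mem_map.1 hy
        exact hG.xg_zero s
      rw [this, inv_one, one_mul]
      exact xg_mem_XS hr (show m + 1 ≤ ht D r by omega) u
  induction hv using Subgroup.closure_induction'' with
  | mem y hy => obtain ⟨r, u, hr, hp, rfl⟩ := hy; exact gen r u hr hp
  | inv_mem y hy => obtain ⟨r, u, hr, hp, rfl⟩ := hy; rw [hG.xg_inv]; exact gen r _ hr hp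
  | one => exact ⟨0, fun s hs => absurd rfl hs, by
      rw [mul_one]
      refine inv_mem (list_prod_mem fun y hy => ?_)
      obtain ⟨s, -, rfl⟩ := List.mem_map.1 hy
      rw [show (0 : ℕ → F) s = 0 from rfl, hG.xg_zero]
      exact one_mem _⟩
  | mul a b _ _ ha hb =>
    obtain ⟨d, hd, hda⟩ := ha
    obtain ⟨d', hd', hdb⟩ := hb
    refine ⟨d + d', fun s hs => ?_, ?_⟩
    · by_cases h : d s = 0
      · exact hd' s (by simpa [h] using hs)
      · exact hd s h
    have h1 := hD.prodL_add hm hLp d hd'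
    have hQ : (prodL D F L d')⁻¹ * ((prodL D F L d)⁻¹ * a) * ((prodL D F L d')⁻¹)⁻¹ ∈
        XS D F (htGe D (m + 1)) :=
      (Subgroup.mem_normalizer_iff.1 (hn (inv_mem (hD.prodL_mem hLp d'))) _).1 hda
    have := mul_mem (mul_mem h1 hQ) hdb
    refine (show ((prodL D F L (d + d'))⁻¹ * (prodL D F L d * prodL D F L d')) *
        ((prodL D F L d')⁻¹ * ((prodL D F L d)⁻¹ * a) * ((prodL D F L d')⁻¹)⁻¹) *
        ((prodL D F L d')⁻¹ * b) = (prodL D F L (d + d'))⁻¹ * (a * b) by group) ▸ this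

theorem htGe_eq_bot {m : ℤ} (hm : maxHt D < m) : XS D F (htGe D m) = ⊥ := by
  refine le_antisymm (XS_le fun r t hr hp => ?_) bot_le
  have := (hD.toCommGood.toGood.top_step hr).2.1
  have hp' : m ≤ ht D r := hp
  omega

theorem exists_prod {L : List ℕ} (hL : L.Nodup)
    (hmem : ∀ r, r ∈ L ↔ r < D.nroots ∧ 1 ≤ ht D r) {g : GL D.Idx F}
    (hg : g ∈ XS D F (htGe D 1)) :
    ∃ t, (∀ r, ¬ (r < D.nroots ∧ 1 ≤ ht D r) → t r = 0) ∧ prodL D F L t = g := by
  have hLp : ∀ r ∈ L, r < D.nroots ∧ 1 ≤ ht D r := fun r hr => (hmem r).1 hr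
  suffices h : ∀ k : ℕ, ∃ t, (∀ r, ¬ (r < D.nroots ∧ 1 ≤ ht D r) → t r = 0) ∧
      (prodL D F L t)⁻¹ * g ∈ XS D F (htGe D (1 + k)) by
    obtain ⟨t, ht0, hz⟩ := h (maxHt D).toNat
    rw [hD.htGe_eq_bot (by have := Int.self_le_toNat (maxHt D); omega), Subgroup.mem_bot,
      inv_mul_eq_one] at hz
    exact ⟨t, ht0, hz⟩
  intro k
  induction k with
  | zero =>
    refine ⟨0, fun _ _ => rfl, ?_⟩
    have : (prodL D F L (0 : ℕ → F)) ∈ XS D F (htGe D 1) := hD.prodL_mem hLp 0
    simpa using mul_mem (inv_mem this) hg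
  | succ k ih =>
    obtain ⟨t, ht0, htk⟩ := ih
    obtain ⟨d, hd, hdk⟩ := hD.layer (show (1 : ℤ) ≤ 1 + k by omega) hL hmem htk
    refine ⟨t + d, fun r hr => ?_, ?_⟩
    · rw [Pi.add_apply, ht0 r hr, zero_add]
      by_contra h
      obtain ⟨h1, h2⟩ := hd r h
      exact hr ⟨h1, by omega⟩
    have := mul_mem (hD.prodL_add (show (1 : ℤ) ≤ 1 + k by omega) hLp t hd) hdk
    rw [show ((1 : ℤ) + (k + 1 : ℕ)) = 1 + k + 1 by push_cast; ring]
    refine (show (prodL D F L (t + d))⁻¹ * (prodL D F L t * prodL D F L d) *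
      ((prodL D F L d)⁻¹ * ((prodL D F L t)⁻¹ * g)) = (prodL D F L (t + d))⁻¹ * g by group) ▸ this

theorem unit_const {r : ℕ} (hr : r < D.nroots) :
    ∃ s < D.nroots, ∃ e N, D.chainEntry r s = e :: N ∧ (e.2 = 1 ∨ e.2 = -1) := by
  have h := hD.sep
  simp only [chkSep, Bool.and_eq_true, kallUpTo_iff, kanyUpTo_iff, std_look] at h
  obtain ⟨s, hs, hse⟩ := h.2 r hr
  refine ⟨s, hs, ?_⟩
  cases he : D.chainEntry r s with
  | nil => simp [he] at hse
  | cons e N =>
    simp only [he, Bool.or_eq_true, zEq_iff] at hse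
    exact ⟨e, N, rfl, hse⟩

theorem root_ext {r r' : ℕ} (hr : r < D.nroots) (hr' : r' < D.nroots)
    (h : ∀ j < D.rank, coef D r j = coef D r' j) : r = r' := by
  have hG := hD.toCommGood.toGood
  have hs := hD.sep
  simp only [chkSep, Bool.and_eq_true, kallUpTo_iff, zPos_iff] at hs
  have hlt : ∀ a b, a < b → b < D.nroots → vcode (rvec D a) < vcode (rvec D b) := by
    intro a b hab hb
    induction b with
    | zero => omega
    | succ b ih =>
      have := hs.1 b (by omega)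
      rcases Nat.lt_succ_iff_lt_or_eq.1 hab with h | rfl
      · have := ih h (by omega); omega
      · omega
  have hv : rvec D r = rvec D r' := by
    refine List.ext_getElem (by rw [hG.rvec_length hr, hG.rvec_length hr']) fun j h1 h2 => ?_
    have := h j (by rwa [hG.rvec_length hr] at h1)
    simpa [coef, kget_eq, List.getD_eq_getElem?_getD, h1, h2] using this
  rcases Nat.lt_trichotomy r r' with h' | h' | h'
  · have := hlt _ _ h' hr'; rw [hv] at this; omega
  · exact h'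
  · have := hlt _ _ h' hr; rw [hv] at this; omega

theorem lead_prodL {m : ℤ} (hm : 1 ≤ m) (L : List ℕ) {d : ℕ → F} (hd : SuppHt D F m d) :
    Leads D m (prodL D F L d : Matrix D.Idx D.Idx F) (L.map fun r => d r • Mc D F 1 r).sum := by
  induction L with
  | nil => simpa [prodL] using Leads.one
  | cons a L ih =>
    rw [prodL_cons, Units.val_mul, List.map_cons, List.sum_cons]
    refine Leads.mul hm ?_ ih
    by_cases h : d a = 0
    · rw [h, zero_smul, hD.toCommGood.toGood.xg_zero, Units.val_one]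
      exact Leads.one
    · obtain ⟨h1, h2⟩ := hd a h
      subst h2
      exact hD.toCommGood.toGood.xg_leads h1 (by omega) _

theorem layer_inj {m : ℤ} (hm : 1 ≤ m) {L : List ℕ} (hL : L.Nodup)
    (hmem : ∀ r, r ∈ L ↔ r < D.nroots ∧ 1 ≤ ht D r) {d : ℕ → F} (hd : SuppHt D F m d)
    (h : prodL D F L d ∈ XS D F (htGe D (m + 1))) : d = 0 := by
  have hG := hD.toCommGood.toGood
  funext r
  by_contra hne
  rw [Pi.zero_apply] at hne
  obtain ⟨hr, hrm⟩ := hd r hne
  obtain ⟨s, hs, e, N, he, hN⟩ := hD.unit_const hr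
  obtain ⟨h1, h2, -, hch⟩ := hG.chain_facts hr hs (by rw [he]; simp)
  obtain ⟨hu, hcu⟩ := hch 0 e (by rw [he]; rfl)
  set a : D.Idx := Sum.inr ⟨e.1, hu⟩
  set b : D.Idx := Sum.inr ⟨s, hs⟩
  have hab : wh D a = wh D b + m := by
    show ht D e.1 = ht D s + m
    rw [← hrm, hG.ht_eq hu, hG.ht_eq hs, hG.ht_eq hr, ← Finset.sum_add_distrib]
    refine Finset.sum_congr rfl fun j hj => ?_
    rw [hcu j (Finset.mem_range.1 hj)]
    push_cast
    ring
  have hz := hG.raises_of_mem (show (1 : ℤ) ≤ m + 1 by omega) h a b (by omega)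
  rw [(hD.lead_prodL hm L hd).2 a b hab] at hz
  have hval : Mc D F 1 r a b = (e.2 : F) := by
    rw [Mc_entry]
    rcases col_cases D 1 r (Sum.inr ⟨s, hs⟩ : D.Idx) with ⟨j, hj, -⟩ | ⟨v, hv, hc⟩
    · cases hj
    · obtain rfl : (⟨s, hs⟩ : Fin D.nroots) = v := Sum.inr.inj hv
      rw [show b = Sum.inr ⟨s, hs⟩ from rfl, hc]
      simp [h1, h2, he, a, code_inr, vec]
  have hsum : (L.map fun r' => d r' • Mc D F 1 r').sum a b = d r * (e.2 : F) := by
    have hrest : ∀ r' ∈ L, r' ≠ r → (d r' • Mc D F 1 r') a b = 0 := by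
      intro r' hr' hne'
      rw [Matrix.smul_apply]
      by_contra hc
      have hr'' := ((hmem r').1 hr').1
      have hM : M D 1 r' a b ≠ 0 := fun e' => hc (by simp [Mc, e'])
      refine hne' (hD.root_ext hr'' hr fun j hj => ?_)
      have := hG.M_homog hr'' le_rfl hM hj
      simp only [wc, a, b, Sum.elim_inr] at this
      rw [hcu j hj] at this
      push_cast at this
      linarith
    rw [← List.sum_toFinset _ hL, Matrix.sum_apply, Finset.sum_eq_single r]
    · rw [Matrix.smul_apply, hval, smul_eq_mul]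
    · intro r' hr' hne'; exact hrest r' (List.mem_toFinset.1 hr') hne'
    · intro hn; exact absurd (List.mem_toFinset.2 ((hmem r).2 ⟨hr, by omega⟩)) hn
  rw [hsum] at hz
  rcases hN with hN | hN <;> simp [hN, hne] at hz

theorem prodL_injective {L : List ℕ} (hL : L.Nodup)
    (hmem : ∀ r, r ∈ L ↔ r < D.nroots ∧ 1 ≤ ht D r) {t t' : ℕ → F}
    (ht0 : ∀ r, ¬ (r < D.nroots ∧ 1 ≤ ht D r) → t r = 0)
    (ht0' : ∀ r, ¬ (r < D.nroots ∧ 1 ≤ ht D r) → t' r = 0)
    (h : prodL D F L t = prodL D F L t') : t = t' := by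
  have hG := hD.toCommGood.toGood
  have hLp : ∀ r ∈ L, r < D.nroots ∧ 1 ≤ ht D r := fun r hr => (hmem r).1 hr
  let lo : ℤ → (ℕ → F) → ℕ → F := fun m t r => if ht D r < m then t r else 0
  let lv : ℤ → (ℕ → F) → ℕ → F := fun m t r => if ht D r = m ∧ r < D.nroots then t r else 0
  have hsplit : ∀ (m : ℤ) (t : ℕ → F), (∀ r, ¬ (r < D.nroots ∧ 1 ≤ ht D r) → t r = 0) →
      lo (m + 1) t = lo m t + lv m t := by
    intro m t ht0
    funext r
    simp only [lo, lv, Pi.add_apply]
    rcases lt_trichotomy (ht D r) m with h | h | h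
    · simp [h, h.ne, show ht D r < m + 1 by omega]
    · by_cases hr : r < D.nroots
      · simp [h, hr]
      · simp [h, hr, ht0 r fun h' => hr h'.1]
    · simp [show ¬ ht D r < m + 1 by omega, show ¬ ht D r < m by omega, h.ne']
  have hsupp : ∀ (m : ℤ) (t : ℕ → F), SuppHt D F m (lv m t) := by
    intro m t r hr
    simp only [lv, ne_eq, ite_eq_right_iff, Classical.not_imp] at hr
    exact ⟨hr.1.2, hr.1.1⟩
  have htail : ∀ (j : ℕ) (m : ℤ) (t : ℕ → F), (∀ r, ¬ (r < D.nroots ∧ 1 ≤ ht D r) → t r = 0) →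
      1 ≤ m → maxHt D + 1 - m ≤ j →
      (prodL D F L (lo m t))⁻¹ * prodL D F L t ∈ XS D F (htGe D m) := by
    intro j
    induction j with
    | zero =>
      intro m t ht0 _ hj
      have : lo m t = t := by
        funext r
        by_cases hr : r < D.nroots ∧ 1 ≤ ht D r
        · have := (hG.top_step hr.1).2.1
          simp [lo, show ht D r < m by omega]
        · simp [lo, ht0 r hr]
      rw [this, inv_mul_cancel]
      exact one_mem _
    | succ j ih =>
      intro m t ht0 hm hj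
      have h1 := ih (m + 1) t ht0 (by omega) (by omega)
      have h2 := hD.prodL_add hm hLp (lo m t) (hsupp m t)
      rw [← hsplit m t ht0] at h2
      have h3 := XS_mono (D := D) (F := F) (show htGe D (m + 1) ⊆ htGe D m from fun r hr => by
        have h4 : m + 1 ≤ ht D r := hr
        show m ≤ ht D r
        omega)
      have h5 := mul_mem (mul_mem (hD.prodL_supp L (hsupp m t)) (inv_mem (h3 h2))) (h3 h1)
      refine (show prodL D F L (lv m t) * ((prodL D F L (lo (m + 1) t))⁻¹ *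
          (prodL D F L (lo m t) * prodL D F L (lv m t)))⁻¹ *
          ((prodL D F L (lo (m + 1) t))⁻¹ * prodL D F L t) =
        (prodL D F L (lo m t))⁻¹ * prodL D F L t by group) ▸ h5
  have hkey : ∀ k : ℕ, ∀ r, r < D.nroots → 1 ≤ ht D r → ht D r < 1 + k → t r = t' r := by
    intro k
    induction k with
    | zero => intro r _ h1 h2; omega
    | succ k ih =>
      intro r hr h1 h2
      by_cases hlt : ht D r < 1 + k
      · exact ih r hr h1 hlt
      set m : ℤ := 1 + k with hm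
      have hlo : lo m t = lo m t' := by
        funext s
        by_cases hs : s < D.nroots ∧ 1 ≤ ht D s
        · simp only [lo]
          split_ifs with h'
          · exact ih s hs.1 hs.2 h'
          · rfl
        · simp [lo, ht0 s hs, ht0' s hs]
      have hd := hsupp m (t - t')
      have hA : (prodL D F L (lo (m + 1) t))⁻¹ * prodL D F L (lo (m + 1) t') ∈
          XS D F (htGe D (m + 1)) := by
        have a1 := htail (maxHt D + 1 - (m + 1)).toNat (m + 1) t ht0 (by omega) (Int.self_le_toNat _)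
        have a2 := htail (maxHt D + 1 - (m + 1)).toNat (m + 1) t' ht0' (by omega) (Int.self_le_toNat _)
        rw [h] at a1
        have a3 := mul_mem a1 (inv_mem a2)
        refine (show (prodL D F L (lo (m + 1) t))⁻¹ * prodL D F L t' *
          ((prodL D F L (lo (m + 1) t'))⁻¹ * prodL D F L t')⁻¹ =
            (prodL D F L (lo (m + 1) t))⁻¹ * prodL D F L (lo (m + 1) t') by group) ▸ a3
      have heq : lo (m + 1) t = lo (m + 1) t' + lv m (t - t') := by
        rw [hsplit m t ht0, hsplit m t' ht0', hlo]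
        funext s
        simp only [lv, Pi.add_apply, Pi.sub_apply]
        split_ifs <;> ring
      have hB := hD.prodL_add (show 1 ≤ m by omega) hLp (lo (m + 1) t') hd
      rw [← heq] at hB
      have h6 : prodL D F L (lv m (t - t')) ∈ XS D F (htGe D (m + 1)) := by
        have h7 := mul_mem (inv_mem hA) hB
        set A := prodL D F L (lo (m + 1) t)
        set A' := prodL D F L (lo (m + 1) t')
        have h8 : (A⁻¹ * A')⁻¹ * (A⁻¹ * (A' * prodL D F L (lv m (t - t')))) =
            prodL D F L (lv m (t - t')) := by group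
        exact h8 ▸ h7
      have hz := congrFun (hD.layer_inj (show 1 ≤ m by omega) hL hmem hd h6) r
      simp only [lv, Pi.sub_apply, Pi.zero_apply] at hz
      rw [if_pos ⟨by push_cast at h2; omega, hr⟩, sub_eq_zero] at hz
      exact hz
  funext r
  by_cases hr : r < D.nroots ∧ 1 ≤ ht D r
  · exact hkey (ht D r).toNat r hr.1 hr.2 (by have := Int.self_le_toNat (ht D r); omega)
  · rw [ht0 r hr, ht0' r hr]

end UGood

end Cfsg.Agent.ChevCore
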