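/-
The standard subgroups in terms of the root elements of the library.
-/
import Cfsg.Agent.Lib.ChevCore.Unipotent

set_option autoImplicit false

namespace Cfsg.Agent.ChevCore

open Cfsg.Lie
open Matrix

variable {D : ChevalleyDatum} {F : Type*} [Field F]

namespace Good

variable (hD : Good D)

include hD

theorem xg_zsmul (r : ℕ) (n : ℤ) (t : F) : xg D F r (n * t) = xg D F r t ^ n := by
  induction n using Int.induction_on with
  | zero => simp [hD.xg_zero]
  | succ k ih =>
    rw [show (((k : ℤ) + 1 : ℤ) : F) * t = ((k : ℤ) : F) * t + t by push_cast; ring, hD.xg_add, ih,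
      _root_.zpow_add_one]
  | pred k ih =>
    rw [show ((-(k : ℤ) - 1 : ℤ) : F) * t = ((-(k : ℤ) : ℤ) : F) * t + -t by push_cast; ring,
      hD.xg_add, ih, ← hD.xg_inv, _root_.zpow_sub_one]

theorem mem_posRoots {r : ℕ} : r ∈ D.posRoots ↔ r < D.nroots ∧ 1 ≤ ht D r := by
  simp only [ChevalleyDatum.posRoots, List.mem_filter, List.mem_range, decide_eq_true_eq]
  constructor
  · rintro ⟨h, h'⟩
    exact ⟨h, (hD.isPosRoot_iff h).1 h'⟩
  · rintro ⟨h, h'⟩
    exact ⟨h, (hD.isPosRoot_iff h).2 h'⟩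

omit hD in
theorem nodup_posRoots : D.posRoots.Nodup := List.nodup_range.filter _

theorem posUnipotent_eq : D.posUnipotent F = XS D F (htGe D 1) := by
  rw [ChevalleyDatum.posUnipotent, hD.closure_matrix_eq _ fun r h => h.1]
  refine le_antisymm (XS_mono fun r h => (hD.isPosRoot_iff h.1).1 h) (XS_le fun r t hr h => ?_)
  exact xg_mem_XS hr ((hD.isPosRoot_iff hr).2 h) t

theorem negUnipotent_eq : D.negUnipotent F = XS D F {r | ht D r ≤ -1} := by
  rw [ChevalleyDatum.negUnipotent, hD.closure_matrix_eq _ fun r h => h.1]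
  refine le_antisymm (XS_mono fun r h => ?_) (XS_le fun r t hr h => ?_)
  · have := (hD.isNegRoot_iff h.1).1 h
    show ht D r ≤ -1
    omega
  · exact xg_mem_XS hr ((hD.isNegRoot_iff hr).2 (show ht D r < 0 by
      have h' : ht D r ≤ -1 := h
      omega)) t

theorem diagonalSubgroup_eq : D.diagonalSubgroup F =
    Subgroup.closure {g | ∃ r c, r < D.nroots ∧ c ≠ 0 ∧ g = hg D F r c} := by
  refine congrArg Subgroup.closure (Set.ext fun g => ⟨?_, ?_⟩)
  · rintro ⟨r, t, hr, ht, e⟩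
    exact ⟨r, t, hr, ht, Units.ext (e.trans (hD.val_hg r t).symm)⟩
  · rintro ⟨r, t, hr, ht, rfl⟩
    exact ⟨r, t, hr, ht, hD.val_hg r t⟩

theorem hg_mem_H {r : ℕ} (hr : r < D.nroots) {c : F} (hc : c ≠ 0) :
    hg D F r c ∈ D.diagonalSubgroup F := Subgroup.subset_closure ⟨r, c, hr, hc, hD.val_hg r c⟩

theorem mem_rootSubgroup {r : ℕ} {g : GL D.Idx F} :
    g ∈ D.rootSubgroup F r ↔ ∃ t, g = xg D F r t := by
  constructor
  · intro h
    induction h using Subgroup.closure_induction with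
    | mem y hy =>
      obtain ⟨t, ht⟩ := hy
      exact ⟨t, Units.ext (ht.trans (hD.val_xg r t).symm)⟩
    | one => exact ⟨0, (hD.xg_zero r).symm⟩
    | mul a b _ _ ha hb =>
      obtain ⟨t, rfl⟩ := ha
      obtain ⟨u, rfl⟩ := hb
      exact ⟨t + u, (hD.xg_add r t u).symm⟩
    | inv a _ ha =>
      obtain ⟨t, rfl⟩ := ha
      exact ⟨-t, hD.xg_inv r t⟩
  · rintro ⟨t, rfl⟩
    exact Subgroup.subset_closure ⟨t, hD.val_xg r t⟩

theorem group_eq : D.group F = XS D F Set.univ := by
  refine congrArg Subgroup.closure (Set.ext fun g => ⟨?_, ?_⟩)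
  · rintro ⟨r, t, e⟩
    refine ⟨r, t, r.2, trivial, Units.ext ?_⟩
    rw [hD.val_xg, e, ChevalleyDatum.x, dif_pos r.2]
  · rintro ⟨r, t, hr, -, rfl⟩
    exact ⟨⟨r, hr⟩, t, by rw [hD.val_xg, ChevalleyDatum.x, dif_pos hr]⟩

theorem xg_mem_group (r : ℕ) (t : F) : xg D F r t ∈ D.group F := by
  by_cases hr : r < D.nroots
  · rw [hD.group_eq]
    exact xg_mem_XS hr (Set.mem_univ r) t
  · rw [show xg D F r t = 1 from Units.ext (by rw [hD.val_xg, x_out F hr]; rfl)]
    exact one_mem _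

theorem ng_mem_group (r : ℕ) (t : F) : ng D F r t ∈ D.group F :=
  mul_mem (mul_mem (hD.xg_mem_group _ _) (hD.xg_mem_group _ _)) (hD.xg_mem_group _ _)

theorem hg_mem_group (r : ℕ) (t : F) : hg D F r t ∈ D.group F :=
  mul_mem (hD.ng_mem_group _ _) (hD.ng_mem_group _ _)

theorem posUnipotent_le_group : D.posUnipotent F ≤ D.group F := by
  rw [hD.posUnipotent_eq, hD.group_eq]
  exact XS_mono (Set.subset_univ _)

theorem negUnipotent_le_group : D.negUnipotent F ≤ D.group F := by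
  rw [hD.negUnipotent_eq, hD.group_eq]
  exact XS_mono (Set.subset_univ _)

theorem diagonalSubgroup_le_group : D.diagonalSubgroup F ≤ D.group F := by
  rw [hD.diagonalSubgroup_eq, Subgroup.closure_le]
  rintro g ⟨r, c, -, -, rfl⟩
  exact hD.hg_mem_group r c

theorem monomialSubgroup_eq : D.monomialSubgroup F = D.diagonalSubgroup F ⊔
    Subgroup.closure {g | ∃ r, r < D.nroots ∧ g = ng D F r 1} := by
  refine congrArg _ (congrArg Subgroup.closure (Set.ext fun g => ⟨?_, ?_⟩))
  · rintro ⟨r, hr, e⟩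
    exact ⟨r, hr, Units.ext (e.trans (hD.val_ng r 1).symm)⟩
  · rintro ⟨r, hr, rfl⟩
    exact ⟨r, hr, hD.val_ng r 1⟩

theorem monomialSubgroup_le_group : D.monomialSubgroup F ≤ D.group F := by
  rw [hD.monomialSubgroup_eq]
  refine sup_le hD.diagonalSubgroup_le_group ((Subgroup.closure_le _).2 ?_)
  rintro g ⟨r, -, rfl⟩
  exact hD.ng_mem_group r 1

theorem borelSubgroup_le_group : D.borelSubgroup F ≤ D.group F :=
  sup_le hD.posUnipotent_le_group hD.diagonalSubgroup_le_group

end Good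

end Cfsg.Agent.ChevCore
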