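/-
Signs of the coefficients of roots.
-/
import Cfsg.Agent.Lib.ChevCore.Subgroups

set_option autoImplicit false

namespace Cfsg.Agent.ChevCore

open Cfsg.Lie

variable {D : ChevalleyDatum}

namespace Good

variable (hD : Good D)

include hD

/-- the coefficients of a positive root are non-negative -/
theorem coef_nonneg {r j : ℕ} (hr : r < D.nroots) (hp : 0 < ht D r) (hj : j < D.rank) :
    0 ≤ coef D r j := by
  suffices h : ∀ n : ℕ, ∀ r, r < D.nroots → 0 < ht D r → (ht D r).toNat ≤ n → 0 ≤ coef D r j from
    h _ r hr hp le_rfl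
  intro n
  induction n with
  | zero => intro r _ h1 h2; omega
  | succ n ih =>
    intro r hr hp hn
    rcases hD.descent hr hp with ⟨i, hi, rfl⟩ | ⟨i, hi, h1, h2⟩
    · rw [hD.coef_simple hi hj]; split_ifs <;> omega
    · have h3 := ih _ (hD.refl_lt hi hr) h1 (by omega)
      have h4 := hD.coef_refl hi hr hj
      rw [hD.ht_refl hi hr] at h2
      split_ifs at h4 <;> omega

/-- a root with a positive coefficient is positive -/
theorem ht_pos_of_coef {r j : ℕ} (hr : r < D.nroots) (hj : j < D.rank) (h : 0 < coef D r j) :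
    0 < ht D r := by
  by_contra hn
  have h0 := hD.ht_ne_zero hr
  have h1 := hD.coef_nonneg (hD.neg_lt hr) (by rw [hD.ht_neg hr]; omega) hj
  rw [hD.coef_neg hr hj] at h1
  omega

/-- a positive root other than `p_i` involves another fundamental root -/
theorem exists_coef_pos_ne {r i : ℕ} (hr : r < D.nroots) (hp : 0 < ht D r) (hi : i < D.rank)
    (hne : r ≠ D.simple i) : ∃ j < D.rank, j ≠ i ∧ 0 < coef D r j := by
  by_contra hcon
  have hz : ∀ j < D.rank, j ≠ i → coef D r j = 0 := fun j hj hji => by
    have := hD.coef_nonneg hr hp hj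
    by_contra h
    exact hcon ⟨j, hj, hji, by omega⟩
  have hsum : ∀ f : ℕ → ℤ, ∑ k ∈ Finset.range D.rank, coef D r k * f k = coef D r i * f i :=
    fun f => Finset.sum_eq_single i
      (fun k hk hki => by rw [hz k (Finset.mem_range.1 hk) hki, zero_mul])
      (fun h => absurd (Finset.mem_range.2 hi) h)
  have h1 : D.cartan i r = coef D r i * 2 := by
    rw [hD.cartan_eq hr hi, hsum, hD.cartan_self hi]
  have h2 : ht D r = coef D r i := by
    rw [hD.ht_eq hr]
    simpa using hsum fun _ => 1
  have h3 := hD.refl_pos hi hr hp hne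
  rw [hD.ht_refl hi hr] at h3
  omega

end Good

end Cfsg.Agent.ChevCore
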