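/-
The diagonal subgroup as a quotient of a split torus.
-/
import Cfsg.Agent.Lib.ChevCore.Subgroups
import Mathlib.GroupTheory.SpecificGroups.Cyclic

set_option autoImplicit false

namespace Cfsg.Agent.ChevCore

open Cfsg.Lie
open Matrix

section IntPow

variable {M : Type*} [CommGroup M] {n : ℕ}

/-- the action of an integer matrix on a power of an abelian group -/
def mpow (A : Matrix (Fin n) (Fin n) ℤ) : (Fin n → M) →* (Fin n → M) where
  toFun c j := ∏ k, c k ^ A j k
  map_one' := funext fun j => by simp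
  map_mul' c c' := funext fun j => by
    simp only [Pi.mul_apply, _root_.mul_zpow, Finset.prod_mul_distrib]

theorem mpow_apply (A : Matrix (Fin n) (Fin n) ℤ) (c : Fin n → M) (j : Fin n) :
    mpow A c j = ∏ k, c k ^ A j k := rfl

theorem zpow_sum' {ι : Type*} (x : M) (s : Finset ι) (f : ι → ℤ) :
    x ^ (∑ i ∈ s, f i) = ∏ i ∈ s, x ^ f i := by
  classical
  induction s using Finset.induction_on with
  | empty => simp
  | insert a s ha ih => rw [Finset.sum_insert ha, Finset.prod_insert ha, _root_.zpow_add, ih]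

theorem prod_zpow' {ι : Type*} (s : Finset ι) (f : ι → M) (m : ℤ) :
    (∏ i ∈ s, f i) ^ m = ∏ i ∈ s, f i ^ m :=
  map_prod (zpowGroupHom m : M →* M) f s

theorem mpow_mul (A B : Matrix (Fin n) (Fin n) ℤ) (c : Fin n → M) :
    mpow (A * B) c = mpow A (mpow B c) := by
  funext j
  simp only [mpow_apply, Matrix.mul_apply, zpow_sum', prod_zpow', ← _root_.zpow_mul]
  rw [Finset.prod_comm]
  exact Finset.prod_congr rfl fun k _ => Finset.prod_congr rfl fun i _ => by rw [mul_comm]

theorem mpow_one (c : Fin n → M) : mpow (1 : Matrix (Fin n) (Fin n) ℤ) c = c := by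
  funext j
  rw [mpow_apply, Finset.prod_eq_single j]
  · simp
  · intro k _ hk; simp [Matrix.one_apply_ne (Ne.symm hk)]
  · simp

theorem mpow_diagonal (d : Fin n → ℕ) (c : Fin n → M) (j : Fin n) :
    mpow (Matrix.diagonal fun i => (d i : ℤ)) c j = c j ^ d j := by
  rw [mpow_apply, Finset.prod_eq_single j]
  · simp
  · intro k _ hk; simp [Matrix.diagonal_apply_ne _ (Ne.symm hk)]
  · simp

/-- the order of the kernel of an integer matrix from its Smith form -/
theorem card_ker_mpow [IsCyclic M] [Finite M] {A U U' V V' : Matrix (Fin n) (Fin n) ℤ}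
    {d : Fin n → ℕ} (hU : U' * U = 1) (hV : V * V' = 1) (hV' : V' * V = 1)
    (h : U * A * V = Matrix.diagonal fun i => (d i : ℤ)) :
    Nat.card (mpow (M := M) A).ker = ∏ i, (Nat.card M).gcd (d i) := by
  have hA : A = U' * (Matrix.diagonal fun i => (d i : ℤ)) * V' := by
    rw [← h, Matrix.mul_assoc U A V, ← Matrix.mul_assoc U' U, hU, Matrix.one_mul, Matrix.mul_assoc,
      hV, Matrix.mul_one]
  let e : (mpow (M := M) A).ker ≃ ((i : Fin n) → (powMonoidHom (d i) : M →* M).ker) :=
  { toFun := fun c i => ⟨mpow V' c.1 i, by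
      have hc : mpow A c.1 = 1 := c.2
      rw [MonoidHom.mem_ker, powMonoidHom_apply, ← mpow_diagonal d, ← h, ← mpow_mul,
        Matrix.mul_assoc (U * A), hV, Matrix.mul_one, mpow_mul, hc, map_one, Pi.one_apply]⟩
    invFun := fun y => ⟨mpow V fun i => (y i).1, by
      have hy : mpow (Matrix.diagonal fun i => (d i : ℤ)) (fun i => (y i).1) = 1 :=
        funext fun i => by rw [mpow_diagonal]; exact (y i).2
      rw [MonoidHom.mem_ker, hA, ← mpow_mul, Matrix.mul_assoc, hV', Matrix.mul_one, mpow_mul, hy,
        map_one]⟩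
    left_inv := fun c => Subtype.ext (by
      show mpow V (mpow V' c.1) = c.1
      rw [← mpow_mul, hV, mpow_one])
    right_inv := fun y => funext fun i => Subtype.ext (by
      show mpow V' (mpow V fun i => (y i).1) i = (y i).1
      rw [← mpow_mul, hV', mpow_one]) }
  rw [Nat.card_congr e, Nat.card_pi]
  exact Finset.prod_congr rfl fun i _ => IsCyclic.card_powMonoidHom_ker M (d i)

end IntPow

variable (D : ChevalleyDatum) (F : Type*) [Field F]

/-- the entries of the diagonal matrix of a torus element -/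
noncomputable def tauW (c : Fin D.rank → Fˣ) : D.Idx → Fˣ :=
  Sum.elim (fun _ => 1) fun s => ∏ i : Fin D.rank, c i ^ D.cartan i.val s.val

/-- the torus map onto the diagonal subgroup -/
noncomputable def tau : (Fin D.rank → Fˣ) →* GL D.Idx F where
  toFun c := Units.map (Matrix.diagonalRingHom D.Idx F).toMonoidHom
    (MulEquiv.piUnits.symm (tauW D F c))
  map_one' := by
    rw [show tauW D F 1 = 1 from funext (by rintro (i | s) <;> simp [tauW]), map_one, map_one]
  map_mul' c c' := by
    rw [show tauW D F (c * c') = tauW D F c * tauW D F c' from funext (by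
      rintro (i | s) <;> simp [tauW, _root_.mul_zpow, Finset.prod_mul_distrib]), map_mul, map_mul]

/-- the matrix of the character values on the fundamental roots -/
def cartanT : Matrix (Fin D.rank) (Fin D.rank) ℤ :=
  Matrix.of fun j i => D.cartan i.val (D.simple j.val)

variable {D F}

theorem val_tau (c : Fin D.rank → Fˣ) :
    (tau D F c : Matrix D.Idx D.Idx F) = Matrix.diagonal fun a => (tauW D F c a : F) := rfl

namespace Good

variable (hD : Good D)

include hD

theorem hg_eq_tau {r : ℕ} (hr : r < D.nroots) (c : Fˣ) :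
    hg D F r (c : F) = tau D F fun i => c ^ (D.coroot.getD r #[]).getD i.val 0 := by
  refine Units.ext ?_
  rw [hD.hg_eq_diag hr c.ne_zero, val_tau]
  congr 1
  funext a
  rcases a with i | s
  · simp [hDiag, wp, tauW]
  · simp only [hDiag, wp, tauW, Sum.elim_inr, ← _root_.zpow_mul, ← zpow_sum', Units.val_zpow_eq_zpow_val]
    rw [pairing_eq, Finset.sum_range]

theorem tau_single {i : Fin D.rank} (c : Fˣ) :
    tau D F (Pi.mulSingle i c) = hg D F (D.simple i.val) (c : F) := by
  rw [hD.hg_eq_tau (hD.simple_lt i.isLt)]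
  congr 1
  funext j
  rw [hD.coroot_simple i.isLt j.isLt]
  by_cases h : j = i
  · subst h; simp
  · rw [Pi.mulSingle_eq_of_ne h, if_neg fun e => h (Fin.ext e), zpow_zero]

theorem tau_eq_prod (c : Fin D.rank → Fˣ) :
    tau D F c = (List.ofFn fun i : Fin D.rank => hg D F (D.simple i.val) (c i : F)).prod := by
  conv_lhs => rw [← Finset.univ_prod_mulSingle c, ← List.prod_ofFn, map_list_prod, List.map_ofFn]
  congr 2
  funext i
  exact hD.tau_single (c i)

/-- the diagonal subgroup is the image of the torus -/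
theorem diagonalSubgroup_eq_range : D.diagonalSubgroup F = (tau D F).range := by
  refine le_antisymm ?_ ?_
  · rw [hD.diagonalSubgroup_eq, Subgroup.closure_le]
    rintro g ⟨r, c, hr, hc, rfl⟩
    exact ⟨_, (hD.hg_eq_tau hr (Units.mk0 c hc)).symm⟩
  · rintro g ⟨c, rfl⟩
    rw [hD.tau_eq_prod]
    refine list_prod_mem fun y hy => ?_
    obtain ⟨i, rfl⟩ := List.mem_ofFn.1 hy
    exact hD.hg_mem_H (hD.simple_lt i.isLt) (c i).ne_zero

theorem ker_tau : (tau D F).ker = (mpow (M := Fˣ) (cartanT D)).ker := by
  ext c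
  have h1 : ∀ s : Fin D.nroots, tauW D F c (Sum.inr s) =
      ∏ j : Fin D.rank, (mpow (cartanT D) c j) ^ coef D s.val j.val := by
    intro s
    simp only [tauW, Sum.elim_inr, mpow_apply, cartanT, Matrix.of_apply, prod_zpow', ← _root_.zpow_mul]
    rw [Finset.prod_comm]
    refine Finset.prod_congr rfl fun i _ => ?_
    rw [← zpow_sum', hD.cartan_eq s.isLt i.isLt, Finset.sum_range]
    exact congrArg _ (Finset.sum_congr rfl fun j _ => mul_comm _ _)
  rw [MonoidHom.mem_ker, MonoidHom.mem_ker]
  constructor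
  · intro h
    funext j
    have hj : (tau D F c : Matrix D.Idx D.Idx F) (Sum.inr ⟨_, hD.simple_lt j.isLt⟩)
        (Sum.inr ⟨_, hD.simple_lt j.isLt⟩) = (1 : Matrix D.Idx D.Idx F) (Sum.inr ⟨_, hD.simple_lt j.isLt⟩)
          (Sum.inr ⟨_, hD.simple_lt j.isLt⟩) := by rw [h]; rfl
    rw [val_tau, Matrix.diagonal_apply_eq, Matrix.one_apply_eq, Units.val_eq_one] at hj
    simpa [tauW, mpow_apply, cartanT] using hj
  · intro h
    refine Units.ext ?_
    rw [val_tau, Units.val_one, ← Matrix.diagonal_one]
    congr 1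
    funext a
    rcases a with i | s
    · simp [tauW]
    · rw [h1, h]; simp

/-- the order of the diagonal subgroup from a Smith form of the Cartan matrix -/
theorem card_diagonalSubgroup [Fintype F] {U U' V V' : Matrix (Fin D.rank) (Fin D.rank) ℤ}
    {d : Fin D.rank → ℕ} (hU : U' * U = 1) (hV : V * V' = 1) (hV' : V' * V = 1)
    (h : U * cartanT D * V = Matrix.diagonal fun i => (d i : ℤ)) :
    (∏ i, (Fintype.card F - 1).gcd (d i)) * Nat.card (D.diagonalSubgroup F) =
      (Fintype.card F - 1) ^ D.rank := by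
  classical
  have hc : Nat.card Fˣ = Fintype.card F - 1 := by
    rw [Nat.card_eq_fintype_card, Fintype.card_units]
  have h1 := Subgroup.card_mul_index (tau D F).ker
  rw [Subgroup.index_ker, ← hD.diagonalSubgroup_eq_range, hD.ker_tau, card_ker_mpow hU hV hV' h, hc,
    Nat.card_pi, Finset.prod_const, hc, Finset.card_univ, Fintype.card_fin] at h1
  exact h1

end Good

end Cfsg.Agent.ChevCore
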