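/-
The diagonal subgroup against the unipotent subgroups.
-/
import Cfsg.Agent.Lib.ChevCore.TorusGroup
import Cfsg.Agent.Lib.ChevCore.Signs

set_option autoImplicit false

namespace Cfsg.Agent.ChevCore

open Cfsg.Lie
open Matrix

variable {D : ChevalleyDatum} {F : Type*} [Field F]

/-- entries of a matrix congruent to one below the grading -/
def Lowers (D : ChevalleyDatum) {R : Type*} [CommRing R] (A : Matrix D.Idx D.Idx R) : Prop :=
  ∀ a b, wh D b ≤ wh D a → A a b = 0

namespace Good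

variable (hD : Good D)

include hD

theorem xR_lowers {R : Type*} [CommRing R] {r : ℕ} (hr : r < D.nroots) (hn : ht D r ≤ -1) (t : R) :
    Lowers D (xR D R r t - 1) := by
  have e : xR D R r t - 1 = t • Mc D R 1 r + t ^ 2 • Mc D R 2 r + t ^ 3 • Mc D R 3 r := by
    rw [xR]; abel
  intro a b hab
  rw [e]
  have h : ∀ k, 1 ≤ k → Mc D R k r a b = 0 := by
    intro k hk
    by_contra h
    have hne : M D k r a b ≠ 0 := fun e => h (by simp [Mc, e])
    have h2 := hD.M_homog_ht hr hk hne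
    have hk' : (1 : ℤ) ≤ (k : ℤ) := by exact_mod_cast hk
    nlinarith
  simp only [Matrix.add_apply, Matrix.smul_apply, smul_eq_mul]
  rw [h 1 le_rfl, h 2 (by omega), h 3 (by omega)]
  simp

theorem lowers_of_mem {g : GL D.Idx F} (hg : g ∈ D.negUnipotent F) :
    Lowers D ((g : Matrix D.Idx D.Idx F) - 1) := by
  rw [hD.negUnipotent_eq] at hg
  induction hg using Subgroup.closure_induction'' with
  | mem y hy =>
    obtain ⟨r, t, hr, hS, rfl⟩ := hy
    rw [hD.val_xg, hD.x_eq F hr]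
    exact hD.xR_lowers hr hS t
  | inv_mem y hy =>
    obtain ⟨r, t, hr, hS, rfl⟩ := hy
    rw [hD.xg_inv, hD.val_xg, hD.x_eq F hr]
    exact hD.xR_lowers hr hS (-t)
  | one => intro a b _; simp
  | mul a b _ _ ha hb =>
    intro i k hik
    have e : ((a * b : GL D.Idx F) : Matrix D.Idx D.Idx F) - 1 =
        ((a : Matrix D.Idx D.Idx F) - 1) + ((b : Matrix D.Idx D.Idx F) - 1) +
          ((a : Matrix D.Idx D.Idx F) - 1) * ((b : Matrix D.Idx D.Idx F) - 1) := by
      rw [Units.val_mul]; noncomm_ring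
    rw [e, Matrix.add_apply, Matrix.add_apply, ha i k hik, hb i k hik, Matrix.mul_apply,
      Finset.sum_eq_zero fun c _ => ?_]
    · simp
    · by_cases h : wh D c ≤ wh D i
      · rw [ha i c h, zero_mul]
      · rw [hb c k (by omega), mul_zero]

/-- diagonal elements act on the root elements by scalars -/
theorem conj_xg_of_mem_H {h : GL D.Idx F} (hh : h ∈ D.diagonalSubgroup F) {s : ℕ}
    (hs : s < D.nroots) :
    ∃ a : F, a ≠ 0 ∧ ∀ t, h * xg D F s t * h⁻¹ = xg D F s (a * t) := by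
  rw [hD.diagonalSubgroup_eq] at hh
  induction hh using Subgroup.closure_induction with
  | mem g hg =>
    obtain ⟨r, c, hr, hc, rfl⟩ := hg
    exact ⟨_, zpow_ne_zero _ hc, hD.hg_conj_x hr hs hc⟩
  | one => exact ⟨1, one_ne_zero, fun t => by simp⟩
  | mul g g' _ _ h h' =>
    obtain ⟨a, ha, h⟩ := h
    obtain ⟨b, hb, h'⟩ := h'
    refine ⟨a * b, mul_ne_zero ha hb, fun t => ?_⟩
    rw [mul_assoc a b t, ← h, ← h']; group
  | inv g _ h =>
    obtain ⟨a, ha, h⟩ := h
    refine ⟨a⁻¹, inv_ne_zero ha, fun t => ?_⟩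
    have := h (a⁻¹ * t)
    rw [← mul_assoc, mul_inv_cancel₀ ha, one_mul] at this
    rw [← this]; group

theorem H_le_normalizer_XS (S : Set ℕ) :
    D.diagonalSubgroup F ≤ Subgroup.normalizer (XS D F S : Set (GL D.Idx F)) := by
  have key : ∀ h ∈ D.diagonalSubgroup F, ∀ g ∈ XS D F S, h * g * h⁻¹ ∈ XS D F S := by
    intro h hh g hg
    induction hg using Subgroup.closure_induction with
    | mem y hy =>
      obtain ⟨s, u, hs, hsS, rfl⟩ := hy
      obtain ⟨a, -, ha⟩ := hD.conj_xg_of_mem_H hh hs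
      rw [ha]
      exact xg_mem_XS hs hsS _
    | one => simp
    | mul a b _ _ ha hb => simpa [mul_assoc] using mul_mem ha hb
    | inv a _ ha => simpa [mul_assoc] using inv_mem ha
  intro h hh
  rw [Subgroup.mem_normalizer_iff]
  intro g
  refine ⟨key h hh g, fun hg => ?_⟩
  simpa [mul_assoc] using key _ (inv_mem hh) _ hg

theorem H_diag {h : GL D.Idx F} (hh : h ∈ D.diagonalSubgroup F) :
    ∃ χ : D.Idx → Fˣ, (h : Matrix D.Idx D.Idx F) = Matrix.diagonal fun a => (χ a : F) := by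
  rw [hD.diagonalSubgroup_eq_range] at hh
  obtain ⟨c, rfl⟩ := hh
  exact ⟨_, val_tau c⟩

theorem pos_inf_H : D.posUnipotent F ⊓ D.diagonalSubgroup F = ⊥ := by
  refine le_bot_iff.1 fun g hg => Subgroup.mem_bot.2 (Units.ext ?_)
  obtain ⟨hu, hh⟩ := hg
  obtain ⟨χ, hχ⟩ := hD.H_diag hh
  rw [hD.posUnipotent_eq] at hu
  have hr := hD.raises_of_mem le_rfl hu
  ext a b
  rcases eq_or_ne a b with rfl | hab
  · have := hr a a (by omega)
    rw [Matrix.sub_apply] at this
    rw [Units.val_one]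
    exact sub_eq_zero.1 this
  · rw [hχ, Units.val_one, Matrix.diagonal_apply_ne _ hab, Matrix.one_apply_ne hab]

theorem mem_borel {g : GL D.Idx F} (hg : g ∈ D.borelSubgroup F) :
    ∃ u ∈ D.posUnipotent F, ∃ h ∈ D.diagonalSubgroup F, u * h = g := by
  have hN : D.diagonalSubgroup F ≤
      Subgroup.normalizer (D.posUnipotent F : Set (GL D.Idx F)) := by
    rw [hD.posUnipotent_eq]
    exact hD.H_le_normalizer_XS _
  rw [ChevalleyDatum.borelSubgroup, ← SetLike.mem_coe,
    Subgroup.coe_mul_of_right_le_normalizer_left _ _ hN] at hg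
  exact hg

theorem borel_inf_neg : D.borelSubgroup F ⊓ D.negUnipotent F = ⊥ := by
  refine le_bot_iff.1 fun g hg => Subgroup.mem_bot.2 (Units.ext ?_)
  obtain ⟨hb, hv⟩ := hg
  obtain ⟨u, hu, h, hh, rfl⟩ := hD.mem_borel hb
  obtain ⟨χ, hχ⟩ := hD.H_diag hh
  rw [hD.posUnipotent_eq] at hu
  ext a b
  by_cases hba : wh D b ≤ wh D a
  · have h1 := hD.lowers_of_mem hv a b hba
    rw [Matrix.sub_apply, sub_eq_zero] at h1
    rw [Units.val_one]
    exact h1
  · have h1 := hD.raises_of_mem le_rfl hu a b (by omega)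
    rw [Matrix.sub_apply, sub_eq_zero] at h1
    have hne : a ≠ b := by rintro rfl; omega
    rw [Units.val_mul, hχ, Matrix.mul_diagonal, h1, Units.val_one, Matrix.one_apply_ne hne,
      zero_mul]

theorem borel_inf_negH :
    D.borelSubgroup F ⊓ (D.negUnipotent F ⊔ D.diagonalSubgroup F) = D.diagonalSubgroup F := by
  refine le_antisymm (fun g hg => ?_) (le_inf le_sup_right le_sup_right)
  obtain ⟨hb, hg⟩ := hg
  have hN : D.diagonalSubgroup F ≤
      Subgroup.normalizer (D.negUnipotent F : Set (GL D.Idx F)) := by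
    rw [hD.negUnipotent_eq]
    exact hD.H_le_normalizer_XS _
  have hg' : g ∈ ((D.negUnipotent F ⊔ D.diagonalSubgroup F : Subgroup (GL D.Idx F)) :
      Set (GL D.Idx F)) := hg
  clear hg
  rw [Subgroup.coe_mul_of_right_le_normalizer_left _ _ hN] at hg'
  obtain ⟨v, hv, h, hh, rfl⟩ := hg'
  have hv' : v ∈ D.borelSubgroup F ⊓ D.negUnipotent F := by
    refine ⟨?_, hv⟩
    have := mul_mem hb (inv_mem (le_sup_right (a := D.posUnipotent F) hh) : h⁻¹ ∈ D.borelSubgroup F)
    simpa using this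
  rw [hD.borel_inf_neg, Subgroup.mem_bot] at hv'
  simpa [hv'] using hh

theorem pos_sup_neg : D.posUnipotent F ⊔ D.negUnipotent F = D.group F := by
  refine le_antisymm (sup_le hD.posUnipotent_le_group hD.negUnipotent_le_group) ?_
  rw [hD.group_eq, hD.posUnipotent_eq, hD.negUnipotent_eq]
  refine XS_le fun r t hr _ => ?_
  have := hD.ht_ne_zero hr
  by_cases h : 1 ≤ ht D r
  · exact le_sup_left (b := XS D F {r | ht D r ≤ -1}) (xg_mem_XS hr h t)
  · exact le_sup_right (a := XS D F (htGe D 1)) (xg_mem_XS hr (show ht D r ≤ -1 by omega) t)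

theorem nw_mem_N {w : List ℕ} (hw : ∀ i ∈ w, i < D.rank) : nw D F w ∈ D.monomialSubgroup F := by
  refine list_prod_mem fun y hy => ?_
  obtain ⟨i, hi, rfl⟩ := List.mem_map.1 hy
  rw [hD.monomialSubgroup_eq]
  exact Subgroup.mem_sup_right (Subgroup.subset_closure ⟨_, hD.simple_lt (hw i hi), rfl⟩)

theorem borel_sup_monomial : D.borelSubgroup F ⊔ D.monomialSubgroup F = D.group F := by
  refine le_antisymm (sup_le hD.borelSubgroup_le_group hD.monomialSubgroup_le_group) ?_
  rw [hD.group_eq]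
  refine XS_le fun r t hr _ => ?_
  obtain ⟨w, hw, i, hi, rfl⟩ := hD.exists_word hr
  have hp := hD.simple_lt hi
  have e : xg D F (actW D w (D.simple i)) t =
      nw D F w * xg D F (D.simple i) ((etaWord D w (D.simple i) : F) * t) * (nw D F w)⁻¹ := by
    rw [hD.nw_conj_x hw hp, ← mul_assoc, ← Int.cast_mul, etaWord_sq, Int.cast_one, one_mul]
  rw [e]
  have hn : nw D F w ∈ D.borelSubgroup F ⊔ D.monomialSubgroup F :=
    Subgroup.mem_sup_right (hD.nw_mem_N hw)
  refine mul_mem (mul_mem hn (Subgroup.mem_sup_left (Subgroup.mem_sup_left ?_))) (inv_mem hn)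
  rw [hD.posUnipotent_eq]
  exact xg_mem_XS hp (show 1 ≤ ht D (D.simple i) by rw [hD.ht_simple hi]) _

end Good

/-- positive roots other than the `i`-th fundamental root -/
def posExcept (D : ChevalleyDatum) (i : ℕ) : Set ℕ :=
  {r | 1 ≤ ht D r ∧ r ≠ D.simple i}

namespace CommGood

variable (hD : CommGood D)

include hD

theorem simple_le_normalizer {i : ℕ} (hi : i < D.rank) {p : ℕ}
    (hp : p = D.simple i ∨ p = D.neg (D.simple i)) (t : F) :
    xg D F p t ∈ Subgroup.normalizer (XS D F (posExcept D i) : Set (GL D.Idx F)) := by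
  have hG := hD.toGood
  have hsi := hG.simple_lt hi
  have hht : ht D p ≤ 1 ∧ p < D.nroots ∧ ∀ k < D.rank, k ≠ i → coef D p k = 0 := by
    rcases hp with rfl | rfl
    · exact ⟨le_of_eq (hG.ht_simple hi), hsi, fun k hk hki => by
        rw [hG.coef_simple hi hk, if_neg hki]⟩
    · exact ⟨by rw [hG.ht_neg hsi, hG.ht_simple hi]; omega, hG.neg_lt hsi, fun k hk hki => by
        rw [hG.coef_neg hsi hk, hG.coef_simple hi hk, if_neg hki, _root_.neg_zero]⟩
  refine hD.xg_mem_normalizer hht.2.1 (fun s hs hsS => ?_) t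
  obtain ⟨hs1, hs2⟩ : 1 ≤ ht D s ∧ s ≠ D.simple i := hsS
  refine ⟨?_, fun _ c hc => ?_⟩
  · rintro rfl
    rcases hp with rfl | rfl
    · rw [hG.ht_neg hsi, hG.ht_simple hi] at hs1; omega
    · exact hs2 (hG.neg_neg hsi)
  obtain ⟨hc0, hc1, hc2, hc3⟩ := hG.commTerms_coef hht.2.1 hs hc
  obtain ⟨k, hk, hki, hkpos⟩ := hG.exists_coef_pos_ne hs (by omega) hi hs2
  have hck : 0 < coef D c.1 k := by
    rw [hc3 k hk, hht.2.2 k hk hki, mul_zero, zero_add]
    have : (1 : ℤ) ≤ (c.2.2.2 : ℤ) := by exact_mod_cast hc2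
    positivity
  refine ⟨hG.ht_pos_of_coef hc0 hk hck, fun e => ?_⟩
  rw [e, hG.coef_simple hi hk, if_neg hki] at hck
  omega

end CommGood

end Cfsg.Agent.ChevCore
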