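/-
The seven data with their root element relations, packaged.
-/
import Cfsg.Agent.Chev54.Inst
import Cfsg.Agent.ChevGroup.Mat.G2
import Cfsg.Agent.ChevGroup.Mat.B2
import Cfsg.Agent.ChevGroup.Mat.D4
import Cfsg.Agent.ChevGroup.Mat.F4
import Cfsg.Agent.ChevGroup.Mat.E6
import Cfsg.Agent.ChevGroup.Mat.E7
import Cfsg.Agent.ChevGroup.Mat.E8
import Cfsg.Agent.Lib.ChevCore.CommAll
import Cfsg.Agent.Lib.ChevCore.Triangular
import Cfsg.Agent.Lib.ChevCore.NGroup

set_option autoImplicit false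

namespace Cfsg.Agent.ChevCore

open Cfsg.Lie Cfsg.Agent.ChevGroup

theorem exists_model {D : ChevalleyDatum}
    (hD : D ∈ [chevG2, chevB2, chevD4, chevF4, chevE6, chevE7, chevE8]) :
    ∃ T : Model D, (∃ wit, T.witB wit = true) ∧ ∃ w, T.longestB w = true := by
  simp only [List.mem_cons, List.not_mem_nil, or_false] at hD
  rcases hD with rfl | rfl | rfl | rfl | rfl | rfl | rfl
  exacts [⟨_, ⟨_, TypeG2.wit_ok⟩, _, TypeG2.longest_ok⟩, ⟨_, ⟨_, TypeB2.wit_ok⟩, _, TypeB2.longest_ok⟩,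
    ⟨_, ⟨_, TypeD4.wit_ok⟩, _, TypeD4.longest_ok⟩, ⟨_, ⟨_, TypeF4.wit_ok⟩, _, TypeF4.longest_ok⟩,
    ⟨_, ⟨_, TypeE6.wit_ok⟩, _, TypeE6.longest_ok⟩, ⟨_, ⟨_, TypeE7.wit_ok⟩, _, TypeE7.longest_ok⟩,
    ⟨_, ⟨_, TypeE8.wit_ok⟩, _, TypeE8.longest_ok⟩]

/-- reduced words of fundamental reflections -/
def RedW (D : ChevalleyDatum) : List ℕ → Prop
  | [] => True
  | i :: u => 0 < ht D (actW D u.reverse (D.simple i)) ∧ RedW D u

variable {D : ChevalleyDatum} {F : Type*} [Field F]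

theorem monomial_eq_nw (hG : Good D) : D.monomialSubgroup F =
    D.diagonalSubgroup F ⊔ Subgroup.closure {g | ∃ i < D.rank, g = ng D F (D.simple i) 1} := by
  rw [hG.monomialSubgroup_eq]
  refine le_antisymm (sup_le le_sup_left ((Subgroup.closure_le _).2 ?_))
    (sup_le le_sup_left ((Subgroup.closure_le _).2 ?_))
  · rintro g ⟨r, hr, rfl⟩
    obtain ⟨w, hw, i, hi, rfl⟩ := hG.exists_word hr
    have hp := hG.simple_lt hi
    have he : ((etaWord D w (D.simple i) : ℤ) : F) * (etaWord D w (D.simple i) : F) = 1 := by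
      rw [← Int.cast_mul, Good.etaWord_sq, Int.cast_one]
    have e : ng D F (actW D w (D.simple i)) 1 =
        nw D F w * (hg D F (D.simple i) (etaWord D w (D.simple i) : F) * ng D F (D.simple i) 1) *
          (nw D F w)⁻¹ := by
      rw [← hG.ng_eq_hg_mul, hG.nw_conj_ng hw hp, he]
    set P := D.diagonalSubgroup F ⊔ Subgroup.closure {g | ∃ i < D.rank, g = ng D F (D.simple i) 1}
    have hnw : nw D F w ∈ P := list_prod_mem fun y hy => by
      obtain ⟨j, hj, rfl⟩ := List.mem_map.1 hy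
      exact Subgroup.mem_sup_right (Subgroup.subset_closure ⟨j, hw j hj, rfl⟩)
    rw [e]
    exact mul_mem (mul_mem hnw (mul_mem (Subgroup.mem_sup_left
      (hG.hg_mem_H hp (left_ne_zero_of_mul_eq_one he)))
      (Subgroup.mem_sup_right (Subgroup.subset_closure ⟨i, hi, rfl⟩)))) (inv_mem hnw)
  · rintro g ⟨i, hi, rfl⟩
    exact Subgroup.mem_sup_right (Subgroup.subset_closure ⟨_, hG.simple_lt hi, rfl⟩)

section model

variable (T : Model D) (hC : CommGood D)

include hC

theorem val_engine_n (i : Fin T.tab.l) :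
    (((T.rel (Chev54.rels hC F)).n i : ↥(D.group F)) : GL D.Idx F) =
      ng D F (D.simple i.val) 1 := by
  refine Units.ext ?_
  rw [hC.toGood.val_ng]
  show Model.mat (nOf T.S.neg (T.xG (Chev54.rels hC F)) (T.S.simple i) 1) = _
  rw [T.mat_nOf, T.simple_eq]

theorem val_engine_nw (w : List (Fin T.tab.l)) :
    (((T.rel (Chev54.rels hC F)).nw w : ↥(D.group F)) : GL D.Idx F) = nw D F (w.map Fin.val) := by
  induction w with
  | nil => simp [nw]
  | cons i w ih =>
    rw [RootRel.nw_cons, Subgroup.coe_mul, ih, val_engine_n T hC]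
    simp [nw]

omit hC in
theorem engine_actw (w : List (Fin T.tab.l)) (r : Fin T.tab.n) :
    (T.S.actw w r).val = actW D (w.map Fin.val) r.val := by
  induction w with
  | nil => rfl
  | cons i w ih => rw [RootIdx.actw_cons, T.refl_eq, ih]; rfl

omit hC in
theorem engine_pos (hG : Good D) (r : Fin T.tab.n) : T.S.pos r ↔ 0 < ht D r.val := by
  rw [T.pos_val, hG.isPosRoot_iff (T.lt r)]

omit hC in
theorem engine_red (hG : Good D) {w : List (Fin T.tab.l)} (h : T.S.Red w) :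
    RedW D (w.map Fin.val) := by
  induction w with
  | nil => trivial
  | cons i w ih =>
    obtain ⟨h1, h2⟩ := h
    refine ⟨?_, ih h2⟩
    rw [← List.map_reverse, ← T.simple_eq, ← engine_actw T]
    exact (engine_pos T hG _).1 h1

theorem N_map : (engN (T.rel (Chev54.rels hC F))).map (D.group F).subtype = D.monomialSubgroup F := by
  rw [engN, Subgroup.map_sup, T.H_map, monomial_eq_nw hC.toGood, MonoidHom.map_closure]
  congr 2
  ext g
  constructor
  · rintro ⟨_, ⟨i, rfl⟩, rfl⟩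
    exact ⟨i.val, T.lt_l i, val_engine_n T hC i⟩
  · rintro ⟨i, hi, rfl⟩
    exact ⟨_, ⟨⟨i, T.l_eq.symm ▸ hi⟩, rfl⟩, val_engine_n T hC _⟩

end model

section mem

variable (hD : D ∈ [chevG2, chevB2, chevD4, chevF4, chevE6, chevE7, chevE8])

include hD

/-- Bruhat decomposition -/
theorem exists_bruhat_mem {g : GL D.Idx F} (hg : g ∈ D.group F) :
    ∃ b ∈ D.borelSubgroup F, ∃ w : List ℕ, (∀ i ∈ w, i < D.rank) ∧ RedW D w ∧
      ∃ b' ∈ D.borelSubgroup F, g = b * nw D F w * b' := by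
  obtain ⟨T, ⟨wit, hwit⟩, -⟩ := exists_model hD
  have hC := commGood_of_mem hD
  set R := T.rel (Chev54.rels hC F)
  obtain ⟨b, hb, w, hw, b', hb', e⟩ :=
    R.exists_bruhat (g := ⟨g, hg⟩) (by rw [T.group_top _ hwit]; exact Subgroup.mem_top _)
  refine ⟨b, T.B_map (Chev54.rels hC F) ▸ ⟨b, hb, rfl⟩, w.map Fin.val, ?_,
    engine_red T hC.toGood hw, b', T.B_map (Chev54.rels hC F) ▸ ⟨b', hb', rfl⟩, ?_⟩
  · intro i hi
    obtain ⟨j, -, rfl⟩ := List.mem_map.1 hi
    exact T.lt_l j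
  · rw [← val_engine_nw T hC]
    exact congrArg Subtype.val e

theorem pos_inf_monomial : D.posUnipotent F ⊓ D.monomialSubgroup F = ⊥ := by
  obtain ⟨T, -, -⟩ := exists_model hD
  have hC := commGood_of_mem hD
  rw [← T.U_map (Chev54.rels hC F), ← N_map T hC,
    ← Subgroup.map_inf _ _ _ Subtype.coe_injective, eq_bot_iff]
  rintro _ ⟨g, ⟨hu, hn⟩, rfl⟩
  rw [U_inter_engN (T.shapeR _) (fun r t => T.x_ne _ r t) hu hn]
  exact one_mem _

theorem borel_inf_monomial : D.borelSubgroup F ⊓ D.monomialSubgroup F = D.diagonalSubgroup F := by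
  refine le_antisymm ?_ (le_inf le_sup_right le_sup_left)
  obtain ⟨T, -, -⟩ := exists_model hD
  have hC := commGood_of_mem hD
  rw [← T.B_map (Chev54.rels hC F), ← N_map T hC,
    ← Subgroup.map_inf _ _ _ Subtype.coe_injective, ← T.H_map (Chev54.rels hC F)]
  refine Subgroup.map_mono fun g hg => ?_
  exact B_inter_engN (T.shapeR _) (fun r t => T.x_ne _ r t) hg.1 hg.2

end mem

end Cfsg.Agent.ChevCore
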