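/-
Standard parabolic subgroups, unipotent radicals and Levi subgroups.
-/
import Cfsg.Agent.Lib.ChevCore.Models

set_option autoImplicit false

namespace Cfsg.Agent.ChevCore

open Cfsg.Lie
open Matrix

/-- the coroot coefficients vanish exactly with the root coefficients -/
noncomputable def chkSupp (D : ChevalleyDatum) : Bool :=
  kallUpTo D.nroots fun r => kallUpTo D.rank fun i =>
    decide ((D.coroot.getD r #[]).getD i 0 = 0 ↔ coef D r i = 0)

theorem chkSupp_of_mem {D : ChevalleyDatum}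
    (hD : D ∈ [chevG2, chevB2, chevD4, chevF4, chevE6, chevE7, chevE8]) : chkSupp D = true := by
  simp only [List.mem_cons, List.not_mem_nil, or_false] at hD
  rcases hD with rfl | rfl | rfl | rfl | rfl | rfl | rfl <;> decide +kernel

theorem coroot_zero_iff {D : ChevalleyDatum} (h : chkSupp D = true) {r i : ℕ} (hr : r < D.nroots)
    (hi : i < D.rank) : (D.coroot.getD r #[]).getD i 0 = 0 ↔ coef D r i = 0 := by
  simp only [chkSupp, kallUpTo_iff, decide_eq_true_eq] at h
  exact h r hr i hi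

variable (D : ChevalleyDatum)

/-- the roots supported on `J` -/
def subJ (J : Set ℕ) : Set ℕ := {r | ∀ i < D.rank, i ∉ J → coef D r i = 0}

/-- the positive roots not supported on `J` -/
def radJ (J : Set ℕ) : Set ℕ := {r | 1 ≤ ht D r ∧ r ∉ subJ D J}

/-- the roots of a parabolic subgroup -/
def parJ (J : Set ℕ) : Set ℕ := {r | 1 ≤ ht D r ∨ r ∈ subJ D J}

/-- equal degrees away from `J` -/
def EqJ (J : Set ℕ) (a b : D.Idx) : Prop := ∀ k < D.rank, k ∉ J → wc D k a = wc D k b

/-- larger degrees away from `J` -/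
def GtJ (J : Set ℕ) (a b : D.Idx) : Prop :=
  (∀ k < D.rank, k ∉ J → wc D k b ≤ wc D k a) ∧ ∃ k < D.rank, k ∉ J ∧ wc D k b < wc D k a

variable {D} {F : Type*} [Field F]

/-- matrices congruent to one off a relation -/
def SuppRel (P : D.Idx → D.Idx → Prop) (A : Matrix D.Idx D.Idx F) : Prop :=
  ∀ a b, ¬ P a b → (A - 1) a b = 0

theorem suppRel_one {P : D.Idx → D.Idx → Prop} : SuppRel (F := F) P 1 := fun a b _ => by simp

theorem SuppRel.mul {P : D.Idx → D.Idx → Prop} (hP : ∀ a b c, P a b → P b c → P a c)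
    {A B : Matrix D.Idx D.Idx F} (hA : SuppRel P A) (hB : SuppRel P B) : SuppRel P (A * B) := by
  intro a b hab
  have e : A * B - 1 = (A - 1) + (B - 1) + (A - 1) * (B - 1) := by noncomm_ring
  rw [e, Matrix.add_apply, Matrix.add_apply, hA a b hab, hB a b hab, Matrix.mul_apply,
    Finset.sum_eq_zero fun c _ => ?_]
  · simp
  · by_cases h : P a c
    · rw [hB c b fun h' => hab (hP a c b h h'), mul_zero]
    · rw [hA a c h, zero_mul]

theorem suppRel_of_closure {P : D.Idx → D.Idx → Prop} (hP : ∀ a b c, P a b → P b c → P a c)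
    {S : Set (GL D.Idx F)} (h : ∀ g ∈ S, SuppRel P (g : Matrix D.Idx D.Idx F) ∧
      SuppRel P ((g⁻¹ : GL D.Idx F) : Matrix D.Idx D.Idx F))
    {g : GL D.Idx F} (hg : g ∈ Subgroup.closure S) : SuppRel P (g : Matrix D.Idx D.Idx F) := by
  induction hg using Subgroup.closure_induction'' with
  | mem y hy => exact (h y hy).1
  | inv_mem y hy => exact (h y hy).2
  | one => rw [Units.val_one]; exact suppRel_one
  | mul a b _ _ ha hb => rw [Units.val_mul]; exact ha.mul hP hb

namespace Good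

variable (hD : Good D)

include hD

theorem actW_reverse {w : List ℕ} (hw : ∀ i ∈ w, i < D.rank) {r : ℕ} (hr : r < D.nroots) :
    actW D w (actW D w.reverse r) = r := by
  induction w generalizing r with
  | nil => rfl
  | cons i w ih =>
    have hw' : ∀ j ∈ w, j < D.rank := fun j hj => hw j (by simp [hj])
    rw [List.reverse_cons, actW_append, actW_cons, actW_cons, actW_nil,
      ih hw' (hD.refl_lt (hw i (by simp)) hr), hD.refl_refl (hw i (by simp)) hr]

theorem neg_mem_subJ {J : Set ℕ} {r : ℕ} (hr : r < D.nroots) (h : r ∈ subJ D J) :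
    D.neg r ∈ subJ D J := fun i hi hiJ => by rw [hD.coef_neg hr hi, h i hi hiJ, _root_.neg_zero]

theorem simple_mem_subJ {J : Set ℕ} {j : ℕ} (hj : j < D.rank) (hJ : j ∈ J) :
    D.simple j ∈ subJ D J := fun i hi hiJ => by
  rw [hD.coef_simple hj hi, if_neg]
  rintro rfl
  exact hiJ hJ

theorem exists_word_sub {J : Set ℕ} {r : ℕ} (hr : r < D.nroots) (h : r ∈ subJ D J) :
    ∃ w : List ℕ, (∀ i ∈ w, i < D.rank ∧ i ∈ J) ∧ ∃ i < D.rank, i ∈ J ∧ actW D w (D.simple i) = r := by
  suffices pos : ∀ (n r : ℕ), r < D.nroots → 0 < ht D r → r ∈ subJ D J → (ht D r).toNat ≤ n →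
      ∃ w : List ℕ, (∀ i ∈ w, i < D.rank ∧ i ∈ J) ∧
        ∃ i < D.rank, i ∈ J ∧ actW D w (D.simple i) = r by
    by_cases hp : 0 < ht D r
    · exact pos _ r hr hp h le_rfl
    · have hneg : 0 < ht D (D.neg r) := by
        have := hD.ht_ne_zero hr; rw [hD.ht_neg hr]; omega
      obtain ⟨w, hw, i, hi, hiJ, e⟩ :=
        pos _ _ (hD.neg_lt hr) hneg (hD.neg_mem_subJ hr h) le_rfl
      refine ⟨w ++ [i], by simpa [or_imp, forall_and] using
        ⟨⟨fun a ha => (hw a ha).1, hi⟩, fun a ha => (hw a ha).2, hiJ⟩, i, hi, hiJ, ?_⟩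
      rw [actW_append, actW_cons, actW_nil, hD.refl_simple hi,
        hD.actW_neg (fun a ha => (hw a ha).1) (hD.simple_lt hi), e, hD.neg_neg hr]
  intro n
  induction n with
  | zero => intro r _ h1 _ h2; omega
  | succ n ih =>
    intro r hr hp hJ hn
    rcases hD.descent hr hp with ⟨i, hi, rfl⟩ | ⟨j, hj, h1, h2⟩
    · refine ⟨[], by simp, i, hi, ?_, rfl⟩
      by_contra hiJ
      have := hJ i hi hiJ
      rw [hD.coef_simple hi hi, if_pos rfl] at this
      omega
    · have hjJ : j ∈ J := by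
        by_contra hjJ
        have h3 := hJ j hj hjJ
        have h4 := hD.coef_nonneg (hD.refl_lt hj hr) h1 hj
        rw [hD.coef_refl hj hr hj, if_pos rfl, h3] at h4
        rw [hD.ht_refl hj hr] at h2
        omega
      obtain ⟨w, hw, i, hi, hiJ, e⟩ := ih _ (hD.refl_lt hj hr) h1 (fun k hk hkJ => by
        rw [hD.coef_refl hj hr hk, hJ k hk hkJ, if_neg]
        · simp
        · rintro rfl; exact hkJ hjJ) (by omega)
      refine ⟨j :: w, by simpa [or_imp, forall_and] using
        ⟨⟨hj, fun a ha => (hw a ha).1⟩, hjJ, fun a ha => (hw a ha).2⟩, i, hi, hiJ, ?_⟩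
      rw [actW_cons, e, hD.refl_refl hj hr]

section subgroups

variable (hs : chkSupp D = true)

include hs

theorem inRootSub_iff {J : Set ℕ} {r : ℕ} :
    D.InRootSub J r ↔ r < D.nroots ∧ r ∈ subJ D J :=
  ⟨fun h => ⟨h.1, fun i hi hiJ => (coroot_zero_iff hs h.1 hi).1 (h.2 i hi hiJ)⟩,
    fun h => ⟨h.1, fun i hi hiJ => (coroot_zero_iff hs h.1 hi).2 (h.2 i hi hiJ)⟩⟩

theorem unipotentRadical_eq (J : Set ℕ) : D.unipotentRadical F J = XS D F (radJ D J) := by
  refine le_antisymm ((Subgroup.closure_le _).2 ?_) (XS_le fun r t hr h => ?_)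
  · rintro g ⟨r, t, hp, hn, he⟩
    rw [show g = xg D F r t from Units.ext (he.trans (hD.val_xg r t).symm)]
    exact xg_mem_XS hp.1 (show r ∈ radJ D J from
      ⟨(hD.isPosRoot_iff hp.1).1 hp, fun h => hn ((hD.inRootSub_iff hs).2 ⟨hp.1, h⟩)⟩) t
  · obtain ⟨h1, h2⟩ : 1 ≤ ht D r ∧ r ∉ subJ D J := h
    exact Subgroup.subset_closure ⟨r, t, (hD.isPosRoot_iff hr).2 h1,
      fun h => h2 ((hD.inRootSub_iff hs).1 h).2, hD.val_xg r t⟩

theorem leviSubgroup_eq (J : Set ℕ) :
    D.leviSubgroup F J = D.diagonalSubgroup F ⊔ XS D F (subJ D J) := by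
  unfold ChevalleyDatum.leviSubgroup
  refine congrArg (fun K => D.diagonalSubgroup F ⊔ K)
    (le_antisymm ((Subgroup.closure_le _).2 ?_) (XS_le fun r t hr h => ?_))
  · rintro g ⟨r, t, hr, he⟩
    rw [show g = xg D F r t from Units.ext (he.trans (hD.val_xg r t).symm)]
    obtain ⟨h1, h2⟩ := (hD.inRootSub_iff hs).1 hr
    exact xg_mem_XS h1 h2 t
  · exact Subgroup.subset_closure ⟨r, t, (hD.inRootSub_iff hs).2 ⟨hr, h⟩, hD.val_xg r t⟩

theorem closure_parJ (J : Set ℕ) :
    Subgroup.closure {g : GL D.Idx F | ∃ (r : ℕ) (t : F), (D.IsPosRoot r ∨ D.InRootSub J r) ∧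
      (g : Matrix D.Idx D.Idx F) = D.x F r t} = XS D F (parJ D J) := by
  refine le_antisymm ((Subgroup.closure_le _).2 ?_) (XS_le fun r t hr h => ?_)
  · rintro g ⟨r, t, hr, he⟩
    rw [show g = xg D F r t from Units.ext (he.trans (hD.val_xg r t).symm)]
    rcases hr with hr | hr
    · exact xg_mem_XS hr.1 (show r ∈ parJ D J from Or.inl ((hD.isPosRoot_iff hr.1).1 hr)) t
    · exact xg_mem_XS hr.1 (show r ∈ parJ D J from Or.inr ((hD.inRootSub_iff hs).1 hr).2) t
  · rcases (show 1 ≤ ht D r ∨ r ∈ subJ D J from h) with h | h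
    · exact Subgroup.subset_closure ⟨r, t, Or.inl ((hD.isPosRoot_iff hr).2 h), hD.val_xg r t⟩
    · exact Subgroup.subset_closure ⟨r, t, Or.inr ((hD.inRootSub_iff hs).2 ⟨hr, h⟩),
        hD.val_xg r t⟩

omit hs in
theorem parabolic_gen (J : Set ℕ) : D.parabolicSubgroup F J = D.borelSubgroup F ⊔
    Subgroup.closure {g | ∃ j ∈ J, j < D.rank ∧ g = ng D F (D.simple j) 1} := by
  unfold ChevalleyDatum.parabolicSubgroup
  refine congrArg (fun K => D.borelSubgroup F ⊔ K)
    (congrArg Subgroup.closure (Set.ext fun g => ⟨?_, ?_⟩))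
  · rintro ⟨j, hjJ, hj, e⟩
    exact ⟨j, hjJ, hj, Units.ext (e.trans (hD.val_ng _ 1).symm)⟩
  · rintro ⟨j, hjJ, hj, rfl⟩
    exact ⟨j, hjJ, hj, hD.val_ng _ 1⟩

omit hs in
theorem nw_mem_parabolic {J : Set ℕ} {w : List ℕ} (hw : ∀ i ∈ w, i < D.rank ∧ i ∈ J) :
    nw D F w ∈ D.parabolicSubgroup F J := by
  refine list_prod_mem fun y hy => ?_
  obtain ⟨i, hi, rfl⟩ := List.mem_map.1 hy
  rw [hD.parabolic_gen]
  exact Subgroup.mem_sup_right (Subgroup.subset_closure ⟨i, (hw i hi).2, (hw i hi).1, rfl⟩)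

omit hs in
theorem xg_mem_borel {r : ℕ} (hr : r < D.nroots) (hp : 1 ≤ ht D r) (t : F) :
    xg D F r t ∈ D.borelSubgroup F := by
  refine Subgroup.mem_sup_left ?_
  rw [hD.posUnipotent_eq]
  exact xg_mem_XS hr hp t

/-- `P_J = H X_{pos ∪ J}` -/
theorem parabolic_eq (J : Set ℕ) :
    D.parabolicSubgroup F J = D.diagonalSubgroup F ⊔ XS D F (parJ D J) := by
  refine le_antisymm ?_ (sup_le ?_ (XS_le fun r t hr h => ?_))
  · rw [hD.parabolic_gen]
    refine sup_le (sup_le ?_ le_sup_left) ((Subgroup.closure_le _).2 ?_)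
    · rw [hD.posUnipotent_eq]
      exact le_trans (XS_mono fun r hr => Or.inl hr) le_sup_right
    · rintro g ⟨j, hjJ, hj, rfl⟩
      have hp := hD.simple_lt hj
      have h1 : ∀ t : F, xg D F (D.simple j) t ∈ XS D F (parJ D J) := fun t =>
        xg_mem_XS hp (show D.simple j ∈ parJ D J from Or.inr (hD.simple_mem_subJ hj hjJ)) t
      have h2 : ∀ t : F, xg D F (D.neg (D.simple j)) t ∈ XS D F (parJ D J) := fun t =>
        xg_mem_XS (hD.neg_lt hp) (show D.neg (D.simple j) ∈ parJ D J from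
          Or.inr (hD.neg_mem_subJ hp (hD.simple_mem_subJ hj hjJ))) t
      exact Subgroup.mem_sup_right (mul_mem (mul_mem (h1 _) (h2 _)) (h1 _))
  · exact le_trans le_sup_right le_sup_left
  · rcases (show 1 ≤ ht D r ∨ r ∈ subJ D J from h) with h | h
    · exact Subgroup.mem_sup_left (hD.xg_mem_borel hr h t)
    · obtain ⟨w, hw, i, hi, -, rfl⟩ := hD.exists_word_sub hr h
      have hp := hD.simple_lt hi
      have e : xg D F (actW D w (D.simple i)) t =
          nw D F w * xg D F (D.simple i) ((etaWord D w (D.simple i) : F) * t) * (nw D F w)⁻¹ := by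
        rw [hD.nw_conj_x (fun a ha => (hw a ha).1) hp, ← mul_assoc, ← Int.cast_mul, etaWord_sq,
          Int.cast_one, one_mul]
      rw [e]
      refine mul_mem (mul_mem (hD.nw_mem_parabolic hw) (Subgroup.mem_sup_left
        (hD.xg_mem_borel hp (by rw [hD.ht_simple hi]) _))) (inv_mem (hD.nw_mem_parabolic hw))

theorem radical_sup_levi (J : Set ℕ) :
    D.unipotentRadical F J ⊔ D.leviSubgroup F J = D.parabolicSubgroup F J := by
  rw [hD.parabolic_eq hs, hD.leviSubgroup_eq hs, hD.unipotentRadical_eq hs]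
  refine le_antisymm (sup_le (le_trans (XS_mono fun r hr => ?_) le_sup_right)
    (sup_le le_sup_left (le_trans (XS_mono fun r hr => ?_) le_sup_right)))
    (sup_le (le_trans le_sup_left le_sup_right) (XS_le fun r t hr h => ?_))
  · exact Or.inl hr.1
  · exact Or.inr hr
  · by_cases h' : r ∈ subJ D J
    · exact Subgroup.mem_sup_right (Subgroup.mem_sup_right (xg_mem_XS hr h' t))
    · exact Subgroup.mem_sup_left (xg_mem_XS hr
        (show r ∈ radJ D J from ⟨(show 1 ≤ ht D r ∨ r ∈ subJ D J from h).resolve_right h', h'⟩) t)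

omit hs in
theorem coef_lt_of_radJ {J : Set ℕ} {r : ℕ} (hr : r < D.nroots) (h : r ∈ radJ D J) :
    (∀ k < D.rank, 0 ≤ coef D r k) ∧ ∃ k < D.rank, k ∉ J ∧ 0 < coef D r k := by
  obtain ⟨h1, h2⟩ : 1 ≤ ht D r ∧ r ∉ subJ D J := h
  have hnn : ∀ k < D.rank, 0 ≤ coef D r k := fun k hk => hD.coef_nonneg hr (by omega) hk
  refine ⟨hnn, ?_⟩
  by_contra hcon
  refine h2 fun k hk hkJ => ?_
  by_contra hne
  exact hcon ⟨k, hk, hkJ, lt_of_le_of_ne (hnn k hk) (Ne.symm hne)⟩

omit hs in
theorem supp_xg {P : D.Idx → D.Idx → Prop} {r : ℕ} (hr : r < D.nroots)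
    (h : ∀ a b : D.Idx, (∃ k : ℕ, 1 ≤ k ∧ ∀ j < D.rank, wc D j a = wc D j b + k * coef D r j) → P a b)
    (t : F) : SuppRel P (xg D F r t : Matrix D.Idx D.Idx F) := by
  intro a b hab
  have hz : ∀ k, 1 ≤ k → Mc D F k r a b = 0 := by
    intro k hk
    by_contra hne
    have hM : M D k r a b ≠ 0 := fun e => hne (by simp [Mc, e])
    refine hab (h a b ⟨k, hk, fun j hj => ?_⟩)
    rw [hD.M_homog hr hk hM hj]
  rw [hD.val_xg, hD.x_eq F hr, show xR D F r t - 1 =
    t • Mc D F 1 r + t ^ 2 • Mc D F 2 r + t ^ 3 • Mc D F 3 r by rw [xR]; abel]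
  simp only [Matrix.add_apply, Matrix.smul_apply, smul_eq_mul]
  rw [hz 1 le_rfl, hz 2 (by omega), hz 3 (by omega)]
  simp

theorem radical_inf_levi (J : Set ℕ) :
    D.unipotentRadical F J ⊓ D.leviSubgroup F J = ⊥ := by
  rw [hD.unipotentRadical_eq hs, hD.leviSubgroup_eq hs, eq_bot_iff]
  rintro g ⟨hu, hl⟩
  have hU : SuppRel (GtJ D J) (g : Matrix D.Idx D.Idx F) := by
    refine suppRel_of_closure ?_ ?_ hu
    · rintro a b c ⟨h1, k, hk, hkJ, hlt⟩ ⟨h2, -⟩
      exact ⟨fun j hj hjJ => le_trans (h2 j hj hjJ) (h1 j hj hjJ), k, hk, hkJ,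
        lt_of_le_of_lt (h2 k hk hkJ) hlt⟩
    · rintro y ⟨r, t, hr, hrS, rfl⟩
      have key : ∀ t : F, SuppRel (GtJ D J) (xg D F r t : Matrix D.Idx D.Idx F) := by
        intro t
        refine hD.supp_xg hr ?_ t
        rintro a b ⟨m, hm, hh⟩
        obtain ⟨hnn, k, hk, hkJ, hpos⟩ := hD.coef_lt_of_radJ hr hrS
        have hm' : (1 : ℤ) ≤ (m : ℤ) := by exact_mod_cast hm
        refine ⟨fun j hj _ => ?_, k, hk, hkJ, ?_⟩
        · rw [hh j hj]
          nlinarith [hnn j hj]
        · rw [hh k hk]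
          nlinarith
      exact ⟨key t, by rw [hD.xg_inv]; exact key (-t)⟩
  have hL : SuppRel (EqJ D J) (g : Matrix D.Idx D.Idx F) := by
    have hl' : g ∈ Subgroup.closure ((D.diagonalSubgroup F : Set (GL D.Idx F)) ∪
        {g | ∃ r t, r < D.nroots ∧ r ∈ subJ D J ∧ g = xg D F r t}) := by
      rw [Subgroup.closure_union, Subgroup.closure_eq]
      exact hl
    refine suppRel_of_closure (fun a b c h1 h2 j hj hjJ => (h1 j hj hjJ).trans (h2 j hj hjJ)) ?_ hl'
    rintro y (hy | ⟨r, t, hr, hrS, rfl⟩)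
    · have key : ∀ y ∈ D.diagonalSubgroup F,
          SuppRel (EqJ D J) ((y : GL D.Idx F) : Matrix D.Idx D.Idx F) := by
        intro y hy a b hab
        obtain ⟨χ, hχ⟩ := hD.H_diag hy
        have hne : a ≠ b := by rintro rfl; exact hab fun j _ _ => rfl
        rw [Matrix.sub_apply, hχ, Matrix.diagonal_apply_ne _ hne, Matrix.one_apply_ne hne, sub_zero]
      exact ⟨key y hy, key _ (inv_mem hy)⟩
    · have key : ∀ t : F, SuppRel (EqJ D J) (xg D F r t : Matrix D.Idx D.Idx F) := by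
        intro t
        refine hD.supp_xg hr ?_ t
        rintro a b ⟨m, -, hh⟩ j hj hjJ
        rw [hh j hj, hrS j hj hjJ, mul_zero, add_zero]
      exact ⟨key t, by rw [hD.xg_inv]; exact key (-t)⟩
  refine Subgroup.mem_bot.2 (Units.ext ?_)
  rw [Units.val_one, ← sub_eq_zero]
  ext a b
  by_cases h : GtJ D J a b
  · refine hL a b fun h' => ?_
    obtain ⟨-, k, hk, hkJ, hlt⟩ := h
    exact absurd (h' k hk hkJ) (ne_of_gt hlt)
  · exact hU a b h

end subgroups

end Good

namespace CommGood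

variable (hC : CommGood D) (hs : chkSupp D = true)

include hC hs

theorem parabolic_le_normalizer (J : Set ℕ) : D.parabolicSubgroup F J ≤
    Subgroup.normalizer (D.unipotentRadical F J : Set (GL D.Idx F)) := by
  have hG := hC.toGood
  rw [hG.parabolic_eq hs, hG.unipotentRadical_eq hs]
  refine sup_le (hG.H_le_normalizer_XS _) (XS_le fun r t hr h => ?_)
  refine hC.xg_mem_normalizer hr (fun s hs hsS => ?_) t
  obtain ⟨-, k, hk, hkJ, hpos⟩ := hG.coef_lt_of_radJ hs hsS
  have hrk : 0 ≤ coef D r k := by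
    rcases (show 1 ≤ ht D r ∨ r ∈ subJ D J from h) with h | h
    · exact hG.coef_nonneg hr (by omega) hk
    · exact (h k hk hkJ).ge
  refine ⟨?_, fun _ c hc => ?_⟩
  · intro e
    rw [e, hG.coef_neg hr hk] at hpos
    omega
  · obtain ⟨hc0, hc1, hc2, hc3⟩ := hG.commTerms_coef hr hs hc
    have hck : 0 < coef D c.1 k := by
      rw [hc3 k hk]
      have : (1 : ℤ) ≤ (c.2.2.2 : ℤ) := by exact_mod_cast hc2
      positivity
    refine show c.1 ∈ radJ D J from ⟨?_, fun hh => ?_⟩
    · have := hG.ht_pos_of_coef hc0 hk hck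
      omega
    · rw [hh k hk hkJ] at hck
      exact lt_irrefl _ hck

/-- a root element in the radical belongs to a root of the radical -/
theorem mem_radJ_of_xg {J : Set ℕ} {s : ℕ} (hsr : s < D.nroots) {t : F} (ht0 : t ≠ 0)
    (h : xg D F s t ∈ D.unipotentRadical F J) : s ∈ radJ D J := by
  have hG := hC.toGood
  have hne : xg D F s t ≠ 1 := fun e => ht0 (hG.xg_injective hsr (by rw [e, hG.xg_zero]))
  have hp : 1 ≤ ht D s := by
    by_contra hn
    have h0 := hG.ht_ne_zero hsr
    have hb : xg D F s t ∈ D.borelSubgroup F ⊓ D.negUnipotent F := by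
      refine ⟨?_, ?_⟩
      · rw [hG.unipotentRadical_eq hs] at h
        refine Subgroup.mem_sup_left ?_
        rw [hG.posUnipotent_eq]
        exact XS_mono (fun r hr => hr.1) h
      · rw [hG.negUnipotent_eq]
        exact xg_mem_XS hsr (show ht D s ≤ -1 by omega) t
    rw [hG.borel_inf_neg, Subgroup.mem_bot] at hb
    exact hne hb
  refine show s ∈ radJ D J from ⟨hp, fun hsJ => hne ?_⟩
  have hl : xg D F s t ∈ D.unipotentRadical F J ⊓ D.leviSubgroup F J := by
    refine ⟨h, ?_⟩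
    rw [hG.leviSubgroup_eq hs]
    exact Subgroup.mem_sup_right (xg_mem_XS hsr hsJ t)
  rwa [hG.radical_inf_levi hs, Subgroup.mem_bot] at hl

/-- a reduced word normalising the radical lies in `J` -/
theorem word_in_J (J : Set ℕ) : ∀ w : List ℕ, (∀ i ∈ w, i < D.rank) → RedW D w →
    nw D F w ∈ Subgroup.normalizer (D.unipotentRadical F J : Set (GL D.Idx F)) →
    ∀ i ∈ w, i ∈ J := by
  intro w
  induction w with
  | nil => simp
  | cons i u ih =>
    intro hw hred hn
    have hG := hC.toGood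
    have hu : ∀ a ∈ u, a < D.rank := fun a ha => hw a (by simp [ha])
    have hi : i < D.rank := hw i (by simp)
    have hp := hG.simple_lt hi
    set r := actW D u.reverse (D.simple i) with hr
    have hrl : r < D.nroots := hG.actW_lt (fun a ha => hu a (List.mem_reverse.1 ha)) hp
    have hrp : 0 < ht D r := hred.1
    have hwr : actW D (i :: u) r = D.neg (D.simple i) := by
      rw [actW_cons, hr, hG.actW_reverse hu hp, hG.refl_simple hi]
    have hwn : actW D (i :: u) (D.neg r) = D.simple i := by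
      rw [hG.actW_neg hw hrl, hwr, hG.neg_neg hp]
    have fwd : ∀ s < D.nroots, s ∈ radJ D J → actW D (i :: u) s ∈ radJ D J := by
      intro s hs' hsS
      refine hC.mem_radJ_of_xg hs (hG.actW_lt hw hs') (t := (etaWord D (i :: u) s : F) * 1) ?_ ?_
      · rw [mul_one]
        exact left_ne_zero_of_mul_eq_one
          (show ((etaWord D (i :: u) s : ℤ) : F) * (etaWord D (i :: u) s : F) = 1 by
            rw [← Int.cast_mul, Good.etaWord_sq, Int.cast_one])
      · rw [← hG.nw_conj_x hw hs']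
        refine (Subgroup.mem_normalizer_iff.1 hn _).1 ?_
        rw [hG.unipotentRadical_eq hs]
        exact xg_mem_XS hs' hsS 1
    have bwd : ∀ s < D.nroots, actW D (i :: u) s ∈ radJ D J → s ∈ radJ D J := by
      intro s hs' hsS
      refine hC.mem_radJ_of_xg hs hs' (t := (1 : F)) one_ne_zero ?_
      refine (Subgroup.mem_normalizer_iff.1 hn _).2 ?_
      rw [hG.nw_conj_x hw hs', hG.unipotentRadical_eq hs]
      exact xg_mem_XS (hG.actW_lt hw hs') hsS _
    have hrJ : r ∈ subJ D J := by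
      by_contra hrJ
      have := fwd r hrl (show r ∈ radJ D J from ⟨by omega, hrJ⟩)
      rw [hwr] at this
      have h2 : 1 ≤ ht D (D.neg (D.simple i)) := this.1
      rw [hG.ht_neg hp, hG.ht_simple hi] at h2
      omega
    have hiJ : i ∈ J := by
      by_contra hiJ
      have hps : D.simple i ∈ radJ D J := ⟨by rw [hG.ht_simple hi], fun h => by
        have := h i hi hiJ
        rw [hG.coef_simple hi hi, if_pos rfl] at this
        omega⟩
      have h2 : 1 ≤ ht D (D.neg r) := (bwd (D.neg r) (hG.neg_lt hrl) (by rw [hwn]; exact hps)).1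
      rw [hG.ht_neg hrl] at h2
      omega
    intro a ha
    rcases List.mem_cons.1 ha with rfl | ha
    · exact hiJ
    refine ih hu hred.2 ?_ a ha
    have hni : ng D F (D.simple i) 1 ∈
        Subgroup.normalizer (D.unipotentRadical F J : Set (GL D.Idx F)) := by
      refine hC.parabolic_le_normalizer hs J ?_
      rw [hG.parabolic_gen]
      exact Subgroup.mem_sup_right (Subgroup.subset_closure ⟨i, hiJ, hi, rfl⟩)
    have e : nw D F u = (ng D F (D.simple i) 1)⁻¹ * nw D F (i :: u) := by simp [nw]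
    rw [e]
    exact mul_mem (inv_mem hni) hn

end CommGood

theorem normalizer_radical_mem (hD : D ∈ [chevG2, chevB2, chevD4, chevF4, chevE6, chevE7, chevE8])
    (J : Set ℕ) :
    Subgroup.normalizer (D.unipotentRadical F J : Set (GL D.Idx F)) ⊓ D.group F =
      D.parabolicSubgroup F J := by
  have hC := commGood_of_mem hD
  have hs := chkSupp_of_mem hD
  have hG := hC.toGood
  refine le_antisymm (fun g hg => ?_) (le_inf (hC.parabolic_le_normalizer hs J) ?_)
  · obtain ⟨hn, hgG⟩ := hg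
    obtain ⟨b, hb, w, hw, hred, b', hb', rfl⟩ := exists_bruhat_mem hD hgG
    have hbP : D.borelSubgroup F ≤ D.parabolicSubgroup F J := le_sup_left
    have hle := hC.parabolic_le_normalizer (F := F) hs J
    have hwn : nw D F w ∈ Subgroup.normalizer (D.unipotentRadical F J : Set (GL D.Idx F)) := by
      have := mul_mem (mul_mem (inv_mem (hle (hbP hb))) hn) (inv_mem (hle (hbP hb')))
      simpa [mul_assoc] using this
    exact mul_mem (mul_mem (hbP hb) (hG.nw_mem_parabolic fun a ha =>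
      ⟨hw a ha, hC.word_in_J hs J w hw hred hwn a ha⟩)) (hbP hb')
  · rw [hG.parabolic_eq hs]
    refine sup_le hG.diagonalSubgroup_le_group ?_
    rw [hG.group_eq]
    exact XS_mono (Set.subset_univ _)

end Cfsg.Agent.ChevCore
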