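/-
The separation certificates of the seven data.
-/
import Cfsg.Agent.Lib.ChevCore.Graded
import Cfsg.Agent.Lib.ChevCore.CommAll

set_option autoImplicit false

namespace Cfsg.Agent.ChevCore

open Cfsg.Lie

theorem uGoodG2 : UGood chevG2 := uGood_of_chk chevG2 commGoodG2 chkLinkG2 (by decide +kernel)

theorem uGoodB2 : UGood chevB2 := uGood_of_chk chevB2 commGoodB2 chkLinkB2 (by decide +kernel)

theorem uGoodD4 : UGood chevD4 := uGood_of_chk chevD4 commGoodD4 chkLinkD4 (by decide +kernel)

theorem uGoodF4 : UGood chevF4 := uGood_of_chk chevF4 commGoodF4 chkLinkF4 (by decide +kernel)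

theorem uGoodE6 : UGood chevE6 := uGood_of_chk chevE6 commGoodE6 chkLinkE6 (by decide +kernel)

theorem uGoodE7 : UGood chevE7 := uGood_of_chk chevE7 commGoodE7 chkLinkE7 (by decide +kernel)

theorem uGoodE8 : UGood chevE8 := uGood_of_chk chevE8 commGoodE8 chkLinkE8 (by decide +kernel)

/-- each of the seven tabulated data satisfies the certificates for unipotent subgroups -/
theorem uGood_of_mem {D : ChevalleyDatum}
    (hD : D ∈ [chevG2, chevB2, chevD4, chevF4, chevE6, chevE7, chevE8]) : UGood D := by
  simp only [List.mem_cons, List.not_mem_nil, or_false] at hD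
  rcases hD with rfl | rfl | rfl | rfl | rfl | rfl | rfl
  exacts [uGoodG2, uGoodB2, uGoodD4, uGoodF4, uGoodE6, uGoodE7, uGoodE8]

end Cfsg.Agent.ChevCore
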