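/-
Smith forms of the Cartan matrices of the seven data.
-/
import Cfsg.Agent.Lib.ChevCore.TorusGroup
import Cfsg.Agent.Lib.ChevCore.SepAll

set_option autoImplicit false

namespace Cfsg.Agent.ChevCore

open Cfsg.Lie
open Matrix

theorem card_diagonalG2 {F : Type*} [Field F] [Fintype F] :
    (1) * Nat.card (chevG2.diagonalSubgroup F) = (Fintype.card F - 1) ^ chevG2.rank := by
  have h := goodG2.card_diagonalSubgroup (F := F) (U := (!![-1, 0; 2, 1] : Matrix (Fin 2) (Fin 2) ℤ))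
    (U' := (!![-1, 0; 2, 1] : Matrix (Fin 2) (Fin 2) ℤ))
    (V := (!![0, 1; 1, 2] : Matrix (Fin 2) (Fin 2) ℤ))
    (V' := (!![-2, 1; 1, 0] : Matrix (Fin 2) (Fin 2) ℤ))
    (d := ![1, 1]) (by decide +kernel) (by decide +kernel) (by decide +kernel) (by decide +kernel)
  have h' : (∏ i : Fin 2, (Fintype.card F - 1).gcd (![1, 1] i)) *
      Nat.card (chevG2.diagonalSubgroup F) = (Fintype.card F - 1) ^ chevG2.rank := h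
  simpa [Fin.prod_univ_succ, Nat.gcd_comm, mul_assoc] using h'

theorem card_diagonalB2 {F : Type*} [Field F] [Fintype F] :
    (Nat.gcd 2 (Fintype.card F - 1)) * Nat.card (chevB2.diagonalSubgroup F) = (Fintype.card F - 1) ^ chevB2.rank := by
  have h := goodB2.card_diagonalSubgroup (F := F) (U := (!![-1, 0; 2, 1] : Matrix (Fin 2) (Fin 2) ℤ))
    (U' := (!![-1, 0; 2, 1] : Matrix (Fin 2) (Fin 2) ℤ))
    (V := (!![0, 1; 1, 2] : Matrix (Fin 2) (Fin 2) ℤ))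
    (V' := (!![-2, 1; 1, 0] : Matrix (Fin 2) (Fin 2) ℤ))
    (d := ![1, 2]) (by decide +kernel) (by decide +kernel) (by decide +kernel) (by decide +kernel)
  have h' : (∏ i : Fin 2, (Fintype.card F - 1).gcd (![1, 2] i)) *
      Nat.card (chevB2.diagonalSubgroup F) = (Fintype.card F - 1) ^ chevB2.rank := h
  simpa [Fin.prod_univ_succ, Nat.gcd_comm, mul_assoc] using h'

theorem card_diagonalD4 {F : Type*} [Field F] [Fintype F] :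
    (Nat.gcd 2 (Fintype.card F - 1) * Nat.gcd 2 (Fintype.card F - 1)) * Nat.card (chevD4.diagonalSubgroup F) = (Fintype.card F - 1) ^ chevD4.rank := by
  have h := goodD4.card_diagonalSubgroup (F := F) (U := (!![-1, 0, 0, 0; -2, -1, 0, 0; -3, -2, -1, 0; 2, 2, 1, 1] : Matrix (Fin 4) (Fin 4) ℤ))
    (U' := (!![-1, 0, 0, 0; 2, -1, 0, 0; -1, 2, -1, 0; -1, 0, 1, 1] : Matrix (Fin 4) (Fin 4) ℤ))
    (V := (!![0, 0, 0, 1; 1, 0, 0, 2; 0, 1, -1, 1; 0, 0, 1, 2] : Matrix (Fin 4) (Fin 4) ℤ))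
    (V' := (!![-2, 1, 0, 0; -3, 0, 1, 1; -2, 0, 0, 1; 1, 0, 0, 0] : Matrix (Fin 4) (Fin 4) ℤ))
    (d := ![1, 1, 2, 2]) (by decide +kernel) (by decide +kernel) (by decide +kernel) (by decide +kernel)
  have h' : (∏ i : Fin 4, (Fintype.card F - 1).gcd (![1, 1, 2, 2] i)) *
      Nat.card (chevD4.diagonalSubgroup F) = (Fintype.card F - 1) ^ chevD4.rank := h
  simpa [Fin.prod_univ_succ, Nat.gcd_comm, mul_assoc] using h'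

theorem card_diagonalF4 {F : Type*} [Field F] [Fintype F] :
    (1) * Nat.card (chevF4.diagonalSubgroup F) = (Fintype.card F - 1) ^ chevF4.rank := by
  have h := goodF4.card_diagonalSubgroup (F := F) (U := (!![-1, 0, 0, 0; -2, -1, 0, 0; -2, -2, -1, 0; 2, 3, 2, 1] : Matrix (Fin 4) (Fin 4) ℤ))
    (U' := (!![-1, 0, 0, 0; 2, -1, 0, 0; -2, 2, -1, 0; 0, -1, 2, 1] : Matrix (Fin 4) (Fin 4) ℤ))
    (V := (!![0, 0, 0, 1; 1, 0, 0, 2; 0, 1, 0, 3; 0, 0, 1, 2] : Matrix (Fin 4) (Fin 4) ℤ))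
    (V' := (!![-2, 1, 0, 0; -3, 0, 1, 0; -2, 0, 0, 1; 1, 0, 0, 0] : Matrix (Fin 4) (Fin 4) ℤ))
    (d := ![1, 1, 1, 1]) (by decide +kernel) (by decide +kernel) (by decide +kernel) (by decide +kernel)
  have h' : (∏ i : Fin 4, (Fintype.card F - 1).gcd (![1, 1, 1, 1] i)) *
      Nat.card (chevF4.diagonalSubgroup F) = (Fintype.card F - 1) ^ chevF4.rank := h
  simpa [Fin.prod_univ_succ, Nat.gcd_comm, mul_assoc] using h'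

theorem card_diagonalE6 {F : Type*} [Field F] [Fintype F] :
    (Nat.gcd 3 (Fintype.card F - 1)) * Nat.card (chevE6.diagonalSubgroup F) = (Fintype.card F - 1) ^ chevE6.rank := by
  have h := goodE6.card_diagonalSubgroup (F := F) (U := (!![-1, 0, 0, 0, 0, 0; 0, -1, 0, 0, 0, 0; 1, -2, 0, -1, 0, 0; 2, -3, 0, -2, -1, 0; -2, 1, -1, 0, 0, 0; -5, 0, -4, -3, -2, -1] : Matrix (Fin 6) (Fin 6) ℤ))
    (U' := (!![-1, 0, 0, 0, 0, 0; 0, -1, 0, 0, 0, 0; 2, -1, 0, 0, -1, 0; -1, 2, -1, 0, 0, 0; 0, -1, 2, -1, 0, 0; 0, 0, -1, 2, 4, -1] : Matrix (Fin 6) (Fin 6) ℤ))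
    (V := (!![0, 0, 0, 0, 1, -2; 0, 0, 0, 0, 2, -3; 1, 0, 0, 0, 2, -4; 0, 1, 0, 0, 4, -6; 0, 0, 1, 0, 4, -5; 0, 0, 0, 1, 4, -4] : Matrix (Fin 6) (Fin 6) ℤ))
    (V' := (!![-2, 0, 1, 0, 0, 0; 0, -2, 0, 1, 0, 0; 2, -3, 0, 0, 1, 0; 4, -4, 0, 0, 0, 1; -3, 2, 0, 0, 0, 0; -2, 1, 0, 0, 0, 0] : Matrix (Fin 6) (Fin 6) ℤ))
    (d := ![1, 1, 1, 1, 1, 3]) (by decide +kernel) (by decide +kernel) (by decide +kernel) (by decide +kernel)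
  have h' : (∏ i : Fin 6, (Fintype.card F - 1).gcd (![1, 1, 1, 1, 1, 3] i)) *
      Nat.card (chevE6.diagonalSubgroup F) = (Fintype.card F - 1) ^ chevE6.rank := h
  simpa [Fin.prod_univ_succ, Nat.gcd_comm, mul_assoc] using h'

theorem card_diagonalE7 {F : Type*} [Field F] [Fintype F] :
    (Nat.gcd 2 (Fintype.card F - 1)) * Nat.card (chevE7.diagonalSubgroup F) = (Fintype.card F - 1) ^ chevE7.rank := by
  have h := goodE7.card_diagonalSubgroup (F := F) (U := (!![-1, 0, 0, 0, 0, 0, 0; 0, -1, 0, 0, 0, 0, 0; 1, -2, 0, -1, 0, 0, 0; 2, -3, 0, -2, -1, 0, 0; 3, -4, 0, -3, -2, -1, 0; -2, 1, -1, 0, 0, 0, 0; -4, -1, -4, -4, -3, -2, -1] : Matrix (Fin 7) (Fin 7) ℤ))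
    (U' := (!![-1, 0, 0, 0, 0, 0, 0; 0, -1, 0, 0, 0, 0, 0; 2, -1, 0, 0, 0, -1, 0; -1, 2, -1, 0, 0, 0, 0; 0, -1, 2, -1, 0, 0, 0; 0, 0, -1, 2, -1, 0, 0; 0, 0, 0, -1, 2, 4, -1] : Matrix (Fin 7) (Fin 7) ℤ))
    (V := (!![0, 0, 0, 0, 0, 1, -2; 0, 0, 0, 0, 0, 2, -3; 1, 0, 0, 0, 0, 2, -4; 0, 1, 0, 0, 0, 4, -6; 0, 0, 1, 0, 0, 4, -5; 0, 0, 0, 1, 0, 4, -4; 0, 0, 0, 0, 1, 4, -3] : Matrix (Fin 7) (Fin 7) ℤ))
    (V' := (!![-2, 0, 1, 0, 0, 0, 0; 0, -2, 0, 1, 0, 0, 0; 2, -3, 0, 0, 1, 0, 0; 4, -4, 0, 0, 0, 1, 0; 6, -5, 0, 0, 0, 0, 1; -3, 2, 0, 0, 0, 0, 0; -2, 1, 0, 0, 0, 0, 0] : Matrix (Fin 7) (Fin 7) ℤ))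
    (d := ![1, 1, 1, 1, 1, 1, 2]) (by decide +kernel) (by decide +kernel) (by decide +kernel) (by decide +kernel)
  have h' : (∏ i : Fin 7, (Fintype.card F - 1).gcd (![1, 1, 1, 1, 1, 1, 2] i)) *
      Nat.card (chevE7.diagonalSubgroup F) = (Fintype.card F - 1) ^ chevE7.rank := h
  simpa [Fin.prod_univ_succ, Nat.gcd_comm, mul_assoc] using h'

theorem card_diagonalE8 {F : Type*} [Field F] [Fintype F] :
    (1) * Nat.card (chevE8.diagonalSubgroup F) = (Fintype.card F - 1) ^ chevE8.rank := by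
  have h := goodE8.card_diagonalSubgroup (F := F) (U := (!![-1, 0, 0, 0, 0, 0, 0, 0; 0, -1, 0, 0, 0, 0, 0, 0; 1, -2, 0, -1, 0, 0, 0, 0; 2, -3, 0, -2, -1, 0, 0, 0; 3, -4, 0, -3, -2, -1, 0, 0; 4, -5, 0, -4, -3, -2, -1, 0; -2, 1, -1, 0, 0, 0, 0, 0; -3, -2, -4, -5, -4, -3, -2, -1] : Matrix (Fin 8) (Fin 8) ℤ))
    (U' := (!![-1, 0, 0, 0, 0, 0, 0, 0; 0, -1, 0, 0, 0, 0, 0, 0; 2, -1, 0, 0, 0, 0, -1, 0; -1, 2, -1, 0, 0, 0, 0, 0; 0, -1, 2, -1, 0, 0, 0, 0; 0, 0, -1, 2, -1, 0, 0, 0; 0, 0, 0, -1, 2, -1, 0, 0; 0, 0, 0, 0, -1, 2, 4, -1] : Matrix (Fin 8) (Fin 8) ℤ))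
    (V := (!![0, 0, 0, 0, 0, 0, 1, -2; 0, 0, 0, 0, 0, 0, 2, -3; 1, 0, 0, 0, 0, 0, 2, -4; 0, 1, 0, 0, 0, 0, 4, -6; 0, 0, 1, 0, 0, 0, 4, -5; 0, 0, 0, 1, 0, 0, 4, -4; 0, 0, 0, 0, 1, 0, 4, -3; 0, 0, 0, 0, 0, 1, 4, -2] : Matrix (Fin 8) (Fin 8) ℤ))
    (V' := (!![-2, 0, 1, 0, 0, 0, 0, 0; 0, -2, 0, 1, 0, 0, 0, 0; 2, -3, 0, 0, 1, 0, 0, 0; 4, -4, 0, 0, 0, 1, 0, 0; 6, -5, 0, 0, 0, 0, 1, 0; 8, -6, 0, 0, 0, 0, 0, 1; -3, 2, 0, 0, 0, 0, 0, 0; -2, 1, 0, 0, 0, 0, 0, 0] : Matrix (Fin 8) (Fin 8) ℤ))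
    (d := ![1, 1, 1, 1, 1, 1, 1, 1]) (by decide +kernel) (by decide +kernel) (by decide +kernel) (by decide +kernel)
  have h' : (∏ i : Fin 8, (Fintype.card F - 1).gcd (![1, 1, 1, 1, 1, 1, 1, 1] i)) *
      Nat.card (chevE8.diagonalSubgroup F) = (Fintype.card F - 1) ^ chevE8.rank := h
  simpa [Fin.prod_univ_succ, Nat.gcd_comm, mul_assoc] using h'

end Cfsg.Agent.ChevCore
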