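/-
The structure of the positive unipotent subgroup: coordinates, order, nilpotency.
-/
import Cfsg.Agent.Lib.ChevCore.Subgroups
import Mathlib.GroupTheory.Nilpotent

set_option autoImplicit false

namespace Cfsg.Agent.ChevCore

open Cfsg.Lie
open Matrix

variable {D : ChevalleyDatum} {F : Type*} [Field F]

namespace Good

variable (hD : Good D)

include hD

theorem wordMat_posRoots (t : ℕ → F) :
    D.wordMat F (D.posRoots.map fun r => (r, t r)) =
      (prodL D F D.posRoots t : Matrix D.Idx D.Idx F) := by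
  rw [← hD.val_wordG, wordG, List.map_map]
  rfl

theorem raises_pow {R : Type*} [CommRing R] {A : Matrix D.Idx D.Idx R} (hA : Raises D 1 A) :
    ∀ n : ℕ, Raises D n (A ^ n)
  | 0 => fun a b hab => by
    rw [pow_zero, Matrix.one_apply_ne]
    intro e; rw [e] at hab; push_cast at hab; omega
  | n + 1 => by
    rw [pow_succ]
    exact_mod_cast (raises_pow hA n).mul hA

theorem unipotent_pow {g : GL D.Idx F} (hg : g ∈ D.posUnipotent F) {n : ℕ}
    (hn : 2 * maxHt D + 1 ≤ n) : ((g : Matrix D.Idx D.Idx F) - 1) ^ n = 0 := by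
  rw [hD.posUnipotent_eq] at hg
  ext a b
  refine hD.raises_pow (hD.raises_of_mem le_rfl hg) n a b ?_
  have h1 := (hD.wh_bound a).2
  have h2 := (hD.wh_bound b).1
  omega

theorem card_posRoots : D.posRoots.length = D.nroots / 2 := by
  have hp : D.posRoots.length = ((Finset.range D.nroots).filter fun r => 1 ≤ ht D r).card := by
    rw [← List.toFinset_card_of_nodup nodup_posRoots]
    congr 1
    ext r
    simp [hD.mem_posRoots]
  have heq : ((Finset.range D.nroots).filter fun r => ¬ 1 ≤ ht D r).card =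
      ((Finset.range D.nroots).filter fun r => 1 ≤ ht D r).card := by
    refine Finset.card_bij' (fun r _ => D.neg r) (fun r _ => D.neg r) ?_ ?_ ?_ ?_
    · intro r hr
      simp only [Finset.mem_filter, Finset.mem_range] at hr ⊢
      refine ⟨hD.neg_lt hr.1, ?_⟩
      have := hD.ht_ne_zero hr.1
      rw [hD.ht_neg hr.1]; omega
    · intro r hr
      simp only [Finset.mem_filter, Finset.mem_range] at hr ⊢
      refine ⟨hD.neg_lt hr.1, ?_⟩
      rw [hD.ht_neg hr.1]; omega
    · intro r hr
      exact hD.neg_neg (Finset.mem_range.1 (Finset.mem_filter.1 hr).1)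
    · intro r hr
      exact hD.neg_neg (Finset.mem_range.1 (Finset.mem_filter.1 hr).1)
  have hsum := Finset.card_filter_add_card_filter_not (s := Finset.range D.nroots)
    (fun r => 1 ≤ ht D r)
  rw [Finset.card_range] at hsum
  omega

end Good

namespace UGood

variable (hD : UGood D)

include hD

/-- unique coordinates in the positive unipotent subgroup -/
theorem exists_coords {g : GL D.Idx F} (hg : g ∈ D.posUnipotent F) :
    ∃! t : ℕ → F, (∀ r, ¬ D.IsPosRoot r → t r = 0) ∧ prodL D F D.posRoots t = g := by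
  have hG := hD.toCommGood.toGood
  have hmem : ∀ r, r ∈ D.posRoots ↔ r < D.nroots ∧ 1 ≤ ht D r := fun r => hG.mem_posRoots
  have hiff : ∀ r, D.IsPosRoot r ↔ r < D.nroots ∧ 1 ≤ ht D r := fun r =>
    ⟨fun h => ⟨h.1, (hG.isPosRoot_iff h.1).1 h⟩, fun h => (hG.isPosRoot_iff h.1).2 h.2⟩
  rw [hG.posUnipotent_eq] at hg
  obtain ⟨t, ht0, htg⟩ := hD.exists_prod Good.nodup_posRoots hmem hg
  refine ⟨t, ⟨fun r hr => ht0 r fun h => hr ((hiff r).2 h), htg⟩, ?_⟩
  rintro t' ⟨ht0', htg'⟩
  exact hD.prodL_injective Good.nodup_posRoots hmem (fun r hr => ht0' r fun h => hr ((hiff r).1 h))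
    ht0 (htg'.trans htg.symm)

theorem prodL_mem_posUnipotent (t : ℕ → F) : prodL D F D.posRoots t ∈ D.posUnipotent F := by
  rw [hD.toCommGood.toGood.posUnipotent_eq]
  exact hD.prodL_mem (fun r hr => hD.toCommGood.toGood.mem_posRoots.1 hr) t

/-- the order of the positive unipotent subgroup -/
theorem card_posUnipotent [Fintype F] :
    Nat.card (D.posUnipotent F) = Fintype.card F ^ (D.nroots / 2) := by
  classical
  have hG := hD.toCommGood.toGood
  let S : Finset ℕ := D.posRoots.toFinset
  have hS : ∀ r, r ∈ S ↔ D.IsPosRoot r := fun r => by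
    rw [List.mem_toFinset]
    exact ⟨fun h => of_decide_eq_true (List.mem_filter.1 h).2, fun h =>
      List.mem_filter.2 ⟨List.mem_range.2 h.1, decide_eq_true h⟩⟩
  let ext : (S → F) → ℕ → F := fun t r => if h : r ∈ S then t ⟨r, h⟩ else 0
  let f : (S → F) → D.posUnipotent F := fun t =>
    ⟨prodL D F D.posRoots (ext t), hD.prodL_mem_posUnipotent (ext t)⟩
  have hf : Function.Bijective f := by
    refine ⟨fun t t' h => ?_, fun g => ?_⟩
    · have h' : prodL D F D.posRoots (ext t) = prodL D F D.posRoots (ext t') :=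
        congrArg Subtype.val h
      obtain ⟨u, -, hu⟩ := hD.exists_coords (hD.prodL_mem_posUnipotent (F := F) (ext t))
      have e1 := hu (ext t) ⟨fun r hr => dif_neg fun h => hr ((hS r).1 h), rfl⟩
      have e2 := hu (ext t') ⟨fun r hr => dif_neg fun h => hr ((hS r).1 h), h'.symm⟩
      funext r
      have := congrFun (e1.trans e2.symm) r.1
      simpa [ext, r.2] using this
    · obtain ⟨t, ⟨ht0, htg⟩, -⟩ := hD.exists_coords g.2
      refine ⟨fun r => t r.1, Subtype.ext ?_⟩
      have : ext (fun r => t r.1) = t := by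
        funext r
        by_cases h : r ∈ S
        · simp [ext, h]
        · show (if h : r ∈ S then t r else 0) = t r
          rw [dif_neg h, ht0 r fun h' => h ((hS r).2 h')]
      show prodL D F D.posRoots _ = _
      rw [this, htg]
  rw [← Nat.card_congr (Equiv.ofBijective f hf), Nat.card_eq_fintype_card, Fintype.card_fun,
    Fintype.card_coe, List.toFinset_card_of_nodup Good.nodup_posRoots, hG.card_posRoots]

/-- the positive unipotent subgroup is nilpotent -/
theorem isNilpotent_posUnipotent : Group.IsNilpotent (D.posUnipotent F) := by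
  have hG := hD.toCommGood.toGood
  rw [hG.posUnipotent_eq]
  let U := XS D F (htGe D 1)
  refine (Subgroup.nilpotent_iff_finite_descending_central_series ↥(XS D F (htGe D 1))).2
    ⟨(maxHt D).toNat, fun n => (XS D F (htGe D (1 + n))).subgroupOf U, ⟨?_, ?_⟩, ?_⟩
  · simp only [Nat.cast_zero, add_zero]
    exact Subgroup.subgroupOf_self U
  · intro x n hx g
    rw [Subgroup.mem_subgroupOf] at hx ⊢
    have key : ∀ z ∈ XS D F (htGe D (1 + n)), ∀ g ∈ U, z * g * z⁻¹ * g⁻¹ ∈
        XS D F (htGe D (1 + n + 1)) := by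
      intro z hz g hg
      have hN := hD.U_le_normalizer (F := F) (show (1 : ℤ) ≤ 1 + n + 1 by omega)
      have hN' : ∀ {g}, g ∈ U → ∀ {w}, w ∈ XS D F (htGe D (1 + n + 1)) →
          g * w * g⁻¹ ∈ XS D F (htGe D (1 + n + 1)) := fun hg _ hw =>
        (Subgroup.mem_normalizer_iff.1 (hN hg) _).1 hw
      have hgen : ∀ s u, s < D.nroots → 1 + n ≤ ht D s →
          xg D F s u * g * (xg D F s u)⁻¹ * g⁻¹ ∈ XS D F (htGe D (1 + n + 1)) := by
        intro s u hs hps
        have h1 := hD.conj_congr (show (1 : ℤ) ≤ 1 + n by omega) hg hs hps (-u)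
        rw [← hG.xg_inv] at h1
        rw [inv_inv] at h1
        have h2 := hN' hg h1
        have h3 := hN' (xg_mem_XS hs (show 1 ≤ ht D s by omega) u) h2
        refine (show (xg D F s u * (g * (g⁻¹ * (xg D F s u)⁻¹ * g * xg D F s u) * g⁻¹) *
          (xg D F s u)⁻¹)⁻¹ = xg D F s u * g * (xg D F s u)⁻¹ * g⁻¹ by group) ▸ inv_mem h3
      induction hz using Subgroup.closure_induction'' with
      | mem y hy => obtain ⟨s, u, hs, hps, rfl⟩ := hy; exact hgen s u hs hps
      | inv_mem y hy =>
        obtain ⟨s, u, hs, hps, rfl⟩ := hy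
        rw [hG.xg_inv]
        exact hgen s _ hs hps
      | one => simp
      | mul a b ha _ iha ihb =>
        have haU : a ∈ U := XS_mono (fun r hr => by
          have : 1 + (n : ℤ) ≤ ht D r := hr
          show 1 ≤ ht D r
          omega) ha
        refine (show a * (b * g * b⁻¹ * g⁻¹) * a⁻¹ * (a * g * a⁻¹ * g⁻¹) =
          a * b * g * (a * b)⁻¹ * g⁻¹ by group) ▸ mul_mem (hN' haU ihb) iha
    have := key x.1 hx g.1 g.2
    rw [show ((1 : ℤ) + (n + 1 : ℕ)) = 1 + n + 1 by push_cast; ring]
    exact this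
  · show (XS D F (htGe D (1 + ((maxHt D).toNat : ℤ)))).subgroupOf U = ⊥
    rw [hD.htGe_eq_bot (F := F) (m := 1 + ((maxHt D).toNat : ℤ))
      (by have := Int.self_le_toNat (maxHt D); omega)]
    exact Subgroup.bot_subgroupOf U

end UGood

end Cfsg.Agent.ChevCore
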