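/-
Solvability and normal core of a Borel subgroup, conjugacy in the diagonal subgroup.
-/
import Cfsg.Agent.Lib.ChevCore.Parabolic
import Cfsg.Agent.Lib.ChevCore.UStruct
import Mathlib.GroupTheory.Solvable

set_option autoImplicit false

namespace Cfsg.Agent.ChevCore

open Cfsg.Lie
open Matrix

variable {D : ChevalleyDatum} {F : Type*} [Field F]

namespace Good

variable (hD : Good D)

include hD

theorem borel_diag {b u h : GL D.Idx F} (hu : u ∈ D.posUnipotent F)
    (hh : h ∈ D.diagonalSubgroup F) (e : u * h = b) (a : D.Idx) :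
    (b : Matrix D.Idx D.Idx F) a a = (h : Matrix D.Idx D.Idx F) a a := by
  subst e
  obtain ⟨χ, hχ⟩ := hD.H_diag hh
  rw [hD.posUnipotent_eq] at hu
  have h1 := hD.raises_of_mem le_rfl hu a a (by omega)
  rw [Matrix.sub_apply, sub_eq_zero, Matrix.one_apply_eq] at h1
  rw [Units.val_mul, hχ, Matrix.mul_diagonal, h1, one_mul, Matrix.diagonal_apply_eq]

theorem borel_diag_mul {a b : GL D.Idx F} (ha : a ∈ D.borelSubgroup F)
    (hb : b ∈ D.borelSubgroup F) (i : D.Idx) :
    ((a * b : GL D.Idx F) : Matrix D.Idx D.Idx F) i i =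
      (a : Matrix D.Idx D.Idx F) i i * (b : Matrix D.Idx D.Idx F) i i := by
  obtain ⟨u, hu, h, hh, rfl⟩ := hD.mem_borel ha
  obtain ⟨v, hv, k, hk, rfl⟩ := hD.mem_borel hb
  have hN : D.diagonalSubgroup F ≤
      Subgroup.normalizer (D.posUnipotent F : Set (GL D.Idx F)) := by
    rw [hD.posUnipotent_eq]; exact hD.H_le_normalizer_XS _
  have hv' : u * (h * v * h⁻¹) ∈ D.posUnipotent F :=
    mul_mem hu ((Subgroup.mem_normalizer_iff.1 (hN hh) _).1 hv)
  rw [hD.borel_diag hv' (mul_mem hh hk) (by group) i, hD.borel_diag hu hh rfl i,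
    hD.borel_diag hv hk rfl i]
  obtain ⟨χ, hχ⟩ := hD.H_diag hh
  rw [Units.val_mul, hχ, Matrix.diagonal_mul, Matrix.diagonal_apply_eq]

theorem diag_one_mem_pos {b : GL D.Idx F} (hb : b ∈ D.borelSubgroup F)
    (h1 : ∀ a, (b : Matrix D.Idx D.Idx F) a a = 1) : b ∈ D.posUnipotent F := by
  obtain ⟨u, hu, h, hh, rfl⟩ := hD.mem_borel hb
  obtain ⟨χ, hχ⟩ := hD.H_diag hh
  have hone : h = 1 := by
    refine Units.ext ?_
    rw [Units.val_one, hχ, ← Matrix.diagonal_one]
    congr 1
    funext a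
    have := hD.borel_diag hu hh rfl a
    rw [h1, hχ, Matrix.diagonal_apply_eq] at this
    exact this.symm
  rwa [hone, mul_one]

/-- diagonal elements scale root elements by their entries -/
theorem tau_conj_x (c : Fin D.rank → Fˣ) {s : ℕ} (hs : s < D.nroots) (t : F) :
    tau D F c * xg D F s t * (tau D F c)⁻¹ =
      xg D F s ((tauW D F c (Sum.inr ⟨s, hs⟩) : F) * t) := by
  have he : ∀ a : D.Idx, (tauW D F c a : F) = ∏ i : Fin D.rank, (c i : F) ^ wa D i.val a := by
    rintro (i | u)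
    · simp [tauW, wa]
    · simp [tauW, wa, Units.coe_prod]
  rw [mul_inv_eq_iff_eq_mul]
  refine Units.ext ?_
  rw [Units.val_mul, Units.val_mul, hD.val_xg, hD.val_xg, hD.x_eq F hs, hD.x_eq F hs, val_tau]
  have hw : IsWeight D (fun a => (tauW D F c a : F))
      (fun r => ∏ i : Fin D.rank, (c i : F) ^ D.cartan i.val r) := by
    intro k r hk _ hr a b hM
    show (tauW D F c a : F) = (tauW D F c b : F) * _ ^ k
    rw [he, he, ← Finset.prod_pow, ← Finset.prod_mul_distrib]
    refine Finset.prod_congr rfl fun i _ => ?_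
    rw [hD.M_homog_cartan hr hk i.isLt hM, zpow_add₀ (c i).ne_zero]
    congr 1
    rw [mul_comm, _root_.zpow_mul, zpow_natCast]
  rw [hw.conj hs]
  simp [he, wa]

/-- a diagonal element commuting with all root elements is trivial -/
theorem H_faithful {h : GL D.Idx F} (hh : h ∈ D.diagonalSubgroup F)
    (hc : ∀ s < D.nroots, h * xg D F s 1 * h⁻¹ = xg D F s 1) : h = 1 := by
  rw [hD.diagonalSubgroup_eq_range] at hh
  obtain ⟨c, rfl⟩ := hh
  refine Units.ext ?_
  rw [val_tau, Units.val_one, ← Matrix.diagonal_one]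
  congr 1
  funext a
  rcases a with i | s
  · simp [tauW]
  · have h1 := hc s.val s.isLt
    rw [hD.tau_conj_x c s.isLt, mul_one] at h1
    exact hD.xg_injective s.isLt h1

omit hD in
theorem actW_cons_supp {i : ℕ} {u : List ℕ} : nw D F (i :: u) = ng D F (D.simple i) 1 * nw D F u := by
  simp [nw]

/-- the support of a product of the monomial generators -/
theorem nw_supp {w : List ℕ} (hw : ∀ i ∈ w, i < D.rank) {a b : D.Idx}
    (h : (nw D F w : Matrix D.Idx D.Idx F) a b ≠ 0) :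
    (∃ j k, a = Sum.inl j ∧ b = Sum.inl k) ∨
      ∃ s t : Fin D.nroots, a = Sum.inr t ∧ b = Sum.inr s ∧ t.val = actW D w s.val := by
  induction w generalizing a with
  | nil =>
    have hab : a = b := by
      by_contra hne
      exact h (by simp [nw, hne])
    subst hab
    rcases a with j | s
    · exact Or.inl ⟨j, j, rfl, rfl⟩
    · exact Or.inr ⟨s, s, rfl, rfl, rfl⟩
  | cons i w ih =>
    rw [actW_cons_supp, Units.val_mul, Matrix.mul_apply, hD.val_ng_simple' (hw i (by simp))] at h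
    obtain ⟨c, -, hc⟩ := Finset.exists_ne_zero_of_sum_ne_zero h
    obtain ⟨h1, h2⟩ := ne_zero_and_ne_zero_of_mul hc
    rcases monoMat_supp h1 with ⟨j, k, rfl, rfl⟩ | ⟨s, t, rfl, rfl, ht⟩ <;>
      rcases ih (fun a ha => hw a (by simp [ha])) h2 with ⟨j', k', e, rfl⟩ | ⟨s', t', e, rfl, ht'⟩
    · exact Or.inl ⟨j, k', rfl, rfl⟩
    · simp at e
    · simp at e
    · obtain rfl := Sum.inr.inj e
      exact Or.inr ⟨s', t, rfl, rfl, by rw [ht, ht', actW_cons]⟩

/-- a monomial element conjugates unipotent elements to ones with trivial diagonal part -/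
theorem monomial_conj_diag {w : List ℕ} (hw : ∀ i ∈ w, i < D.rank) {k : GL D.Idx F}
    (hk : k ∈ D.diagonalSubgroup F) {z z' h : GL D.Idx F} (hz : z ∈ D.posUnipotent F)
    (hz' : z' ∈ D.posUnipotent F) (hh : h ∈ D.diagonalSubgroup F)
    (e : k * nw D F w * z = z' * h * (k * nw D F w)) : h = 1 := by
  set n := k * nw D F w with hn
  obtain ⟨χ, hχ⟩ := hD.H_diag hk
  have hsupp : ∀ {a b}, (n : Matrix D.Idx D.Idx F) a b ≠ 0 →
      (nw D F w : Matrix D.Idx D.Idx F) a b ≠ 0 := by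
    intro a b h0 h1
    exact h0 (by rw [hn, Units.val_mul, hχ, Matrix.diagonal_mul, h1, mul_zero])
  rw [hD.diagonalSubgroup_eq_range] at hh
  obtain ⟨c, rfl⟩ := hh
  refine Units.ext ?_
  rw [val_tau, Units.val_one, ← Matrix.diagonal_one]
  congr 1
  funext a
  rcases a with i | s
  · simp [tauW]
  set r := actW D w.reverse s.val with hr
  have hrl : r < D.nroots := hD.actW_lt (fun x hx => hw x (List.mem_reverse.1 hx)) s.isLt
  have hrs : actW D w r = s.val := hD.actW_reverse hw s.isLt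
  set S : D.Idx := Sum.inr s
  set R : D.Idx := Sum.inr ⟨r, hrl⟩
  have hrow : ∀ b, (n : Matrix D.Idx D.Idx F) S b ≠ 0 → b = R := by
    intro b hb
    rcases hD.nw_supp hw (hsupp hb) with ⟨j, k, e, -⟩ | ⟨x, y, e, rfl, hxy⟩
    · simp [S] at e
    · obtain rfl := Sum.inr.inj e
      refine congrArg Sum.inr (Fin.ext ?_)
      show x.val = r
      have := hD.actW_reverse (w := w.reverse) (fun a ha => hw a (List.mem_reverse.1 ha)) x.isLt
      rw [List.reverse_reverse] at this
      rw [hr, hxy, this]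
  have hcol : ∀ b, (n : Matrix D.Idx D.Idx F) b R ≠ 0 → b = S := by
    intro b hb
    rcases hD.nw_supp hw (hsupp hb) with ⟨j, k, -, e⟩ | ⟨x, y, rfl, e, hxy⟩
    · simp [R] at e
    · obtain rfl := Sum.inr.inj e
      refine congrArg Sum.inr (Fin.ext ?_)
      rw [hxy]
      exact hrs
  have hSR : (n : Matrix D.Idx D.Idx F) S R ≠ 0 := by
    intro h0
    have h1 : (((n⁻¹ : GL D.Idx F) : Matrix D.Idx D.Idx F) * (n : Matrix D.Idx D.Idx F)) R R = 1 := by
      rw [← Units.val_mul, inv_mul_cancel, Units.val_one, Matrix.one_apply_eq]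
    rw [Matrix.mul_apply, Finset.sum_eq_zero fun b _ => ?_] at h1
    · exact zero_ne_one h1
    · by_cases hb : b = S
      · rw [hb, h0, mul_zero]
      · rw [show (n : Matrix D.Idx D.Idx F) b R = 0 from not_not.1 fun hne => hb (hcol b hne),
          mul_zero]
  have hzd : ∀ {u : GL D.Idx F}, u ∈ D.posUnipotent F → ∀ x,
      (u : Matrix D.Idx D.Idx F) x x = 1 := by
    intro u hu x
    rw [hD.posUnipotent_eq] at hu
    have := hD.raises_of_mem le_rfl hu x x (by omega)
    rwa [Matrix.sub_apply, sub_eq_zero, Matrix.one_apply_eq] at this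
  have h2 := congrArg (fun g : GL D.Idx F => (g : Matrix D.Idx D.Idx F) S R) e
  simp only [Units.val_mul, Matrix.mul_apply] at h2
  rw [Finset.sum_eq_single R, Finset.sum_eq_single S] at h2
  · have h3 : ∑ j, (z' : Matrix D.Idx D.Idx F) S j * (tau D F c : Matrix D.Idx D.Idx F) j S =
        (tauW D F c S : F) := by
      rw [Finset.sum_eq_single S]
      · rw [val_tau, Matrix.diagonal_apply_eq, hzd hz', one_mul]
      · intro b _ hb
        rw [val_tau, Matrix.diagonal_apply_ne _ hb, mul_zero]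
      · simp
    rw [h3, hzd hz, mul_one] at h2
    exact (mul_eq_right₀ hSR).1 h2.symm
  · intro b _ hb
    rw [show (n : Matrix D.Idx D.Idx F) b R = 0 from not_not.1 fun hne => hb (hcol b hne), mul_zero]
  · simp
  · intro b _ hb
    rw [show (n : Matrix D.Idx D.Idx F) S b = 0 from not_not.1 fun hne => hb (hrow b hne), zero_mul]
  · simp

end Good

theorem conj_in_monomial (hD : D ∈ [chevG2, chevB2, chevD4, chevF4, chevE6, chevE7, chevE8])
    {h₁ h₂ g : GL D.Idx F} (h1 : h₁ ∈ D.diagonalSubgroup F) (h2 : h₂ ∈ D.diagonalSubgroup F)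
    (hg : g ∈ D.group F) (hc : g * h₁ * g⁻¹ = h₂) :
    ∃ n ∈ D.monomialSubgroup F, n * h₁ * n⁻¹ = h₂ := by
  have hG := good_of_mem hD
  obtain ⟨b, hb, w, hw, -, b', hb', rfl⟩ := exists_bruhat_mem hD hg
  obtain ⟨u, hu, k, hk, rfl⟩ := hG.mem_borel hb
  obtain ⟨v, hv, k', hk', rfl⟩ := hG.mem_borel hb'
  have hN : D.diagonalSubgroup F ≤
      Subgroup.normalizer (D.posUnipotent F : Set (GL D.Idx F)) := by
    rw [hG.posUnipotent_eq]; exact hG.H_le_normalizer_XS _
  have hcomm : k' * h₁ = h₁ * k' := by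
    obtain ⟨χ, hχ⟩ := hG.H_diag hk'
    obtain ⟨ψ, hψ⟩ := hG.H_diag h1
    refine Units.ext ?_
    rw [Units.val_mul, Units.val_mul, hχ, hψ, Matrix.diagonal_mul_diagonal,
      Matrix.diagonal_mul_diagonal]
    simp [mul_comm]
  set n := k * nw D F w with hn
  have hnN : n ∈ D.monomialSubgroup F :=
    mul_mem (le_sup_left (b := Subgroup.closure _) hk) (hG.nw_mem_N hw)
  refine ⟨n, hnN, ?_⟩
  have e1 : u * n * (v * h₁ * v⁻¹) * n⁻¹ * u⁻¹ = h₂ := by
    rw [← hc, show u * k * nw D F w * (v * k') * h₁ * (u * k * nw D F w * (v * k'))⁻¹ =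
      u * n * (v * (k' * h₁ * k'⁻¹) * v⁻¹) * n⁻¹ * u⁻¹ by rw [hn]; group,
      hcomm, mul_inv_cancel_right]
  have hz : v * (h₁ * v⁻¹ * h₁⁻¹) ∈ D.posUnipotent F :=
    mul_mem hv ((Subgroup.mem_normalizer_iff.1 (hN h1) _).1 (inv_mem (show v ∈ D.posUnipotent F from hv)))
  have hz' : u⁻¹ * (h₂ * u * h₂⁻¹) ∈ D.posUnipotent F :=
    mul_mem (inv_mem hu) ((Subgroup.mem_normalizer_iff.1 (hN h2) _).1 hu)
  have hnh : n * h₁ * n⁻¹ ∈ D.diagonalSubgroup F := by
    rw [← borel_inf_monomial hD]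
    refine Subgroup.mem_inf.2 ⟨?_, mul_mem (mul_mem hnN (le_sup_left (b := Subgroup.closure _) h1)) (inv_mem hnN)⟩
    obtain ⟨T, -, -⟩ := exists_model hD
    have hC := commGood_of_mem hD
    have hn' : n ∈ (engN (T.rel (Chev54.rels hC F))).map (D.group F).subtype :=
      (N_map (F := F) T hC).symm ▸ hnN
    have h1' : h₁ ∈ (T.rel (Chev54.rels hC F)).H.map (D.group F).subtype :=
      (T.H_map (Chev54.rels hC F)).symm ▸ h1
    obtain ⟨n₀, hn₀, en⟩ := hn'
    obtain ⟨h₀, hh₀, eh⟩ := h1'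
    refine Subgroup.mem_sup_right ?_
    rw [← T.H_map (Chev54.rels hC F)]
    exact ⟨n₀ * h₀ * n₀⁻¹, engN_conj_mem_H _ hn₀ hh₀, by simp [← en, ← eh]⟩
  have key : k * nw D F w * (v * (h₁ * v⁻¹ * h₁⁻¹)) =
      u⁻¹ * (h₂ * u * h₂⁻¹) * (h₂ * (n * h₁ * n⁻¹)⁻¹) * (k * nw D F w) := by
    rw [← hn]
    calc n * (v * (h₁ * v⁻¹ * h₁⁻¹))
        = u⁻¹ * (u * n * (v * h₁ * v⁻¹) * n⁻¹ * u⁻¹) * u * n * h₁⁻¹ := by group
      _ = u⁻¹ * h₂ * u * n * h₁⁻¹ := by rw [e1]
      _ = _ := by group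
  have := hG.monomial_conj_diag hw hk hz hz' (mul_mem h2 (inv_mem hnh)) key
  exact (mul_inv_eq_one.1 this).symm

theorem isSolvable_borel (hD : D ∈ [chevG2, chevB2, chevD4, chevF4, chevE6, chevE7, chevE8])
    (hU : Group.IsNilpotent (D.posUnipotent F)) : Group.IsSolvable ↥(D.borelSubgroup F) := by
  have hG := good_of_mem hD
  haveI := hU
  have hne : ∀ (b : ↥(D.borelSubgroup F)) a,
      ((b : GL D.Idx F) : Matrix D.Idx D.Idx F) a a ≠ 0 := by
    intro b a h0
    have h1 := hG.borel_diag_mul b.2 (inv_mem b.2) a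
    rw [mul_inv_cancel, Units.val_one, Matrix.one_apply_eq, h0, zero_mul] at h1
    exact one_ne_zero h1
  let χ : ↥(D.borelSubgroup F) →* (D.Idx → Fˣ) := MonoidHom.mk'
    (fun b a => Units.mk0 _ (hne b a))
    (fun x y => funext fun a => Units.ext (hG.borel_diag_mul x.2 y.2 a))
  refine Group.isSolvable_of_ker_le_range
    (Subgroup.inclusion (le_sup_left : D.posUnipotent F ≤ D.borelSubgroup F)) χ fun b hb => ?_
  have hb' : (b : GL D.Idx F) ∈ D.posUnipotent F :=
    hG.diag_one_mem_pos b.2 fun a => congrArg Units.val (congrFun hb a)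
  exact ⟨⟨_, hb'⟩, Subtype.ext rfl⟩

end Cfsg.Agent.ChevCore

namespace Cfsg.Agent.ChevCore

open Cfsg.Lie

variable {D : ChevalleyDatum} {F : Type*} [Field F]

theorem exists_longest (hD : D ∈ [chevG2, chevB2, chevD4, chevF4, chevE6, chevE7, chevE8]) :
    ∃ w : List ℕ, (∀ i ∈ w, i < D.rank) ∧
      ∀ r < D.nroots, 1 ≤ ht D r → ht D (actW D w r) ≤ -1 := by
  obtain ⟨T, -, w, hw⟩ := exists_model hD
  have hG := good_of_mem hD
  refine ⟨w.reverse.map Fin.val, fun i hi => ?_, fun r hr hp => ?_⟩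
  · obtain ⟨j, -, rfl⟩ := List.mem_map.1 hi
    exact T.lt_l j
  · have h := (engine_pos T hG _).1 (T.longest_neg hw ⟨r, T.n_eq.symm ▸ hr⟩
      ((engine_pos T hG _).2 (by show 0 < ht D r; omega)))
    rw [T.neg_eq, engine_actw T, hG.ht_neg] at h
    · change 0 < -ht D (actW D (w.reverse.map Fin.val) r) at h
      omega
    · refine hG.actW_lt ?_ hr
      intro i hi
      obtain ⟨j, -, rfl⟩ := List.mem_map.1 hi
      exact T.lt_l j

theorem normalCore_borel (hD : D ∈ [chevG2, chevB2, chevD4, chevF4, chevE6, chevE7, chevE8]) :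
    ((D.borelSubgroup F).subgroupOf (D.group F)).normalCore = ⊥ := by
  have hG := good_of_mem hD
  set K := ((D.borelSubgroup F).subgroupOf (D.group F)).normalCore
  obtain ⟨w, hw, hneg⟩ := exists_longest hD
  set n := nw D F w with hndef
  have hn : n ∈ D.group F := hG.monomialSubgroup_le_group (hG.nw_mem_N hw)
  set W := D.negUnipotent F ⊔ D.diagonalSubgroup F
  have hconj : ∀ b ∈ D.borelSubgroup F, n * b * n⁻¹ ∈ W := by
    have hB : D.borelSubgroup F ≤ W.comap (MulAut.conj n).toMonoidHom := by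
      refine sup_le ?_ ?_
      · rw [hG.posUnipotent_eq]
        refine XS_le fun r t hr hp => ?_
        show n * xg D F r t * n⁻¹ ∈ W
        rw [hG.nw_conj_x hw hr]
        refine Subgroup.mem_sup_left ?_
        rw [hG.negUnipotent_eq]
        exact xg_mem_XS (hG.actW_lt hw hr) (hneg r hr hp) _
      · intro h hh
        refine Subgroup.mem_sup_right ?_
        rw [hG.diagonalSubgroup_eq] at hh ⊢
        show MulAut.conj n h ∈ _
        induction hh using Subgroup.closure_induction with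
        | mem y hy =>
          obtain ⟨r, c, hr, hc, rfl⟩ := hy
          have e : MulAut.conj n (hg D F r c) = hg D F (actW D w r) c := by
            rw [MulAut.conj_apply, mul_inv_eq_iff_eq_mul]
            refine Units.ext ?_
            rw [Units.val_mul, Units.val_mul, hG.hg_eq_diag hr hc,
              hG.hg_eq_diag (hG.actW_lt hw hr) hc, hG.nw_conj_diag hw hr]
          rw [e]
          exact Subgroup.subset_closure ⟨_, c, hG.actW_lt hw hr, hc, rfl⟩
        | one => rw [map_one]; exact one_mem _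
        | mul a b _ _ ha hb => rw [map_mul]; exact mul_mem ha hb
        | inv a _ ha => rw [map_inv]; exact inv_mem ha
    exact fun b hb => hB hb
  have hKB : ∀ k ∈ K, ((k : ↥(D.group F)) : GL D.Idx F) ∈ D.borelSubgroup F := fun k hk =>
    Subgroup.mem_subgroupOf.1 (Subgroup.normalCore_le ((D.borelSubgroup F).subgroupOf (D.group F)) hk)
  have hKN : ∀ k ∈ K, ∀ g, g * k * g⁻¹ ∈ K := fun k hk g =>
    (Subgroup.normalCore_normal _).conj_mem k hk g
  have hKH : ∀ k ∈ K, ((k : ↥(D.group F)) : GL D.Idx F) ∈ D.diagonalSubgroup F := by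
    intro k hk
    rw [← hG.borel_inf_negH]
    refine Subgroup.mem_inf.2 ⟨hKB k hk, ?_⟩
    have h1 := hKB _ (hKN k hk (⟨n, hn⟩ : ↥(D.group F))⁻¹)
    have h2 := hconj _ h1
    simpa [mul_assoc] using h2
  refine (Subgroup.eq_bot_iff_forall _).2 fun k hk => Subtype.ext (hG.H_faithful (hKH k hk) ?_)
  intro s hs
  obtain ⟨a, -, ha⟩ := hG.conj_xg_of_mem_H (hKH k hk) hs
  set g : ↥(D.group F) := ⟨xg D F s 1, hG.xg_mem_group s 1⟩
  have hm : k * (g * k⁻¹ * g⁻¹) ∈ K := mul_mem hk (hKN _ (inv_mem hk) g)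
  have hx : xg D F s (a * 1 + -1) ∈ D.diagonalSubgroup F := by
    have := hKH _ hm
    rw [hG.xg_add, ← hG.xg_inv, ← ha]
    simpa [g, mul_assoc] using this
  have hone : xg D F s (a * 1 + -1) = 1 := by
    by_cases hp : 1 ≤ ht D s
    · have h2 : xg D F s (a * 1 + -1) ∈ D.posUnipotent F ⊓ D.diagonalSubgroup F := by
        refine Subgroup.mem_inf.2 ⟨?_, hx⟩
        rw [hG.posUnipotent_eq]
        exact xg_mem_XS hs hp _
      rwa [hG.pos_inf_H, Subgroup.mem_bot] at h2
    · have h0 := hG.ht_ne_zero hs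
      have h2 : xg D F s (a * 1 + -1) ∈ D.borelSubgroup F ⊓ D.negUnipotent F := by
        refine Subgroup.mem_inf.2 ⟨Subgroup.mem_sup_right hx, ?_⟩
        rw [hG.negUnipotent_eq]
        exact xg_mem_XS hs (show ht D s ≤ -1 by omega) _
      rwa [hG.borel_inf_neg, Subgroup.mem_bot] at h2
  have h3 := hG.xg_injective hs (hone.trans (hG.xg_zero s).symm)
  rw [ha, eq_neg_of_add_eq_zero_left h3, neg_neg]

end Cfsg.Agent.ChevCore
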