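/-
The homomorphism from `SL₂` onto the subgroup generated by two opposite root subgroups.
-/
import Cfsg.Agent.Lib.ChevCore.Subgroups
import Mathlib.LinearAlgebra.Matrix.SpecialLinearGroup

set_option autoImplicit false

namespace Cfsg.Agent.ChevCore

open Cfsg.Lie
open Matrix

section pairRel

variable {G : Type*} [Group G] {F : Type*} [Field F]

/-- `x(c) y(-c⁻¹) x(c)` -/
def pn (x y : F → G) (c : F) : G := x c * y (-c⁻¹) * x c

/-- `n(c) n(-1)` -/
def ph (x y : F → G) (c : F) : G := pn x y c * pn x y (-1)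

/-- a pair of opposite one-parameter subgroups with the rank one relations -/
structure PairRel (x y : F → G) : Prop where
  x_add : ∀ a b, x (a + b) = x a * x b
  y_add : ∀ a b, y (a + b) = y a * y b
  h_mul : ∀ a b, a ≠ 0 → b ≠ 0 → ph x y a * ph x y b = ph x y (a * b)
  h_x : ∀ a t, a ≠ 0 → ph x y a * x t * (ph x y a)⁻¹ = x (a * a * t)
  h_y : ∀ a t, a ≠ 0 → ph x y a * y t * (ph x y a)⁻¹ = y (a⁻¹ * a⁻¹ * t)
  n_x : ∀ t, pn x y 1 * x t * (pn x y 1)⁻¹ = y (-t)

namespace PairRel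

variable {x y : F → G} (P : PairRel x y)

include P

theorem x_zero : x 0 = 1 := by
  have := P.x_add 0 0
  rw [add_zero] at this
  exact left_eq_mul.1 this

theorem y_zero : y 0 = 1 := by
  have := P.y_add 0 0
  rw [add_zero] at this
  exact left_eq_mul.1 this

theorem x_neg (t : F) : x (-t) = (x t)⁻¹ :=
  eq_inv_of_mul_eq_one_left (by rw [← P.x_add, neg_add_cancel, P.x_zero])

theorem y_neg (t : F) : y (-t) = (y t)⁻¹ :=
  eq_inv_of_mul_eq_one_left (by rw [← P.y_add, neg_add_cancel, P.y_zero])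

theorem pn_neg (c : F) : pn x y (-c) = (pn x y c)⁻¹ := by
  simp only [pn, _root_.mul_inv_rev, ← P.x_neg, ← P.y_neg, inv_neg, neg_neg, mul_assoc]

theorem pn_eq (c : F) : pn x y c = ph x y c * pn x y 1 := by
  rw [ph, P.pn_neg]; group

theorem h_one : ph x y 1 = 1 := by rw [ph, P.pn_neg, mul_inv_cancel]

theorem h_sq : ph x y (-1) = (pn x y 1 * pn x y 1)⁻¹ := by
  rw [ph, P.pn_neg, _root_.mul_inv_rev]

theorem n_sq : pn x y 1 * pn x y 1 = ph x y (-1) := by
  have h := P.h_mul (-1) (-1) (neg_ne_zero.2 one_ne_zero) (neg_ne_zero.2 one_ne_zero)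
  rw [neg_one_mul, neg_neg, P.h_one] at h
  rw [eq_inv_of_mul_eq_one_left h]
  conv_rhs => rw [P.h_sq, inv_inv]

theorem n_y (t : F) : pn x y 1 * y t * (pn x y 1)⁻¹ = x (-t) := by
  have e : y t = pn x y 1 * x (-t) * (pn x y 1)⁻¹ := by rw [P.n_x, neg_neg]
  have h := P.h_x (-1) (-t) (neg_ne_zero.2 one_ne_zero)
  rw [neg_one_mul, neg_neg, one_mul, ← P.n_sq] at h
  refine Eq.trans ?_ h
  rw [e]; group

theorem pn_eq' (c : F) (hc : c ≠ 0) : pn x y c = y (-c⁻¹) * x c * y (-c⁻¹) := by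
  have hx : ∀ u, pn x y c * x u * (pn x y c)⁻¹ = y (c⁻¹ * c⁻¹ * -u) := by
    intro u
    rw [P.pn_eq c, ← P.h_y c _ hc, ← P.n_x]; group
  have hy : ∀ u, pn x y c * y u * (pn x y c)⁻¹ = x (c * c * -u) := by
    intro u
    rw [P.pn_eq c, ← P.h_x c _ hc, ← P.n_y]; group
  calc pn x y c = pn x y c * pn x y c * (pn x y c)⁻¹ := by group
    _ = (pn x y c * x c * (pn x y c)⁻¹) * (pn x y c * y (-c⁻¹) * (pn x y c)⁻¹) *
        (pn x y c * x c * (pn x y c)⁻¹) := by
      conv_lhs => enter [1, 2]; rw [pn]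
      group
    _ = _ := by
      rw [hx, hy]
      congr 2
      · congr 1
        field_simp
      · congr 1
        field_simp
      · field_simp

theorem n_h (a : F) (ha : a ≠ 0) : pn x y 1 * ph x y a = ph x y a⁻¹ * pn x y 1 := by
  have key : ∀ c : F, c ≠ 0 → pn x y 1 * pn x y c * (pn x y 1)⁻¹ = pn x y c⁻¹ := by
    intro c hc
    rw [P.pn_eq' c⁻¹ (inv_ne_zero hc), inv_inv]
    have e : pn x y 1 * pn x y c * (pn x y 1)⁻¹ = (pn x y 1 * x c * (pn x y 1)⁻¹) *
        (pn x y 1 * y (-c⁻¹) * (pn x y 1)⁻¹) * (pn x y 1 * x c * (pn x y 1)⁻¹) := by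
      conv_lhs => enter [1, 2]; rw [pn]
      group
    rw [e, P.n_x, P.n_y, neg_neg]
  rw [← mul_inv_eq_iff_eq_mul]
  have e : pn x y 1 * ph x y a * (pn x y 1)⁻¹ =
      (pn x y 1 * pn x y a * (pn x y 1)⁻¹) * (pn x y 1 * pn x y (-1) * (pn x y 1)⁻¹) := by
    rw [ph]; group
  rw [e, key a ha, key (-1) (neg_ne_zero.2 one_ne_zero), inv_neg, inv_one]
  rfl

theorem x_h (a t : F) (ha : a ≠ 0) : x t * ph x y a = ph x y a * x (a⁻¹ * a⁻¹ * t) := by
  have h := P.h_x a (a⁻¹ * a⁻¹ * t) ha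
  rw [show a * a * (a⁻¹ * a⁻¹ * t) = t by field_simp] at h
  rw [← mul_inv_eq_iff_eq_mul.1 h]

/-- the two shapes of elements of a rank one group -/
def Bruhat (x y : F → G) (g : G) : Prop :=
  (∃ a b, a ≠ 0 ∧ g = ph x y a * x b) ∨
    ∃ a b e, a ≠ 0 ∧ g = ph x y a * x b * pn x y 1 * x e

theorem bruhat_h {c : F} (hc : c ≠ 0) {g : G} (hg : Bruhat x y g) : Bruhat x y (ph x y c * g) := by
  rcases hg with ⟨a, b, ha, rfl⟩ | ⟨a, b, e, ha, rfl⟩
  · exact Or.inl ⟨c * a, b, mul_ne_zero hc ha, by rw [← P.h_mul c a hc ha, mul_assoc]⟩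
  · exact Or.inr ⟨c * a, b, e, mul_ne_zero hc ha, by
      rw [← P.h_mul c a hc ha]; simp only [mul_assoc]⟩

theorem bruhat_x (t : F) {g : G} (hg : Bruhat x y g) : Bruhat x y (x t * g) := by
  rcases hg with ⟨a, b, ha, rfl⟩ | ⟨a, b, e, ha, rfl⟩
  · exact Or.inl ⟨a, a⁻¹ * a⁻¹ * t + b, ha, by rw [← mul_assoc, P.x_h a t ha, P.x_add, mul_assoc]⟩
  · exact Or.inr ⟨a, a⁻¹ * a⁻¹ * t + b, e, ha, by
      simp only [← mul_assoc]; rw [P.x_h a t ha, P.x_add]; simp only [mul_assoc]⟩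

theorem bruhat_n {g : G} (hg : Bruhat x y g) : Bruhat x y (pn x y 1 * g) := by
  rcases hg with ⟨a, b, ha, rfl⟩ | ⟨a, b, e, ha, rfl⟩
  · refine Or.inr ⟨a⁻¹, 0, b, inv_ne_zero ha, ?_⟩
    rw [P.x_zero, mul_one, ← mul_assoc, P.n_h a ha]
  · rw [show pn x y 1 * (ph x y a * x b * pn x y 1 * x e) =
      (pn x y 1 * ph x y a) * (x b * pn x y 1 * x e) by group, P.n_h a ha, mul_assoc]
    refine P.bruhat_h (inv_ne_zero ha) ?_
    have hm : (-1 : F) ≠ 0 := neg_ne_zero.2 one_ne_zero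
    by_cases hb : b = 0
    · refine Or.inl ⟨-1, e, hm, ?_⟩
      rw [hb, P.x_zero, one_mul, ← P.n_sq, mul_assoc]
    have h1 : pn x y 1 * (x b * pn x y 1 * x e) = y (-b) * ph x y (-1) * x e := by
      rw [← P.n_x, ← P.n_sq]; group
    set c := b⁻¹ with hc
    have hc0 : c ≠ 0 := inv_ne_zero hb
    have h2 : y (-b) = x (-c) * (ph x y c * pn x y 1) * x (-c) := by
      rw [← P.pn_eq, pn, hc, inv_inv, P.x_neg]; group
    rw [h1, h2]
    have h3 : x (-c) * ph x y (-1) = ph x y (-1) * x (-c) := by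
      rw [P.x_h (-1) (-c) hm]; simp
    rw [show x (-c) * (ph x y c * pn x y 1) * x (-c) * ph x y (-1) * x e =
      x (-c) * (ph x y c * (pn x y 1 * (x (-c) * ph x y (-1)))) * x e by group, h3,
      show x (-c) * (ph x y c * (pn x y 1 * (ph x y (-1) * x (-c)))) * x e =
        x (-c) * (ph x y c * ((pn x y 1 * ph x y (-1)) * (x (-c) * x e))) by group,
      P.n_h (-1) hm, ← P.x_add, inv_neg, inv_one]
    refine P.bruhat_x (-c) (P.bruhat_h hc0 (Or.inr ⟨-1, 0, -c + e, hm, ?_⟩))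
    rw [P.x_zero, mul_one]

theorem bruhat_of_mem {g : G} (hg : g ∈ Subgroup.closure (Set.range x ∪ Set.range y)) :
    Bruhat x y g := by
  have hy : ∀ t {g : G}, Bruhat x y g → Bruhat x y (y t * g) := by
    intro t g hg
    have e : y t * g = pn x y 1 * (x (-t) * (ph x y (-1) * (pn x y 1 * g))) := by
      rw [P.h_sq]
      conv_lhs => rw [← neg_neg t, ← P.n_x]
      group
    rw [e]
    exact P.bruhat_n (P.bruhat_x _ (P.bruhat_h (neg_ne_zero.2 one_ne_zero) (P.bruhat_n hg)))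
  induction hg using Subgroup.closure_induction_left with
  | one => exact Or.inl ⟨1, 0, one_ne_zero, by rw [P.h_one, P.x_zero, one_mul]⟩
  | mul_left a ha b _ ih =>
    rcases ha with ⟨t, rfl⟩ | ⟨t, rfl⟩
    · exact P.bruhat_x t ih
    · exact hy t ih
  | inv_mul_cancel a ha b _ ih =>
    rcases ha with ⟨t, rfl⟩ | ⟨t, rfl⟩
    · rw [← P.x_neg]; exact P.bruhat_x _ ih
    · rw [← P.y_neg]; exact hy _ ih

end PairRel

end pairRel

section sl

variable {F : Type*} [Field F]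

/-- upper unitriangular elements -/
def slU (a : F) : Matrix.SpecialLinearGroup (Fin 2) F :=
  ⟨!![1, a; 0, 1], by simp [Matrix.det_fin_two]⟩

/-- lower unitriangular elements -/
def slL (a : F) : Matrix.SpecialLinearGroup (Fin 2) F :=
  ⟨!![1, 0; a, 1], by simp [Matrix.det_fin_two]⟩

theorem coe_slU (a : F) :
    (slU a : Matrix (Fin 2) (Fin 2) F) = !![1, a; 0, 1] := rfl

theorem coe_slL (a : F) :
    (slL a : Matrix (Fin 2) (Fin 2) F) = !![1, 0; a, 1] := rfl

theorem pn_sl {c : F} (hc : c ≠ 0) :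
    ((pn slU slL c : Matrix.SpecialLinearGroup (Fin 2) F) : Matrix (Fin 2) (Fin 2) F) =
      !![0, c; -c⁻¹, 0] := by
  ext i j
  fin_cases i <;> fin_cases j <;>
    simp [pn, coe_slU, coe_slL, Matrix.SpecialLinearGroup.coe_mul, Matrix.mul_apply, Fin.sum_univ_two, hc]

theorem ph_sl {c : F} (hc : c ≠ 0) :
    ((ph slU slL c : Matrix.SpecialLinearGroup (Fin 2) F) : Matrix (Fin 2) (Fin 2) F) =
      !![c, 0; 0, c⁻¹] := by
  rw [ph, Matrix.SpecialLinearGroup.coe_mul, pn_sl hc, pn_sl (neg_ne_zero.2 one_ne_zero)]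
  ext i j
  fin_cases i <;> fin_cases j <;> simp [Matrix.mul_apply, Fin.sum_univ_two, inv_neg]

theorem pairRel_sl : PairRel (slU (F := F)) slL where
  x_add a b := Subtype.ext (by
    ext i j; fin_cases i <;> fin_cases j <;>
      simp [coe_slU, Matrix.SpecialLinearGroup.coe_mul, Matrix.mul_apply, Fin.sum_univ_two, add_comm])
  y_add a b := Subtype.ext (by
    ext i j; fin_cases i <;> fin_cases j <;>
      simp [coe_slL, Matrix.SpecialLinearGroup.coe_mul, Matrix.mul_apply, Fin.sum_univ_two, add_comm])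
  h_mul a b ha hb := Subtype.ext (by
    show ((ph slU slL a * ph slU slL b : Matrix.SpecialLinearGroup (Fin 2) F) : Matrix (Fin 2) (Fin 2) F) = _
    rw [Matrix.SpecialLinearGroup.coe_mul, ph_sl ha, ph_sl hb, ph_sl (mul_ne_zero ha hb)]
    ext i j; fin_cases i <;> fin_cases j <;> simp [Matrix.mul_apply, Fin.sum_univ_two, mul_inv, mul_comm])
  h_x a t ha := by
    rw [mul_inv_eq_iff_eq_mul]
    refine Subtype.ext ?_
    simp only [Matrix.SpecialLinearGroup.coe_mul, ph_sl ha]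
    ext i j; fin_cases i <;> fin_cases j <;>
      simp [coe_slU, Matrix.mul_apply, Fin.sum_univ_two] <;> field_simp
  h_y a t ha := by
    rw [mul_inv_eq_iff_eq_mul]
    refine Subtype.ext ?_
    simp only [Matrix.SpecialLinearGroup.coe_mul, ph_sl ha]
    ext i j; fin_cases i <;> fin_cases j <;>
      simp [coe_slL, Matrix.mul_apply, Fin.sum_univ_two] <;> field_simp
  n_x t := by
    rw [mul_inv_eq_iff_eq_mul]
    refine Subtype.ext ?_
    simp only [Matrix.SpecialLinearGroup.coe_mul, pn_sl (one_ne_zero (α := F))]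
    ext i j; fin_cases i <;> fin_cases j <;> simp [coe_slU, coe_slL, Matrix.mul_apply, Fin.sum_univ_two]

theorem sl_generated (g : Matrix.SpecialLinearGroup (Fin 2) F) :
    g ∈ Subgroup.closure (Set.range (slU (F := F)) ∪ Set.range slL) := by
  set P := Subgroup.closure (Set.range (slU (F := F)) ∪ Set.range slL)
  have key : ∀ g : Matrix.SpecialLinearGroup (Fin 2) F,
      (g : Matrix (Fin 2) (Fin 2) F) 1 0 ≠ 0 → g ∈ P := by
    intro g hc
    have hdet : (g : Matrix (Fin 2) (Fin 2) F) 0 0 * (g : Matrix (Fin 2) (Fin 2) F) 1 1 -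
        (g : Matrix (Fin 2) (Fin 2) F) 0 1 * (g : Matrix (Fin 2) (Fin 2) F) 1 0 = 1 := by
      rw [← Matrix.det_fin_two]; exact g.2
    set c := (g : Matrix (Fin 2) (Fin 2) F) 1 0 with hcdef
    have e : g = slU (((g : Matrix (Fin 2) (Fin 2) F) 0 0 - 1) / c) * slL c *
        slU (((g : Matrix (Fin 2) (Fin 2) F) 1 1 - 1) / c) := by
      refine Subtype.ext ?_
      simp only [Matrix.SpecialLinearGroup.coe_mul]
      ext i j
      fin_cases i <;> fin_cases j <;> simp [coe_slU, coe_slL, Matrix.mul_apply, Fin.sum_univ_two] <;>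
        (try field_simp) <;> first
          | (rw [← hcdef]; ring)
          | linear_combination (-1 : F) * hdet
          | linear_combination hdet
          | ring
    rw [e]
    exact mul_mem (mul_mem (Subgroup.subset_closure (Or.inl ⟨_, rfl⟩))
      (Subgroup.subset_closure (Or.inr ⟨_, rfl⟩))) (Subgroup.subset_closure (Or.inl ⟨_, rfl⟩))
  by_cases hc : (g : Matrix (Fin 2) (Fin 2) F) 1 0 = 0
  · have ha : (g : Matrix (Fin 2) (Fin 2) F) 0 0 ≠ 0 := by
      intro ha
      have := g.2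
      rw [Matrix.det_fin_two, ha, hc] at this
      simp at this
    have h1 : slL 1 * g ∈ P := key _ (by
      simp [coe_slL, Matrix.SpecialLinearGroup.coe_mul, Matrix.mul_apply, Fin.sum_univ_two, hc, ha])
    simpa using mul_mem (inv_mem (Subgroup.subset_closure (Or.inr ⟨1, rfl⟩) : slL (1 : F) ∈ P)) h1
  · exact key g hc

/-- a pair of opposite root subgroups is an image of `SL₂` -/
theorem exists_sl_hom {G : Type*} [Group G] {x y : F → G} (P : PairRel x y) :
    ∃ φ : Matrix.SpecialLinearGroup (Fin 2) F →* G, (∀ t, φ (slU t) = x t) ∧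
      (∀ t, φ (slL t) = y t) ∧ φ.range = Subgroup.closure (Set.range x ∪ Set.range y) := by
  let X : F → Matrix.SpecialLinearGroup (Fin 2) F × G := fun t => (slU t, x t)
  let Y : F → Matrix.SpecialLinearGroup (Fin 2) F × G := fun t => (slL t, y t)
  have hn : ∀ c, pn X Y c = (pn slU slL c, pn x y c) := fun c => rfl
  have hh : ∀ c, ph X Y c = (ph slU slL c, ph x y c) := fun c => rfl
  have S := pairRel_sl (F := F)
  have Q : PairRel X Y :=
    { x_add := fun a b => Prod.ext (S.x_add a b) (P.x_add a b)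
      y_add := fun a b => Prod.ext (S.y_add a b) (P.y_add a b)
      h_mul := fun a b ha hb => Prod.ext (S.h_mul a b ha hb) (P.h_mul a b ha hb)
      h_x := fun a t ha => Prod.ext (S.h_x a t ha) (P.h_x a t ha)
      h_y := fun a t ha => Prod.ext (S.h_y a t ha) (P.h_y a t ha)
      n_x := fun t => Prod.ext (S.n_x t) (P.n_x t) }
  let Γ := Subgroup.closure (Set.range X ∪ Set.range Y)
  let π : ↥Γ →* Matrix.SpecialLinearGroup (Fin 2) F := (MonoidHom.fst _ _).comp Γ.subtype
  have hinj : Function.Injective π := by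
    rw [injective_iff_map_eq_one]
    rintro ⟨g, hg⟩ h1
    change g.1 = 1 at h1
    refine Subtype.ext (show g = 1 from ?_)
    rcases Q.bruhat_of_mem hg with ⟨a, b, ha, rfl⟩ | ⟨a, b, e, ha, rfl⟩
    · have h2 := congrArg (fun g : Matrix.SpecialLinearGroup (Fin 2) F =>
        (g : Matrix (Fin 2) (Fin 2) F)) h1
      simp only [hh, X, Prod.mk_mul_mk, Matrix.SpecialLinearGroup.coe_mul, ph_sl ha,
        Matrix.SpecialLinearGroup.coe_one] at h2
      have h00 : a = 1 := by simpa [slU, Matrix.mul_apply, Fin.sum_univ_two] using congrFun (congrFun h2 0) 0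
      subst h00
      have h01 : b = 0 := by simpa [slU, Matrix.mul_apply, Fin.sum_univ_two] using congrFun (congrFun h2 0) 1
      rw [h01, Q.h_one, Q.x_zero, one_mul]
    · exfalso
      have h2 := congrArg (fun g : Matrix.SpecialLinearGroup (Fin 2) F =>
        (g : Matrix (Fin 2) (Fin 2) F)) h1
      simp only [hh, hn, X, Prod.mk_mul_mk, Matrix.SpecialLinearGroup.coe_mul, ph_sl ha,
        pn_sl (one_ne_zero (α := F)), Matrix.SpecialLinearGroup.coe_one] at h2
      have h10 := congrFun (congrFun h2 1) 0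
      simp [coe_slU, Matrix.mul_apply, Fin.sum_univ_two, ha] at h10
  have hsurj : Function.Surjective π := by
    intro g
    have hle : Subgroup.closure (Set.range (slU (F := F)) ∪ Set.range slL) ≤ π.range := by
      refine (Subgroup.closure_le _).2 ?_
      rintro _ (⟨t, rfl⟩ | ⟨t, rfl⟩)
      · exact ⟨⟨X t, Subgroup.subset_closure (Or.inl ⟨t, rfl⟩)⟩, rfl⟩
      · exact ⟨⟨Y t, Subgroup.subset_closure (Or.inr ⟨t, rfl⟩)⟩, rfl⟩
    exact hle (sl_generated g)
  let e := MulEquiv.ofBijective π ⟨hinj, hsurj⟩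
  let φ : Matrix.SpecialLinearGroup (Fin 2) F →* G :=
    ((MonoidHom.snd _ _).comp Γ.subtype).comp e.symm.toMonoidHom
  have hv : ∀ g : ↥Γ, φ (π g) = g.1.2 := fun g => by
    show (e.symm (e g)).1.2 = _
    rw [e.symm_apply_apply]
  refine ⟨φ, fun t => hv ⟨X t, Subgroup.subset_closure (Or.inl ⟨t, rfl⟩)⟩,
    fun t => hv ⟨Y t, Subgroup.subset_closure (Or.inr ⟨t, rfl⟩)⟩, ?_⟩
  refine le_antisymm ?_ ((Subgroup.closure_le _).2 ?_)
  · rintro _ ⟨g, rfl⟩
    obtain ⟨g', rfl⟩ := hsurj g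
    rw [hv]
    have hle : Γ ≤ (Subgroup.closure (Set.range x ∪ Set.range y)).comap (MonoidHom.snd _ _) := by
      refine (Subgroup.closure_le _).2 ?_
      rintro _ (⟨t, rfl⟩ | ⟨t, rfl⟩)
      · exact Subgroup.subset_closure (Or.inl ⟨t, rfl⟩)
      · exact Subgroup.subset_closure (Or.inr ⟨t, rfl⟩)
    exact hle g'.2
  · rintro _ (⟨t, rfl⟩ | ⟨t, rfl⟩)
    · exact ⟨slU t, hv ⟨X t, Subgroup.subset_closure (Or.inl ⟨t, rfl⟩)⟩⟩
    · exact ⟨slL t, hv ⟨Y t, Subgroup.subset_closure (Or.inr ⟨t, rfl⟩)⟩⟩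

end sl

namespace Good

variable {D : ChevalleyDatum} {F : Type*} [Field F] (hD : Good D)

include hD

theorem pairing_neg {r : ℕ} (hr : r < D.nroots) : D.pairing r (D.neg r) = -2 := by
  rw [← hD.pairing_self hr, pairing_eq, pairing_eq, ← Finset.sum_neg_distrib]
  refine Finset.sum_congr rfl fun k hk => ?_
  rw [hD.cartan_neg hr (Finset.mem_range.1 hk)]
  ring

theorem ng_simple_conj {i : ℕ} (hi : i < D.rank) {e : F} (he : e * e = 1) (u : F) :
    ng D F (D.simple i) e * xg D F (D.simple i) u * (ng D F (D.simple i) e)⁻¹ =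
      xg D F (D.neg (D.simple i)) (-u) := by
  have he0 : e ≠ 0 := left_ne_zero_of_mul_eq_one he
  have hp := hD.simple_lt hi
  rw [hD.ng_eq_hg_mul, show hg D F (D.simple i) e * ng D F (D.simple i) 1 * xg D F (D.simple i) u *
    (hg D F (D.simple i) e * ng D F (D.simple i) 1)⁻¹ = hg D F (D.simple i) e *
      (ng D F (D.simple i) 1 * xg D F (D.simple i) u * (ng D F (D.simple i) 1)⁻¹) *
        (hg D F (D.simple i) e)⁻¹ by group, hD.ng_conj_x hi hp, hD.refl_simple hi,
    (hD.eta_simple hi).1, hD.hg_conj_x hp (hD.neg_lt hp) he0, hD.pairing_neg hp]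
  congr 1
  rw [_root_.zpow_neg, zpow_two, he]
  simp

theorem ng_conj_self {r : ℕ} (hr : r < D.nroots) (t : F) :
    ng D F r 1 * xg D F r t * (ng D F r 1)⁻¹ = xg D F (D.neg r) (-t) := by
  obtain ⟨w, hw, i, hi, rfl⟩ := hD.exists_word hr
  have hp := hD.simple_lt hi
  set e : F := (etaWord D w (D.simple i) : F) with he'
  have he2 : e * e = 1 := by rw [he', ← Int.cast_mul, etaWord_sq, Int.cast_one]
  have h1 : ng D F (actW D w (D.simple i)) 1 =
      nw D F w * ng D F (D.simple i) e * (nw D F w)⁻¹ := by rw [hD.nw_conj_ng hw hp, ← he', he2]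
  have h2 : xg D F (actW D w (D.simple i)) t =
      nw D F w * xg D F (D.simple i) (e * t) * (nw D F w)⁻¹ := by
    rw [hD.nw_conj_x hw hp, ← he', ← mul_assoc, he2, one_mul]
  rw [h1, h2]
  rw [show nw D F w * ng D F (D.simple i) e * (nw D F w)⁻¹ *
      (nw D F w * xg D F (D.simple i) (e * t) * (nw D F w)⁻¹) *
        (nw D F w * ng D F (D.simple i) e * (nw D F w)⁻¹)⁻¹ = nw D F w *
      (ng D F (D.simple i) e * xg D F (D.simple i) (e * t) * (ng D F (D.simple i) e)⁻¹) *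
        (nw D F w)⁻¹ by group, hD.ng_simple_conj hi he2, hD.nw_conj_x hw (hD.neg_lt hp),
    hD.actW_neg hw hp, hD.etaWord_neg hw hp, ← he', mul_neg, ← mul_assoc, he2, one_mul]

theorem pairRel_root {r : ℕ} (hr : r < D.nroots) :
    PairRel (fun t : F => xg D F r t) (fun t : F => xg D F (D.neg r) t) where
  x_add := hD.xg_add r
  y_add := hD.xg_add _
  h_mul _ _ ha hb := hD.hg_mul hr ha hb
  h_x a t ha := by
    show hg D F r a * xg D F r t * (hg D F r a)⁻¹ = _
    rw [hD.hg_conj_x hr hr ha, hD.pairing_self hr, zpow_two]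
  h_y a t ha := by
    show hg D F r a * xg D F (D.neg r) t * (hg D F r a)⁻¹ = _
    rw [hD.hg_conj_x hr (hD.neg_lt hr) ha, hD.pairing_neg hr, _root_.zpow_neg, zpow_two, mul_inv]
  n_x := hD.ng_conj_self hr

end Good

end Cfsg.Agent.ChevCore
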