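/-
Generation of a Chevalley group by the monomial subgroup and a few root subgroups.
-/
import Cfsg.Agent.Lib.ChevCore.Triangular
import Cfsg.Agent.Lib.ChevCore.CommGroup
import Cfsg.Prelude.Def_ChevAutomorphisms

set_option autoImplicit false

namespace Cfsg.Agent.ChevCore

open Cfsg.Lie

/-- one step from a fundamental root to another: a word, or a commutator of two images -/
inductive GenStep where
  | word (w : List ℕ)
  | comm (a b : List ℕ) (e : ℤ)

/-- the check of one step -/
def GenStep.ok (D : ChevalleyDatum) (i k : ℕ) : GenStep → Bool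
  | .word w => w.all (fun a => decide (a < D.rank)) && (actW D w (D.simple i) == D.simple k)
  | .comm a b e => a.all (fun x => decide (x < D.rank)) && b.all (fun x => decide (x < D.rank)) &&
      decide (actW D b (D.simple i) ≠ actW D a (D.simple i)) &&
      decide (actW D b (D.simple i) ≠ D.neg (actW D a (D.simple i))) &&
      decide (D.commTerms (actW D a (D.simple i)) (actW D b (D.simple i)) = [(D.simple k, e, 1, 1)])

/-- the coefficient a step has to invert -/
def GenStep.coeff : GenStep → ℤ
  | .word _ => 1
  | .comm _ _ e => e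

/-- steps from every short fundamental root, with coefficients `±1` or `±c` -/
def shortB (D : ChevalleyDatum) (c : ℕ) (T : List (List GenStep)) : Bool :=
  (List.range D.rank).all fun i => D.isLong (D.simple i) || (List.range D.rank).all fun k =>
    let st := (T.getD i []).getD k (.word [])
    st.ok D i k && (decide (st.coeff.natAbs = 1) || decide (st.coeff.natAbs = c))

/-- every fundamental root is in the orbit of the short one or of the long one -/
def orbitB (D : ChevalleyDatum) (T : List (List GenStep)) : Bool :=
  (List.range D.rank).all fun i => (List.range D.rank).all fun j =>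
    D.isLong (D.simple i) || !D.isLong (D.simple j) || (List.range D.rank).all fun k =>
      (((T.getD i []).getD k (.word [])).ok D i k &&
          decide (((T.getD i []).getD k (.word [])).coeff = 1)) ||
        (((T.getD j []).getD k (.word [])).ok D j k &&
          decide (((T.getD j []).getD k (.word [])).coeff = 1))

variable {D : ChevalleyDatum} {F : Type*} [Field F]

namespace CommGood

variable (hC : CommGood D)

include hC

theorem xg_orbit {P : Subgroup (GL D.Idx F)} (hN : D.monomialSubgroup F ≤ P) {w : List ℕ}
    (hw : ∀ a ∈ w, a < D.rank) {s : ℕ} (hs : s < D.nroots) (hX : ∀ t, xg D F s t ∈ P) (t : F) :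
    xg D F (actW D w s) t ∈ P := by
  have hG := hC.toGood
  have e : xg D F (actW D w s) t =
      nw D F w * xg D F s ((etaWord D w s : F) * t) * (nw D F w)⁻¹ := by
    rw [hG.nw_conj_x hw hs, ← mul_assoc, ← Int.cast_mul, Good.etaWord_sq, Int.cast_one, one_mul]
  rw [e]
  exact mul_mem (mul_mem (hN (hG.nw_mem_N hw)) (hX _)) (inv_mem (hN (hG.nw_mem_N hw)))

theorem xg_step {P : Subgroup (GL D.Idx F)} (hN : D.monomialSubgroup F ≤ P) {i k : ℕ}
    (hi : i < D.rank) (hX : ∀ t, xg D F (D.simple i) t ∈ P) {st : GenStep} (hst : st.ok D i k = true)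
    (he : (st.coeff : F) ≠ 0) (t : F) : xg D F (D.simple k) t ∈ P := by
  have hG := hC.toGood
  have hp := hG.simple_lt hi
  cases st with
  | word w =>
    simp only [GenStep.ok, Bool.and_eq_true, List.all_eq_true, decide_eq_true_eq, beq_iff_eq] at hst
    rw [← hst.2]
    exact hC.xg_orbit hN hst.1 hp hX t
  | comm a b e =>
    simp only [GenStep.ok, Bool.and_eq_true, List.all_eq_true, decide_eq_true_eq] at hst
    obtain ⟨⟨⟨⟨ha, hb⟩, h1⟩, h2⟩, h3⟩ := hst
    have har := hG.actW_lt ha hp
    have hbr := hG.actW_lt hb hp
    have hA := hC.xg_orbit hN ha hp hX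
    have hB := hC.xg_orbit hN hb hp hX
    have h := hC.xg_comm har hbr h1 h2 (-(t / (e : F))) 1
    have hw : wordG D F (D.commWord F (actW D a (D.simple i)) (actW D b (D.simple i))
        (-(t / (e : F))) 1) = xg D F (D.simple k) t := by
      have he' : (e : F) ≠ 0 := he
      simp only [ChevalleyDatum.commWord, h3, wordG, List.map_cons, List.map_nil, List.prod_cons,
        List.prod_nil, mul_one, pow_one, neg_neg]
      congr 1
      field_simp
    rw [← hw, eq_inv_mul_of_mul_eq h.symm]
    exact mul_mem (inv_mem (mul_mem (hA _) (hB _))) (mul_mem (hB _) (hA _))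

/-- generation from all fundamental root groups -/
theorem group_le_of_simple {P : Subgroup (GL D.Idx F)} (hN : D.monomialSubgroup F ≤ P)
    (hX : ∀ k < D.rank, ∀ t, xg D F (D.simple k) t ∈ P) : D.group F ≤ P := by
  have hG := hC.toGood
  rw [hG.group_eq]
  refine XS_le fun r t hr _ => ?_
  obtain ⟨w, hw, i, hi, rfl⟩ := hG.exists_word hr
  exact hC.xg_orbit hN hw (hG.simple_lt hi) (hX i hi) t

theorem group_le_short {c : ℕ} {T : List (List GenStep)} (hB : shortB D c T = true)
    (hc : (c : F) ≠ 0) {i : ℕ} (hi : i < D.rank) (hs : D.isLong (D.simple i) = false) :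
    D.group F ≤ D.monomialSubgroup F ⊔ D.rootSubgroup F (D.simple i) := by
  simp only [shortB, List.all_eq_true, List.mem_range, Bool.or_eq_true, Bool.and_eq_true,
    decide_eq_true_eq] at hB
  have h := (hB i hi).resolve_left (by simp [hs])
  refine hC.group_le_of_simple le_sup_left fun k hk t => ?_
  refine hC.xg_step le_sup_left hi
    (fun u => Subgroup.mem_sup_right (hC.toGood.mem_rootSubgroup.2 ⟨u, rfl⟩)) (h k hk).1 ?_ t
  rcases (h k hk).2 with h1 | h1 <;>
    rcases Int.natAbs_eq_iff.1 h1 with h2 | h2 <;> rw [h2] <;> simp [hc]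

theorem group_le_pair {T : List (List GenStep)} (hB : orbitB D T = true) {i j : ℕ} (hi : i < D.rank)
    (hj : j < D.rank) (hs : D.isLong (D.simple i) = false) (hl : D.isLong (D.simple j) = true) :
    D.group F ≤ D.monomialSubgroup F ⊔ D.rootSubgroup F (D.simple i) ⊔
      D.rootSubgroup F (D.simple j) := by
  simp only [orbitB, List.all_eq_true, List.mem_range, Bool.or_eq_true, Bool.and_eq_true,
    decide_eq_true_eq] at hB
  have h := (hB i hi j hj).resolve_left (by simp [hs, hl])
  refine hC.group_le_of_simple (le_trans le_sup_left le_sup_left) fun k hk t => ?_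
  rcases h k hk with h1 | h1
  · exact hC.xg_step (le_trans le_sup_left le_sup_left) hi
      (fun u => Subgroup.mem_sup_left (Subgroup.mem_sup_right
        (hC.toGood.mem_rootSubgroup.2 ⟨u, rfl⟩))) h1.1 (by rw [h1.2]; simp) t
  · exact hC.xg_step (le_trans le_sup_left le_sup_left) hj
      (fun u => Subgroup.mem_sup_right (hC.toGood.mem_rootSubgroup.2 ⟨u, rfl⟩)) h1.1
      (by rw [h1.2]; simp) t

end CommGood

end Cfsg.Agent.ChevCore
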