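/-
A bound on the heights of roots for the seven data.
-/
import Cfsg.Agent.Lib.ChevCore.SepAll

set_option autoImplicit false

namespace Cfsg.Agent.ChevCore

open Cfsg.Lie

theorem maxHt_bound_of_mem {D : ChevalleyDatum}
    (hD : D ∈ [chevG2, chevB2, chevD4, chevF4, chevE6, chevE7, chevE8]) :
    2 * maxHt D + 1 ≤ ((D.rank + D.nroots : ℕ) : ℤ) := by
  simp only [List.mem_cons, List.not_mem_nil, or_false] at hD
  rcases hD with rfl | rfl | rfl | rfl | rfl | rfl | rfl <;> decide +kernel

end Cfsg.Agent.ChevCore
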