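/-
Certificates of generation from short root subgroups.
-/
import Cfsg.Agent.Lib.ChevCore.ShortRoot
import Cfsg.Prelude.Def_ChevG2
import Cfsg.Prelude.Def_ChevB2
import Cfsg.Prelude.Def_ChevD4
import Cfsg.Prelude.Def_ChevF4
import Cfsg.Prelude.Def_ChevE6
import Cfsg.Prelude.Def_ChevE7
import Cfsg.Prelude.Def_ChevE8

set_option autoImplicit false

namespace Cfsg.Agent.ChevCore

open Cfsg.Lie

/-- steps from short fundamental roots of G2 -/
def shortStepsG2 : List (List GenStep) :=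
  [[.word [], .comm [0] [1] (-3)],
   []]

/-- steps inside the orbits of G2 -/
def orbitStepsG2 : List (List GenStep) :=
  [[.word [], .word []],
   [.word [], .word []]]

/-- steps from short fundamental roots of B2 -/
def shortStepsB2 : List (List GenStep) :=
  [[.word [], .comm [0] [1] (-2)],
   []]

/-- steps inside the orbits of B2 -/
def orbitStepsB2 : List (List GenStep) :=
  [[.word [], .word []],
   [.word [], .word []]]

/-- steps from short fundamental roots of D4 -/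
def shortStepsD4 : List (List GenStep) :=
  [[.word [], .word [0, 1], .word [1, 2, 0, 1], .word [1, 3, 0, 1]],
   [.word [1, 0], .word [], .word [1, 2], .word [1, 3]],
   [.word [1, 2, 0, 1], .word [2, 1], .word [], .word [1, 3, 2, 1]],
   [.word [1, 3, 0, 1], .word [3, 1], .word [1, 3, 2, 1], .word []]]

/-- steps from short fundamental roots of F4 -/
def shortStepsF4 : List (List GenStep) :=
  [[.word [], .word [0, 1], .comm [1, 0] [2, 1] (-2), .comm [2, 1, 0] [3, 2, 1] (-2)],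
   [.word [1, 0], .word [], .comm [1] [2] (-2), .comm [2, 1] [3, 2] (-2)],
   [],
   []]

/-- steps inside the orbits of F4 -/
def orbitStepsF4 : List (List GenStep) :=
  [[.word [], .word [0, 1], .word [], .word []],
   [.word [1, 0], .word [], .word [], .word []],
   [.word [], .word [], .word [], .word [2, 3]],
   [.word [], .word [], .word [3, 2], .word []]]

/-- steps from short fundamental roots of E6 -/
def shortStepsE6 : List (List GenStep) :=
  [[.word [], .word [3, 2, 1, 3, 0, 2], .word [0, 2], .word [2, 3, 0, 2], .word [3, 4, 2, 3, 0, 2], .word [4, 5, 3, 4, 2, 3, 0, 2]],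
   [.word [2, 3, 0, 2, 1, 3], .word [], .word [3, 2, 1, 3], .word [1, 3], .word [3, 4, 1, 3], .word [4, 5, 3, 4, 1, 3]],
   [.word [2, 0], .word [3, 2, 1, 3], .word [], .word [2, 3], .word [3, 4, 2, 3], .word [4, 5, 3, 4, 2, 3]],
   [.word [2, 3, 0, 2], .word [3, 1], .word [3, 2], .word [], .word [3, 4], .word [4, 5, 3, 4]],
   [.word [2, 3, 4, 0, 2, 3], .word [3, 4, 1, 3], .word [3, 4, 2, 3], .word [4, 3], .word [], .word [4, 5]],
   [.word [2, 3, 4, 5, 0, 2, 3, 4], .word [3, 4, 5, 1, 3, 4], .word [3, 4, 5, 2, 3, 4], .word [4, 5, 3, 4], .word [5, 4], .word []]]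

/-- steps from short fundamental roots of E7 -/
def shortStepsE7 : List (List GenStep) :=
  [[.word [], .word [3, 2, 1, 3, 0, 2], .word [0, 2], .word [2, 3, 0, 2], .word [3, 4, 2, 3, 0, 2], .word [4, 5, 3, 4, 2, 3, 0, 2], .word [5, 6, 4, 5, 3, 4, 2, 3, 0, 2]],
   [.word [2, 3, 0, 2, 1, 3], .word [], .word [3, 2, 1, 3], .word [1, 3], .word [3, 4, 1, 3], .word [4, 5, 3, 4, 1, 3], .word [5, 6, 4, 5, 3, 4, 1, 3]],
   [.word [2, 0], .word [3, 2, 1, 3], .word [], .word [2, 3], .word [3, 4, 2, 3], .word [4, 5, 3, 4, 2, 3], .word [5, 6, 4, 5, 3, 4, 2, 3]],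
   [.word [2, 3, 0, 2], .word [3, 1], .word [3, 2], .word [], .word [3, 4], .word [4, 5, 3, 4], .word [5, 6, 4, 5, 3, 4]],
   [.word [2, 3, 4, 0, 2, 3], .word [3, 4, 1, 3], .word [3, 4, 2, 3], .word [4, 3], .word [], .word [4, 5], .word [5, 6, 4, 5]],
   [.word [2, 3, 4, 5, 0, 2, 3, 4], .word [3, 4, 5, 1, 3, 4], .word [3, 4, 5, 2, 3, 4], .word [4, 5, 3, 4], .word [5, 4], .word [], .word [5, 6]],
   [.word [2, 3, 4, 5, 6, 0, 2, 3, 4, 5], .word [3, 4, 5, 6, 1, 3, 4, 5], .word [3, 4, 5, 6, 2, 3, 4, 5], .word [4, 5, 6, 3, 4, 5], .word [5, 6, 4, 5], .word [6, 5], .word []]]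

/-- steps from short fundamental roots of E8 -/
def shortStepsE8 : List (List GenStep) :=
  [[.word [], .word [3, 2, 1, 3, 0, 2], .word [0, 2], .word [2, 3, 0, 2], .word [3, 4, 2, 3, 0, 2], .word [4, 5, 3, 4, 2, 3, 0, 2], .word [5, 6, 4, 5, 3, 4, 2, 3, 0, 2], .word [6, 7, 5, 6, 4, 5, 3, 4, 2, 3, 0, 2]],
   [.word [2, 3, 0, 2, 1, 3], .word [], .word [3, 2, 1, 3], .word [1, 3], .word [3, 4, 1, 3], .word [4, 5, 3, 4, 1, 3], .word [5, 6, 4, 5, 3, 4, 1, 3], .word [6, 7, 5, 6, 4, 5, 3, 4, 1, 3]],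
   [.word [2, 0], .word [3, 2, 1, 3], .word [], .word [2, 3], .word [3, 4, 2, 3], .word [4, 5, 3, 4, 2, 3], .word [5, 6, 4, 5, 3, 4, 2, 3], .word [6, 7, 5, 6, 4, 5, 3, 4, 2, 3]],
   [.word [2, 3, 0, 2], .word [3, 1], .word [3, 2], .word [], .word [3, 4], .word [4, 5, 3, 4], .word [5, 6, 4, 5, 3, 4], .word [6, 7, 5, 6, 4, 5, 3, 4]],
   [.word [2, 3, 4, 0, 2, 3], .word [3, 4, 1, 3], .word [3, 4, 2, 3], .word [4, 3], .word [], .word [4, 5], .word [5, 6, 4, 5], .word [6, 7, 5, 6, 4, 5]],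
   [.word [2, 3, 4, 5, 0, 2, 3, 4], .word [3, 4, 5, 1, 3, 4], .word [3, 4, 5, 2, 3, 4], .word [4, 5, 3, 4], .word [5, 4], .word [], .word [5, 6], .word [6, 7, 5, 6]],
   [.word [2, 3, 4, 5, 6, 0, 2, 3, 4, 5], .word [3, 4, 5, 6, 1, 3, 4, 5], .word [3, 4, 5, 6, 2, 3, 4, 5], .word [4, 5, 6, 3, 4, 5], .word [5, 6, 4, 5], .word [6, 5], .word [], .word [6, 7]],
   [.word [2, 3, 4, 5, 6, 7, 0, 2, 3, 4, 5, 6], .word [3, 4, 5, 6, 7, 1, 3, 4, 5, 6], .word [3, 4, 5, 6, 7, 2, 3, 4, 5, 6], .word [4, 5, 6, 7, 3, 4, 5, 6], .word [5, 6, 7, 4, 5, 6], .word [6, 7, 5, 6], .word [7, 6], .word []]]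

end Cfsg.Agent.ChevCore
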