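/-
The monomial subgroup maps onto the Coxeter group, with kernel the diagonal subgroup.
-/
import Cfsg.Agent.Lib.ChevCore.Models
import Cfsg.Agent.WeylGroup.Basic

set_option autoImplicit false

namespace Cfsg.Agent.ChevCore

open Cfsg.Lie Cfsg.Agent.ChevGroup

namespace Good

variable {D : ChevalleyDatum} (hG : Good D)

include hG

theorem pairing_refl_simple {i j r : ℕ} (hi : i < D.rank) (hj : j < D.rank) (hr : r < D.nroots) :
    D.pairing (D.reflectRoot i r) (D.simple j) =
      D.pairing r (D.simple j) - D.pairing r (D.simple i) * D.cartan i (D.simple j) := by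
  have hp := hG.simple_lt hj
  have h := hG.pairing_refl hi hr (hG.refl_lt hi hp)
  rw [hG.refl_refl hi hp] at h
  rw [h]
  simp only [pairing_eq]
  rw [Finset.sum_mul, ← Finset.sum_sub_distrib]
  refine Finset.sum_congr rfl fun k hk => ?_
  rw [hG.cartan_refl hi hp (Finset.mem_range.1 hk)]
  ring

end Good

section coxeter

variable {D : ChevalleyDatum} (T : Model D) (Mx : CoxeterMatrix (Fin T.tab.l))

/-- the braid relations of the reflections on the roots -/
def braidB : Bool :=
  (List.finRange T.tab.l).all fun i => (List.finRange T.tab.l).all fun j =>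
    (List.finRange T.tab.n).all fun r =>
      decide (T.S.actw ((List.replicate (Mx i j) [i, j]).flatten) r = r)

/-- the Coxeter representation is given by the Cartan matrix, which is non-singular -/
def rowsB (A B : List (List ℤ)) (d : ℤ) : Bool :=
  decide (d ≠ 0) && (List.range T.tab.l).all fun m => (List.range T.tab.l).all fun j =>
    decide (WeylGroup.entry A m j = D.cartan m (D.simple j)) &&
    decide (((List.range T.tab.l).map fun k => WeylGroup.entry B m k * WeylGroup.entry A k j).sum =
      if m = j then d else 0)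

/-- a reflection as a permutation -/
def reflPerm (i : Fin T.tab.l) : Equiv.Perm (Fin T.tab.n) :=
  ⟨T.S.refl i, T.S.refl i, T.S.refl_refl i, T.S.refl_refl i⟩

theorem prod_reflPerm (w : List (Fin T.tab.l)) (r : Fin T.tab.n) :
    (w.map (reflPerm T)).prod r = T.S.actw w r := by
  induction w with
  | nil => rfl
  | cons i w ih =>
    rw [List.map_cons, List.prod_cons, Equiv.Perm.mul_apply, ih]
    rfl

variable {T Mx}

theorem isLiftable_reflPerm (h : braidB T Mx = true) : Mx.IsLiftable (reflPerm T) := by
  intro i j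
  ext r
  simp only [braidB, List.all_eq_true, decide_eq_true_eq] at h
  have h' := h i (List.mem_finRange i) j (List.mem_finRange j) r (List.mem_finRange r)
  rw [← prod_reflPerm, List.map_flatten, List.map_replicate, List.prod_flatten, List.map_replicate,
    List.prod_replicate] at h'
  simpa using congrArg Fin.val h'

theorem actw_eq_of_prod_eq_one (h : braidB T Mx = true) {w : List (Fin T.tab.l)}
    (hw : (w.map Mx.simple).prod = 1) (r : Fin T.tab.n) : T.S.actw w r = r := by
  have e := congrArg (Mx.toCoxeterSystem.lift ⟨reflPerm T, isLiftable_reflPerm h⟩) hw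
  rw [map_one, map_list_prod, List.map_map] at e
  have e' : (w.map (reflPerm T)).prod = 1 := by
    rw [← e]
    congr 1
  rw [← prod_reflPerm, e']
  rfl

variable {A B : List (List ℤ)} {d : ℤ} {cert : List WeylGroup.Level}

theorem prod_eq_one_of_actw (hG : Good D) (hA : WeylGroup.checkRep Mx A = true)
    (hc : WeylGroup.checkAll Mx A cert = true) (hr : rowsB T A B d = true)
    {w : List (Fin T.tab.l)} (hw : ∀ r, T.S.actw w r = r) : (w.map Mx.simple).prod = 1 := by
  let v : Fin T.tab.n → Fin T.tab.l → ℤ := fun r j => D.pairing r.val (D.simple j.val)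
  simp only [rowsB, Bool.and_eq_true, List.all_eq_true, List.mem_range, decide_eq_true_eq] at hr
  have key : ∀ (u : List (Fin T.tab.l)) r,
      WeylGroup.rho Mx A hA (u.map Mx.simple).prod (v r) = v (T.S.actw u r) := by
    intro u r
    induction u with
    | nil => simp
    | cons i u ih =>
      rw [List.map_cons, List.prod_cons, map_mul, Module.End.mul_apply, ih,
        WeylGroup.rho_simple, RootIdx.actw_cons]
      funext j
      simp only [WeylGroup.reflLin, LinearMap.coe_mk, AddHom.coe_mk, v]
      rw [T.refl_eq, hG.pairing_refl_simple (T.lt_l i) (T.lt_l j) (T.lt _),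
        (hr.2 i.val i.isLt j.val j.isLt).1]
  refine WeylGroup.rho_injective hA hc ?_
  rw [map_one]
  set L := WeylGroup.rho Mx A hA (w.map Mx.simple).prod with hL
  refine (Pi.basisFun ℤ (Fin T.tab.l)).ext fun m => ?_
  have hrow : ∀ k : Fin T.tab.l, v (T.S.simple k) = fun j : Fin T.tab.l => WeylGroup.entry A k j := by
    intro k
    funext j
    simp only [v]
    rw [T.simple_eq, hG.pairing_simple (T.lt_l k), (hr.2 k.val k.isLt j.val j.isLt).1]
  have hsum : d • (Pi.basisFun ℤ (Fin T.tab.l) m) =
      ∑ k : Fin T.tab.l, WeylGroup.entry B m k • v (T.S.simple k) := by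
    funext j
    rw [Finset.sum_apply]
    simp only [hrow, Pi.smul_apply, smul_eq_mul, Pi.basisFun_apply]
    have h2 := (hr.2 m.val m.isLt j.val j.isLt).2
    rw [list_sum_range, Finset.sum_range] at h2
    rw [h2, Pi.single_apply]
    by_cases hmj : j = m
    · subst hmj; simp
    · simp [hmj, show m.val ≠ j.val from fun e => hmj (Fin.ext e.symm)]
  have h3 : L (d • Pi.basisFun ℤ (Fin T.tab.l) m) = d • Pi.basisFun ℤ (Fin T.tab.l) m := by
    rw [hsum, map_sum]
    exact Finset.sum_congr rfl fun k _ => by rw [map_smul, hL, key, hw]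
  rw [map_smul] at h3
  exact smul_right_injective _ hr.1 h3

section hom

variable {F : Type*} [Field F] (hC : CommGood D)

include hC in
/-- the map onto the Coxeter group -/
theorem exists_coxeter_hom (hA : WeylGroup.checkRep Mx A = true)
    (hc : WeylGroup.checkAll Mx A cert = true) (hb : braidB T Mx = true)
    (hr : rowsB T A B d = true) :
    ∃ φ : ↥(D.monomialSubgroup F) →* Mx.Group, Function.Surjective φ ∧
      φ.ker = (D.diagonalSubgroup F).subgroupOf (D.monomialSubgroup F) ∧
      ∀ (i : Fin T.tab.l) (g : ↥(D.monomialSubgroup F)),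
        ((g : GL D.Idx F) : Matrix D.Idx D.Idx F) = D.nMat F (D.simple i) 1 → φ g = Mx.simple i := by
  set K := Chev54.rels hC F
  set R := T.rel K
  set M := T.shapeR K
  have hG := hC.toGood
  -- a decomposition of an element of `N`
  let Dec : GL D.Idx F → List (Fin T.tab.l) → Prop := fun g w =>
    ∃ h ∈ R.H, g = ((h * R.nw w : ↥(D.group F)) : GL D.Idx F)
  have hdec : ∀ g ∈ D.monomialSubgroup F, ∃ w, Dec g w := by
    intro g hg
    rw [← N_map T hC] at hg
    obtain ⟨g', hg', rfl⟩ := hg
    obtain ⟨h, hh, w, rfl⟩ := mem_engN R hg'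
    exact ⟨w, h, hh, rfl⟩
  have hwd : ∀ {g w v}, Dec g w → Dec g v → (w.map Mx.simple).prod = (v.map Mx.simple).prod := by
    rintro g w v ⟨h, hh, e⟩ ⟨k, hk, e'⟩
    have e1 : h * R.nw w = k * R.nw v := Subtype.ext (e.symm.trans e')
    have hB : R.nw (w ++ v.reverse) ∈ R.B := by
      obtain ⟨l, hl, e2⟩ := nw_inv_eq R v
      have : R.nw (w ++ v.reverse) = (h⁻¹ * k) * (R.nw v * l⁻¹ * (R.nw v)⁻¹) := by
        rw [R.nw_append, show R.nw w = h⁻¹ * (k * R.nw v) by rw [← e1]; group,
          show R.nw v.reverse = l⁻¹ * (R.nw v)⁻¹ by rw [e2]; group]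
        group
      rw [this]
      exact R.H_le_B (mul_mem (mul_mem (inv_mem hh) hk) (nw_conj_mem_H R v (inv_mem hl)))
    have h1 := prod_eq_one_of_actw hG hA hc hr
      (actw_eq_self_of_H M (fun r t => T.x_ne K r t) hB)
    have hvv : (v.reverse.map Mx.simple).prod = ((v.map Mx.simple).prod)⁻¹ := by
      rw [List.prod_inv_reverse, List.map_map, List.map_reverse]
      congr 2
      refine List.map_congr_left fun i _ => ?_
      rw [Function.comp_apply, ← Mx.toCoxeterSystem_simple]
      exact (CoxeterSystem.inv_simple _ i).symm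
    rw [List.map_append, List.prod_append, hvv, mul_inv_eq_one] at h1
    exact h1
  choose W hW using fun g : ↥(D.monomialSubgroup F) => hdec g.1 g.2
  let φ : ↥(D.monomialSubgroup F) →* Mx.Group := MonoidHom.mk' (fun g => ((W g).map Mx.simple).prod)
    fun a b => by
      obtain ⟨h, hh, e⟩ := hW a
      obtain ⟨k, hk, e'⟩ := hW b
      rw [← List.prod_append, ← List.map_append]
      refine hwd (hW (a * b)) ⟨h * (R.nw (W a) * k * (R.nw (W a))⁻¹),
        mul_mem hh (nw_conj_mem_H R _ hk), ?_⟩
      rw [Subgroup.coe_mul, e, e', ← Subgroup.coe_mul]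
      congr 1
      rw [R.nw_append]; group
  have hφ : ∀ g w, Dec g.1 w → φ g = (w.map Mx.simple).prod := fun g w h => hwd (hW g) h
  refine ⟨φ, fun x => ?_, ?_, fun i g hg => ?_⟩
  · obtain ⟨w, rfl⟩ := Mx.toCoxeterSystem.wordProd_surjective x
    have hm : ((R.nw w : ↥(D.group F)) : GL D.Idx F) ∈ D.monomialSubgroup F :=
      N_map (F := F) T hC ▸ ⟨_, nw_mem_engN R w, rfl⟩
    refine ⟨⟨_, hm⟩, ?_⟩
    rw [hφ ⟨_, hm⟩ w ⟨1, one_mem _, by rw [one_mul]⟩, CoxeterSystem.wordProd,
      Mx.toCoxeterSystem_simple]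
  · ext g
    rw [MonoidHom.mem_ker, Subgroup.mem_subgroupOf, ← T.H_map K]
    constructor
    · intro h1
      obtain ⟨h, hh, e⟩ := hW g
      have h2 := M.nw_mem_H (fun r t => T.x_ne K r t) (actw_eq_of_prod_eq_one hb h1)
      exact ⟨h * R.nw (W g), mul_mem hh h2, e.symm⟩
    · rintro ⟨h, hh, e⟩
      rw [hφ g [] ⟨h, hh, by rw [R.nw_nil, mul_one, ← e]; rfl⟩]
      rfl
  · rw [hφ g [i] ⟨1, one_mem _, Units.ext ?_⟩]
    · simp
    · rw [hg, one_mul, val_engine_nw T hC, ← hG.val_ng]
      simp [nw]

end hom

end coxeter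

end Cfsg.Agent.ChevCore
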